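import Cfsg.Agent.Lib.LocalEven.Yoshida
import Mathlib.GroupTheory.Perm.Cycle.Type

/-!
# Transfer and sign arguments around an involution of a simple group
-/

set_option autoImplicit false
set_option linter.style.haveILetI false

namespace CfsgLib.Involution.TwoTimesPSL

open Subgroup

section Conj

variable {G : Type*} [Group G]

/-- Two involutions in one coset of a subgroup of odd order are conjugate. -/
theorem exists_conj_of_odd_mul {x y : G} (hx : x * x = 1) (hy : y * y = 1)
    (h : Odd (orderOf (x * y))) : ∃ w ∈ Subgroup.zpowers (x * y), w * x * w⁻¹ = y := by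
  obtain ⟨m, hm⟩ := h
  set u := x * y with hu
  refine ⟨u ^ m, ⟨m, by simp⟩, ?_⟩
  have hxu : x * u * x = u⁻¹ := by
    rw [hu, show (x * y)⁻¹ = y⁻¹ * x⁻¹ by group, inv_eq_of_mul_eq_one_right hx,
      inv_eq_of_mul_eq_one_right hy, ← mul_assoc, hx, one_mul]
  clear_value u
  have hxp : ∀ n : ℕ, x * u ^ n = (u ^ n)⁻¹ * x := by
    intro n
    induction n with
    | zero => simp
    | succ n ih =>
      have h2 : x * u = u⁻¹ * x := by
        rw [← hxu, mul_assoc, hx, mul_one]
      calc x * u ^ (n + 1) = x * u ^ n * u := by rw [pow_succ, mul_assoc]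
        _ = (u ^ n)⁻¹ * (x * u) := by rw [ih, mul_assoc]
        _ = (u ^ n)⁻¹ * u⁻¹ * x := by rw [h2, mul_assoc]
        _ = (u ^ (n + 1))⁻¹ * x := by rw [pow_succ', mul_inv_rev]
  have h3 : x * (u ^ m)⁻¹ = u ^ m * x := by
    have := hxp m
    calc x * (u ^ m)⁻¹ = u ^ m * ((u ^ m)⁻¹ * x) * (u ^ m)⁻¹ := by group
      _ = u ^ m * x := by rw [← this]; group
  have h4 : u ^ (2 * m + 1) = 1 := hm ▸ pow_orderOf_eq_one u
  calc u ^ m * x * (u ^ m)⁻¹ = u ^ (2 * m) * x := by rw [mul_assoc, h3, ← mul_assoc, ← pow_add]; ring_nf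
    _ = u⁻¹ * x := by
      rw [pow_succ] at h4
      rw [eq_inv_of_mul_eq_one_left h4]
    _ = y := by
      rw [hu, mul_inv_rev, inv_eq_of_mul_eq_one_right hx, inv_eq_of_mul_eq_one_right hy, mul_assoc,
        hx, mul_one]

end Conj

section Sign

variable {α : Type*} [Fintype α] [DecidableEq α]

/-- The sign of a permutation of order at most two. -/
theorem sign_involution (σ : Equiv.Perm α) (h : σ * σ = 1) :
    ∃ k, σ.support.card = 2 * k ∧ Equiv.Perm.sign σ = (-1) ^ k := by
  have hall : ∀ n ∈ σ.cycleType, n = 2 := by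
    intro n hn
    have h1 := (Equiv.Perm.dvd_of_mem_cycleType hn).trans
      (orderOf_dvd_of_pow_eq_one (show σ ^ 2 = 1 by rw [pow_two, h]))
    have h2 := Equiv.Perm.two_le_of_mem_cycleType hn
    have := Nat.le_of_dvd two_pos h1
    omega
  have hsum := σ.sum_cycleType
  rw [Multiset.eq_replicate_card.mpr hall, Multiset.sum_replicate, smul_eq_mul] at hsum
  refine ⟨Multiset.card σ.cycleType, by omega, ?_⟩
  rw [Equiv.Perm.sign_of_cycleType, σ.sum_cycleType, pow_add, Even.neg_one_pow ⟨_, by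
    rw [← hsum, mul_two]⟩, one_mul]

end Sign

/-- A group of twice odd order has a character which is `-1` at every involution. -/
theorem exists_parity (Y : Type*) [Group Y] [Finite Y] {m : ℕ} (hm : Odd m)
    (hY : Nat.card Y = 2 * m) : ∃ ε : Y →* ℤˣ, ∀ s : Y, s * s = 1 → s ≠ 1 → ε s = -1 := by
  classical
  haveI := Fintype.ofFinite Y
  refine ⟨Equiv.Perm.sign.comp (MulAction.toPermHom Y Y), fun s hs hs1 => ?_⟩
  set σ : Equiv.Perm Y := MulAction.toPermHom Y Y s with hσ
  have hσ2 : σ * σ = 1 := by rw [hσ, ← map_mul, hs, map_one]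
  obtain ⟨k, hk, hsign⟩ := sign_involution σ hσ2
  have hsupp : σ.support = Finset.univ := by
    ext y
    simp only [Equiv.Perm.mem_support, Finset.mem_univ, iff_true, hσ, MulAction.toPermHom_apply,
      MulAction.toPerm_apply, smul_eq_mul]
    exact fun e => hs1 (mul_eq_right.1 e)
  rw [hsupp, Finset.card_univ, ← Nat.card_eq_fintype_card, hY] at hk
  show Equiv.Perm.sign σ = -1
  rw [hsign, show k = m by omega, hm.neg_one_pow]

section Simple

variable {G : Type*} [Group G] [Finite G]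

omit [Finite G] in
/-- A homomorphism from a nonabelian simple group to an abelian group is trivial. -/
theorem hom_trivial [IsSimpleGroup G] (hG : ¬ IsMulCommutative G) {A : Type*} [CommGroup A]
    (V : G →* A) (g : G) : V g = 1 := by
  rcases (MonoidHom.normal_ker V).eq_bot_or_eq_top with h | h
  · refine absurd ⟨⟨fun a b => ?_⟩⟩ hG
    exact (MonoidHom.ker_eq_bot_iff V).1 h (by rw [map_mul, map_mul, mul_comm])
  · exact MonoidHom.mem_ker.1 (h ▸ Subgroup.mem_top g)

/-- Counting the fixed cosets of `t` by conjugates of `t`. -/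
theorem count_eq (t : G) (H : Subgroup G) (p : G → Prop)
    (hp : ∀ k ∈ H, ∀ x, p (k⁻¹ * x * k) ↔ p x) :
    Nat.card {c : G ⧸ H // p (c.out⁻¹ * t * c.out)} * Nat.card H =
      Nat.card {x : G // IsConj t x ∧ p x} * Nat.card (centralizer ({t} : Set G)) := by
  classical
  have hout : ∀ g : G, p ((g : G ⧸ H).out⁻¹ * t * (g : G ⧸ H).out) ↔ p (g⁻¹ * t * g) := by
    intro g
    obtain ⟨k, hk⟩ := QuotientGroup.mk_out_eq_mul H g
    rw [hk, show (g * (k : G))⁻¹ * t * (g * k) = (k : G)⁻¹ * (g⁻¹ * t * g) * k by group]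
    exact hp _ k.2 _
  let e1 : {c : G ⧸ H // p (c.out⁻¹ * t * c.out)} × H ≃ {g : G // p (g⁻¹ * t * g)} :=
    { toFun := fun a => ⟨a.1.1.out * a.2, (hout _).1 (by
        rw [QuotientGroup.mk_mul_of_mem _ a.2.2, QuotientGroup.out_eq']; exact a.1.2)⟩
      invFun := fun g => (⟨(g.1 : G ⧸ H), (hout _).2 g.2⟩, ⟨(g.1 : G ⧸ H).out⁻¹ * g.1,
        QuotientGroup.eq.1 (QuotientGroup.out_eq' _)⟩)
      left_inv := fun a => by
        have e : ((a.1.1.out * a.2 : G) : G ⧸ H) = a.1.1 := by
          rw [QuotientGroup.mk_mul_of_mem _ a.2.2, QuotientGroup.out_eq']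
        refine Prod.ext (Subtype.ext e) (Subtype.ext ?_)
        show ((a.1.1.out * a.2 : G) : G ⧸ H).out⁻¹ * (a.1.1.out * a.2) = a.2
        rw [e, inv_mul_cancel_left]
      right_inv := fun g => Subtype.ext (mul_inv_cancel_left _ _) }
  have hx : ∀ x : {x : G // IsConj t x ∧ p x}, ∃ g : G, g⁻¹ * t * g = x.1 := fun x => by
    obtain ⟨g, hg⟩ := isConj_iff.1 x.2.1
    exact ⟨g⁻¹, by rw [inv_inv]; exact hg⟩
  choose f hf using hx
  let e2 : {x : G // IsConj t x ∧ p x} × centralizer ({t} : Set G) ≃ {g : G // p (g⁻¹ * t * g)} :=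
    { toFun := fun a => ⟨a.2 * f a.1, by
        rw [show ((a.2 : G) * f a.1)⁻¹ * t * ((a.2 : G) * f a.1) =
          (f a.1)⁻¹ * ((a.2 : G)⁻¹ * (t * a.2)) * f a.1 by group,
          ← mem_centralizer_singleton_iff.1 a.2.2, inv_mul_cancel_left, hf]
        exact a.1.2.2⟩
      invFun := fun g => (⟨g.1⁻¹ * t * g.1, isConj_iff.2 ⟨g.1⁻¹, by rw [inv_inv]⟩, g.2⟩,
        ⟨g.1 * (f ⟨g.1⁻¹ * t * g.1, isConj_iff.2 ⟨g.1⁻¹, by rw [inv_inv]⟩, g.2⟩)⁻¹, by
          rw [mem_centralizer_singleton_iff]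
          set x : {x : G // IsConj t x ∧ p x} :=
            ⟨g.1⁻¹ * t * g.1, isConj_iff.2 ⟨g.1⁻¹, by rw [inv_inv]⟩, g.2⟩
          have h1 : (f x)⁻¹ * t * f x = g.1⁻¹ * t * g.1 := hf x
          calc g.1 * (f x)⁻¹ * t = g.1 * ((f x)⁻¹ * t * f x) * (f x)⁻¹ := by group
            _ = g.1 * (g.1⁻¹ * t * g.1) * (f x)⁻¹ := by rw [h1]
            _ = t * (g.1 * (f x)⁻¹) := by group⟩)
      left_inv := fun a => by
        have e : (a.2.1 * f a.1)⁻¹ * t * (a.2.1 * f a.1) = a.1.1 := by
          rw [show ((a.2 : G) * f a.1)⁻¹ * t * ((a.2 : G) * f a.1) =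
            (f a.1)⁻¹ * ((a.2 : G)⁻¹ * (t * a.2)) * f a.1 by group,
            ← mem_centralizer_singleton_iff.1 a.2.2, inv_mul_cancel_left, hf]
        refine Prod.ext (Subtype.ext e) (Subtype.ext ?_)
        show (a.2.1 * f a.1) * (f _)⁻¹ = a.2.1
        rw [show f ⟨_, _⟩ = f a.1 from congrArg f (Subtype.ext e), mul_inv_cancel_right]
      right_inv := fun g => Subtype.ext (inv_mul_cancel_right _ _) }
  rw [← Nat.card_prod, ← Nat.card_prod, Nat.card_congr e1, Nat.card_congr e2]

open scoped Classical in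
/-- The value of `φ` at an element of `G`, trivial outside `H`. -/
noncomputable def val {H : Subgroup G} {A : Type*} [CommGroup A] (φ : H →* A) (y : G) : A :=
  if h : y ∈ H then φ ⟨y, h⟩ else 1

omit [Finite G] in
theorem val_of_mem {H : Subgroup G} {A : Type*} [CommGroup A] (φ : H →* A) {y : G} (h : y ∈ H) :
    val φ y = φ ⟨y, h⟩ := dif_pos h

omit [Finite G] in
theorem mem_of_val_ne {H : Subgroup G} {A : Type*} [CommGroup A] {φ : H →* A} {y : G}
    (h : val φ y ≠ 1) : y ∈ H := by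
  by_contra hn; exact h (dif_neg hn)

omit [Finite G] in
theorem val_conj {H : Subgroup G} {A : Type*} [CommGroup A] (φ : H →* A) {k : G} (hk : k ∈ H)
    (y : G) : val φ (k⁻¹ * y * k) = val φ y := by
  by_cases hy : y ∈ H
  · have hy' : k⁻¹ * y * k ∈ H := mul_mem (mul_mem (inv_mem hk) hy) hk
    rw [val_of_mem φ hy, val_of_mem φ hy',
      show (⟨k⁻¹ * y * k, hy'⟩ : H) = (⟨k, hk⟩ : H)⁻¹ * ⟨y, hy⟩ * ⟨k, hk⟩ from rfl, map_mul,
      map_mul, map_inv, mul_comm (φ ⟨k, hk⟩)⁻¹, inv_mul_cancel_right]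
  · have hy' : k⁻¹ * y * k ∉ H := fun h => hy (by
      have := mul_mem (mul_mem hk h) (inv_mem hk)
      simpa [mul_assoc] using this)
    simp [val, hy, hy']

variable [IsSimpleGroup G]

/-- An involution of a nonabelian simple group cannot have an odd number of fixed cosets with a
given nontrivial value, all others carrying the trivial one. -/
theorem absurd_of_odd (hG : ¬ IsMulCommutative G) {t : G} (ht : orderOf t = 2) {H : Subgroup G}
    {A : Type*} [CommGroup A] (φ : H →* A) {a : A} (ha : a ≠ 1) (ha2 : a * a = 1)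
    (hv : ∀ x, IsConj t x → val φ x = 1 ∨ val φ x = a)
    (hodd : Odd (Nat.card {c : G ⧸ H // val φ (c.out⁻¹ * t * c.out) = a})) : False := by
  classical
  haveI := Fintype.ofFinite (G ⧸ H)
  apply ha
  have hV := hom_trivial hG (MonoidHom.transfer φ) t
  rw [CfsgLib.LocalEven.Yoshida.transfer_eq_fixed φ t 1 (fun g l hl hl1 h => by
    rw [ht] at hl
    rcases (Nat.dvd_prime Nat.prime_two).1 hl with rfl | rfl
    · omega
    · rw [one_pow, ← map_one φ]
      refine congrArg φ (Subtype.ext ?_)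
      show g⁻¹ * t ^ 2 * g = 1
      rw [← ht, pow_orderOf_eq_one]; group), one_pow, one_mul] at hV
  rw [Finset.prod_congr rfl (g := fun c => if val φ (c.out⁻¹ * t * c.out) = a then a else 1)
    (fun c _ => by
      have hc : IsConj t (c.out⁻¹ * t * c.out) := isConj_iff.2 ⟨c.out⁻¹, by rw [inv_inv]⟩
      have hval : (if h : c.out⁻¹ * t * c.out ∈ H then φ ⟨_, h⟩ / 1 else 1) =
          val φ (c.out⁻¹ * t * c.out) := by simp only [val, div_one]
      rw [hval]
      rcases hv _ hc with e | e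
      · rw [e, if_neg (fun h => ha h.symm)]
      · rw [e, if_pos rfl]),
    ← Finset.prod_filter, Finset.prod_const] at hV
  rw [Nat.card_eq_fintype_card, Fintype.card_subtype] at hodd
  obtain ⟨m, hm⟩ := hodd
  rw [hm, pow_succ, pow_mul, pow_two, ha2, one_pow, one_mul] at hV
  exact hV

/-- A subgroup of odd index has no character taking a fixed nontrivial value at all the conjugates
of an involution in it. -/
theorem absurd_odd_index (hG : ¬ IsMulCommutative G) {t : G} (ht : orderOf t = 2) {H : Subgroup G}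
    (hi : Odd H.index) {A : Type*} [CommGroup A] (φ : H →* A) {a : A} (ha : a ≠ 1) (ha2 : a * a = 1)
    (hv : ∀ x (h : x ∈ H), IsConj t x → φ ⟨x, h⟩ = a) : False := by
  classical
  haveI : Fact (Nat.Prime 2) := ⟨Nat.prime_two⟩
  refine absurd_of_odd hG ht φ ha ha2 (fun x hx => ?_) ?_
  · by_cases h : x ∈ H
    · exact Or.inr (by rw [val_of_mem φ h]; exact hv x h hx)
    · exact Or.inl (dif_neg h)
  · have hfix : ∀ c : G ⧸ H, val φ (c.out⁻¹ * t * c.out) = a ↔ t • c = c := by
      intro c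
      have h1 : t • c = c ↔ c.out⁻¹ * t * c.out ∈ H := by
        conv_lhs => rw [← QuotientGroup.out_eq' c, MulAction.Quotient.smul_mk, smul_eq_mul,
          eq_comm, QuotientGroup.eq, ← mul_assoc]
      rw [h1]
      refine ⟨fun h => mem_of_val_ne (h ▸ ha), fun h => ?_⟩
      rw [val_of_mem φ h]
      exact hv _ h (isConj_iff.2 ⟨c.out⁻¹, by rw [inv_inv]⟩)
    rw [Nat.card_congr (Equiv.subtypeEquivRight hfix)]
    have hP : IsPGroup 2 (Subgroup.zpowers t) :=
      IsPGroup.of_card (n := 1) (by rw [Nat.card_zpowers, ht, pow_one])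
    have hmod := hP.card_modEq_card_fixedPoints (G ⧸ H)
    have he : Nat.card (MulAction.fixedPoints (Subgroup.zpowers t) (G ⧸ H)) =
        Nat.card {c : G ⧸ H // t • c = c} := by
      refine Nat.card_congr (Equiv.subtypeEquivRight fun c => ?_)
      refine ⟨fun h => h ⟨t, mem_zpowers t⟩, fun h => ?_⟩
      rintro ⟨_, n, rfl⟩
      show (t ^ n) • c = c
      exact (MulAction.stabilizer G c).zpow_mem h n
    rw [he, ← Subgroup.index_eq_card] at hmod
    rw [Nat.odd_iff] at hi ⊢
    exact hmod ▸ hi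

/-- The sign of the action on cosets of the centraliser. -/
theorem index_modEq (hG : ¬ IsMulCommutative G) {t : G} (ht : orderOf t = 2) :
    (centralizer ({t} : Set G)).index % 4 =
      Nat.card {x : G // IsConj t x ∧ x ∈ centralizer ({t} : Set G)} % 4 := by
  classical
  set C := centralizer ({t} : Set G)
  haveI := Fintype.ofFinite (G ⧸ C)
  set σ : Equiv.Perm (G ⧸ C) := MulAction.toPermHom G (G ⧸ C) t with hσ
  have hσ2 : σ * σ = 1 := by
    rw [hσ, ← map_mul, ← pow_two, ← ht, pow_orderOf_eq_one, map_one]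
  obtain ⟨k, hk, hsign⟩ := sign_involution σ hσ2
  have h1 : (Equiv.Perm.sign.comp (MulAction.toPermHom G (G ⧸ C))) t = 1 := hom_trivial hG _ t
  have hev : Even k := by
    have : ((-1) ^ k : ℤˣ) = 1 := hsign ▸ h1
    exact (neg_one_pow_eq_one_iff_even (by decide)).1 this
  have hcount := count_eq t C (fun x => x ∈ C) (fun k hk x =>
    ⟨fun h => by simpa [mul_assoc] using mul_mem (mul_mem hk h) (inv_mem hk),
      fun h => mul_mem (mul_mem (inv_mem hk) h) hk⟩)
  have hX : Nat.card {c : G ⧸ C // c.out⁻¹ * t * c.out ∈ C} =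
      Nat.card {x : G // IsConj t x ∧ x ∈ C} :=
    Nat.eq_of_mul_eq_mul_right Nat.card_pos hcount
  rw [← hX]
  have hsup : Nat.card {c : G ⧸ C // c.out⁻¹ * t * c.out ∈ C} = (σ.supportᶜ).card := by
    rw [Nat.card_eq_fintype_card, Fintype.card_subtype]
    refine congrArg _ (Finset.ext fun c => ?_)
    simp only [Finset.mem_filter, Finset.mem_univ, true_and, Finset.mem_compl,
      Equiv.Perm.mem_support, ne_eq, not_not, hσ, MulAction.toPermHom_apply, MulAction.toPerm_apply]
    conv_rhs => rw [← QuotientGroup.out_eq' c, MulAction.Quotient.smul_mk, smul_eq_mul, eq_comm,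
      QuotientGroup.eq, ← mul_assoc]
  rw [hsup, Finset.card_compl, Subgroup.index_eq_card, Nat.card_eq_fintype_card]
  have hle := Finset.card_le_univ σ.support
  obtain ⟨j, rfl⟩ := hev
  omega

end Simple

end CfsgLib.Involution.TwoTimesPSL
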