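import Cfsg.Agent.Lib.Involution.TwoTimesPSL.Transfer
import Mathlib.GroupTheory.Sylow

/-!
# The set-up: an involution whose centraliser is `2 × L` modulo its core
-/

set_option autoImplicit false
set_option linter.style.haveILetI false
set_option linter.unusedSectionVars false

namespace CfsgLib.Involution.TwoTimesPSL

open Subgroup

variable {G : Type*} [Group G]

/-- `T` is a Sylow 2-subgroup of `C(t)`, equal to `⟨t⟩ × D`, where `D = T ∩ K` and `K` is normal in
`C(t)` with a single class of involutions. -/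
structure Ctx (t : G) (T D K : Subgroup G) : Prop where
  tsq : t * t = 1
  tne : t ≠ 1
  T_le : T ≤ centralizer ({t} : Set G)
  T_two : IsPGroup 2 T
  sylow : ∀ Q : Subgroup G, IsPGroup 2 Q → Q ≤ centralizer ({t} : Set G) →
    ∃ c ∈ centralizer ({t} : Set G), ∀ x ∈ Q, c * x * c⁻¹ ∈ T
  tT : t ∈ T
  tK : t ∉ K
  K_le : K ≤ centralizer ({t} : Set G)
  K_normal : ∀ c ∈ centralizer ({t} : Set G), ∀ k ∈ K, c * k * c⁻¹ ∈ K
  D_eq : D = T ⊓ K
  split : ∀ x ∈ T, x ∈ D ∨ t * x ∈ D
  conjK : ∀ x ∈ K, ∀ y ∈ K, x * x = 1 → x ≠ 1 → y * y = 1 → y ≠ 1 →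
    ∃ c ∈ centralizer ({t} : Set G), c * x * c⁻¹ = y
  parity : ∃ χ : centralizer ({t} : Set G) →* ℤˣ,
    (∀ c : centralizer ({t} : Set G), (c : G) = t → χ c = -1) ∧
      ∀ c : centralizer ({t} : Set G), (c : G) ∈ K → χ c = 1

theorem odd_index_of_normalizer [Finite G] {p : ℕ} [hp : Fact p.Prime] {H : Subgroup G}
    (hH : IsPGroup p H) (h : ¬ p ∣ H.relIndex (normalizer (H : Set G))) : ¬ p ∣ H.index := by
  obtain ⟨n, hn⟩ := IsPGroup.iff_card.1 hH
  intro hd
  apply h
  have hmod := Sylow.card_quotient_normalizer_modEq_card_quotient hn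
  rw [← Subgroup.index_eq_card, ← Subgroup.index_eq_card] at hmod
  exact Nat.modEq_zero_iff_dvd.1 (hmod.trans (Nat.modEq_zero_iff_dvd.2 hd))

/-- A 2-group element centralising `t`. -/
theorem comm_of_mem {t x : G} (h : x ∈ centralizer ({t} : Set G)) : x * t = t * x :=
  mem_centralizer_singleton_iff.1 h

theorem mem_cen {t x : G} (h : x * t = t * x) : x ∈ centralizer ({t} : Set G) :=
  mem_centralizer_singleton_iff.2 h

namespace Ctx

variable [Finite G] {t : G} {T D K : Subgroup G} (h : Ctx t T D K)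
include h

theorem tC : t ∈ centralizer ({t} : Set G) := mem_cen rfl

theorem torder : orderOf t = 2 := orderOf_eq_prime (by rw [pow_two, h.tsq]) h.tne

theorem tinv : t⁻¹ = t := inv_eq_of_mul_eq_one_right h.tsq

theorem D_le_T : D ≤ T := h.D_eq ▸ inf_le_left

theorem D_le_K : D ≤ K := h.D_eq ▸ inf_le_right

theorem D_le_C : D ≤ centralizer ({t} : Set G) := h.D_le_T.trans h.T_le

theorem mem_D {x : G} (hT : x ∈ T) (hK : x ∈ K) : x ∈ D := h.D_eq ▸ ⟨hT, hK⟩

theorem t_notD : t ∉ D := fun hd => h.tK (h.D_le_K hd)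

theorem comm {x : G} (hx : x ∈ T) : x * t = t * x := comm_of_mem (h.T_le hx)

theorem tmul_sq {x : G} (hx : x ∈ T) : (t * x) * (t * x) = x * x := by
  rw [← mul_assoc, mul_assoc t x t, h.comm hx, ← mul_assoc, h.tsq, one_mul]

/-- `T` is twice `D`. -/
theorem card_T : Nat.card T = 2 * Nat.card D := by
  classical
  let e : Bool × D ≃ T :=
    { toFun := fun a => ⟨(if a.1 then t else 1) * a.2, mul_mem (by split; exacts [h.tT, one_mem _])
        (h.D_le_T a.2.2)⟩
      invFun := fun x =>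
        if hx : (x : G) ∈ D then (false, ⟨x, hx⟩) else (true, ⟨t * x, (h.split x x.2).resolve_left hx⟩)
      left_inv := fun a => by
        obtain ⟨b, d⟩ := a
        cases b
        · have : (1 * d : G) ∈ D := by rw [one_mul]; exact d.2
          simp [d.2]
        · have : (t * d : G) ∉ D := fun hd => h.t_notD ((mul_mem_cancel_right d.2).1 hd)
          simp [this, ← mul_assoc, h.tsq]
      right_inv := fun x => by
        by_cases hx : (x : G) ∈ D
        · simp [hx]
        · simp [hx, ← mul_assoc, h.tsq] }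
  rw [← Nat.card_congr e, Nat.card_prod, Nat.card_eq_fintype_card (α := Bool), Fintype.card_bool]

theorem conj_into {x : G} (hx : x * x = 1) (hxC : x ∈ centralizer ({t} : Set G)) :
    ∃ c ∈ centralizer ({t} : Set G), c * x * c⁻¹ ∈ T := by
  have hQ : IsPGroup 2 (zpowers x) := by
    rintro ⟨_, k, rfl⟩
    refine ⟨1, Subtype.ext ?_⟩
    show (x ^ k) ^ 2 ^ 1 = 1
    rw [pow_one, pow_two, ← zpow_add, ← two_mul, zpow_mul, zpow_two, hx, one_zpow]
  obtain ⟨c, hc, h'⟩ := h.sylow _ hQ (zpowers_le.2 hxC)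
  exact ⟨c, hc, h' x (mem_zpowers x)⟩

theorem card_C : ∃ m, Odd m ∧ Nat.card (centralizer ({t} : Set G)) = Nat.card T * m := by
  haveI : Fact (Nat.Prime 2) := ⟨Nat.prime_two⟩
  set C := centralizer ({t} : Set G)
  obtain ⟨P⟩ : Nonempty (Sylow 2 C) := Sylow.nonempty
  obtain ⟨c, hc, hin⟩ := h.sylow ((P : Subgroup C).map C.subtype) (P.2.map _)
    (map_subtype_le _)
  have h1 : Nat.card (P : Subgroup C) ≤ Nat.card T := by
    refine Nat.card_le_card_of_injective
      (fun x : (P : Subgroup C) => (⟨c * ((x : C) : G) * c⁻¹, hin _ ⟨x, x.2, rfl⟩⟩ : T)) ?_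
    intro x y e
    have := congrArg Subtype.val e
    simp only [mul_left_inj, mul_right_inj] at this
    exact Subtype.ext (Subtype.ext this)
  have h2 : Nat.card T ∣ Nat.card C := card_dvd_of_le h.T_le
  obtain ⟨a, ha⟩ := IsPGroup.iff_card.1 h.T_two
  obtain ⟨m, hm⟩ := h2
  refine ⟨m, ?_, hm⟩
  rw [Nat.odd_iff, ← Nat.two_dvd_ne_zero]
  rintro ⟨j, rfl⟩
  have h3 : 2 ^ (a + 1) ∣ Nat.card C := ⟨j, by rw [hm, ha]; ring⟩
  have h4 := (Nat.prime_two.pow_dvd_iff_le_factorization Nat.card_pos.ne').1 h3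
  rw [P.card_eq_multiplicity, ha] at h1
  have := (Nat.pow_le_pow_iff_right (by norm_num : 1 < 2)).1 h1
  omega

/-- A 2-subgroup of `C(t)` is no larger than `T`. -/
theorem card_le {Q : Subgroup G} (hQ : IsPGroup 2 Q) (hQC : Q ≤ centralizer ({t} : Set G)) :
    Nat.card Q ≤ Nat.card T := by
  obtain ⟨c, -, hin⟩ := h.sylow Q hQ hQC
  refine Nat.card_le_card_of_injective (fun x : Q => (⟨c * (x : G) * c⁻¹, hin _ x.2⟩ : T)) ?_
  intro x y e
  have := congrArg Subtype.val e
  simp only [mul_left_inj, mul_right_inj] at this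
  exact Subtype.ext this

/-- An element of `T` central in `T` and conjugate to `t` is the image of `t` under an element
normalising `T`. -/
theorem normalizer_conj {x : G} (hx : ∀ y ∈ T, y * x = x * y) (hc : IsConj t x) :
    ∃ g ∈ normalizer (T : Set G), g * t * g⁻¹ = x := by
  obtain ⟨g₀, hg₀⟩ := isConj_iff.1 hc
  obtain ⟨c, hcC, hin⟩ := h.sylow (T.map (MulAut.conj g₀⁻¹).toMonoidHom) (h.T_two.map _) (by
    rintro _ ⟨y, hy, rfl⟩
    refine mem_cen ?_
    simp only [MulEquiv.coe_toMonoidHom, MulAut.conj_apply, inv_inv]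
    calc g₀⁻¹ * y * g₀ * t = g₀⁻¹ * (y * (g₀ * t * g₀⁻¹)) * g₀ := by group
      _ = g₀⁻¹ * ((g₀ * t * g₀⁻¹) * y) * g₀ := by rw [hg₀, hx y hy]
      _ = t * (g₀⁻¹ * y * g₀) := by group)
  refine ⟨g₀ * c⁻¹, ?_, ?_⟩
  · have hle : T.map (MulAut.conj (g₀ * c⁻¹)⁻¹).toMonoidHom ≤ T := by
      rintro _ ⟨y, hy, rfl⟩
      have := hin _ ⟨y, hy, rfl⟩
      simpa [mul_assoc] using this
    have heq := Subgroup.eq_of_le_of_card_ge hle (by
      rw [card_map_of_injective (MulEquiv.injective _)])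
    refine inv_mem_iff.1 ?_
    rw [mem_normalizer_iff]
    intro y
    constructor
    · exact fun hy => hle ⟨y, hy, rfl⟩
    · intro hy
      have hy'' : (g₀ * c⁻¹)⁻¹ * y * (g₀ * c⁻¹)⁻¹⁻¹ ∈
          T.map (MulAut.conj (g₀ * c⁻¹)⁻¹).toMonoidHom := by rw [heq]; exact hy
      obtain ⟨y', hy', e⟩ := hy''
      simp only [MulEquiv.coe_toMonoidHom, MulAut.conj_apply, mul_left_inj, mul_right_inj] at e
      exact e ▸ hy'
  · have := comm_of_mem (inv_mem hcC)
    calc g₀ * c⁻¹ * t * (g₀ * c⁻¹)⁻¹ = g₀ * (c⁻¹ * t) * c * g₀⁻¹ := by group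
      _ = g₀ * (t * c⁻¹) * c * g₀⁻¹ := by rw [this]
      _ = x := by rw [← hg₀]; group

/-- Involutions of `K` times `t` are conjugate to `t`. -/
theorem conj_tmul [IsSimpleGroup G] (hG : ¬ IsMulCommutative G) {x : G} (hxK : x ∈ K)
    (hx : x * x = 1) (hx1 : x ≠ 1) : IsConj t (t * x) := by
  classical
  by_contra hne
  obtain ⟨χ, hχt, hχK⟩ := h.parity
  have hval : ∀ y, IsConj t y → val χ y = 1 ∨ val χ y = -1 := fun y _ => Int.units_eq_one_or _
  refine absurd_of_odd hG h.torder χ (a := -1) (by decide) (by decide) hval ?_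
  have hcnt := count_eq t (centralizer ({t} : Set G)) (fun y => val χ y = -1) (fun k hk y => by rw [val_conj χ hk])
  have hone : Nat.card {y : G // IsConj t y ∧ val χ y = -1} = 1 := by
    rw [Nat.card_eq_one_iff_unique]
    refine ⟨⟨fun a b => ?_⟩, ⟨⟨t, IsConj.refl t, by rw [val_of_mem χ h.tC]; exact hχt ⟨t, h.tC⟩ rfl⟩⟩⟩
    have key : ∀ y, IsConj t y → val χ y = -1 → y = t := by
      intro y hy hv
      have hyC : y ∈ centralizer ({t} : Set G) := mem_of_val_ne (by rw [hv]; decide)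
      obtain ⟨g, hg⟩ := isConj_iff.1 hy
      have hy2 : y * y = 1 := by rw [← hg, conj_mul, h.tsq]; group
      obtain ⟨c, hcC, hcT⟩ := h.conj_into hy2 hyC
      have hv' : val χ (c * y * c⁻¹) = -1 := by
        rw [← hv]
        have := val_conj χ (inv_mem hcC) y
        rwa [inv_inv] at this
      rcases h.split _ hcT with hd | hd
      · rw [val_of_mem χ (h.T_le hcT), hχK _ (h.D_le_K hd)] at hv'
        exact absurd hv' (by decide)
      · set d := t * (c * y * c⁻¹) with hddef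
        have hd2 : d * d = 1 := by
          rw [hddef, h.tmul_sq hcT, conj_mul, hy2]; group
        by_cases hd1 : d = 1
        · have e : c * y * c⁻¹ = t := by
            rw [← h.tinv]; exact eq_inv_of_mul_eq_one_right (hddef ▸ hd1)
          calc y = c⁻¹ * (c * y * c⁻¹) * c := by group
            _ = c⁻¹ * (t * c) := by rw [e, mul_assoc]
            _ = t := by rw [← comm_of_mem hcC, inv_mul_cancel_left]
        · exfalso
          obtain ⟨c', hc', e'⟩ := h.conjK d (h.D_le_K hd) x hxK hd2 hd1 hx hx1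
          apply hne
          refine hy.trans ((isConj_iff.2 ⟨c, rfl⟩).trans (isConj_iff.2 ⟨c', ?_⟩))
          rw [← e', hddef]
          calc c' * (c * y * c⁻¹) * c'⁻¹ = (t * t) * (c' * (c * y * c⁻¹) * c'⁻¹) := by
                rw [h.tsq, one_mul]
            _ = t * ((t * c') * (c * y * c⁻¹) * c'⁻¹) := by group
            _ = t * (c' * (t * (c * y * c⁻¹)) * c'⁻¹) := by rw [← comm_of_mem hc']; group
    exact Subtype.ext ((key a.1 a.2.1 a.2.2).trans (key b.1 b.2.1 b.2.2).symm)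
  rw [hone, one_mul] at hcnt
  have : Nat.card {c : G ⧸ centralizer ({t} : Set G) // val χ (c.out⁻¹ * t * c.out) = -1} = 1 :=
    Nat.eq_of_mul_eq_mul_right Nat.card_pos (by rw [hcnt, one_mul])
  rw [this]; exact odd_one

end Ctx

end CfsgLib.Involution.TwoTimesPSL
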