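import Cfsg.Agent.Lib.Involution.TwoTimesPSL.DihedralFour
import Mathlib.GroupTheory.PGroup

/-!
# The dihedral case is impossible
-/

set_option autoImplicit false
set_option linter.style.haveILetI false
set_option linter.unusedSectionVars false

namespace CfsgLib.Involution.TwoTimesPSL

open Subgroup

variable {G : Type*} [Group G] [Finite G] [IsSimpleGroup G]

namespace Dih

variable {t r s : G} {T D K : Subgroup G} {k : ℕ} (h : Dih t T D K r s k)
  (hG : ¬ IsMulCommutative G)
include h hG

variable {R : Subgroup G} (o : Over T R)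
include o

/-- An element of `R ∖ T` with a large centraliser in `T` fixes a reflection. -/
theorem false_of_big {c : G} (hcR : c ∈ R) (hcT : c ∉ T)
    (hbig : Nat.card T ≤ 2 * Nat.card (T ⊓ centralizer ({c} : Set G) : Subgroup G)) : False := by
  set H := T ⊓ centralizer ({c} : Set G) with hH
  have htH : t ∉ H := fun ht => hcT (h.over_C hG o hcR (comm_of_mem ht.2).symm)
  have hle : H ≤ T := inf_le_left
  have hidx : (H.subgroupOf T).index = 2 := by
    have h1 := (H.subgroupOf T).card_mul_index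
    rw [Nat.card_congr (subgroupOfEquivOfLe hle).toEquiv] at h1
    have h2 : (H.subgroupOf T).index ≤ 2 := by
      refine Nat.le_of_mul_le_mul_left ?_ (Nat.card_pos (α := H))
      rw [h1, mul_comm]; exact hbig
    have h3 : (H.subgroupOf T).index ≠ 1 := fun e => by
      rw [index_eq_one, subgroupOf_eq_top] at e
      exact htH (e h.tT)
    have h4 : (H.subgroupOf T).index ≠ 0 := index_ne_zero_of_finite
    omega
  have hdi : ∀ x ∈ T, x ∈ H ∨ t * x ∈ H := by
    intro x hx
    by_cases hxH : x ∈ H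
    · exact Or.inl hxH
    · right
      have h1 := mul_mem_iff_of_index_two hidx (a := (⟨t, h.tT⟩ : T)) (b := ⟨x, hx⟩)
      rw [mem_subgroupOf, mem_subgroupOf, mem_subgroupOf] at h1
      exact h1.2 (iff_of_false htH hxH)
  rcases hdi s (h.ctx.D_le_T h.sD) with h1 | h1
  · exact h.no_fix hG o hcR hcT (mul_inv_eq_iff_eq_mul.2 (comm_of_mem h1.2).symm)
  · have e : c * (t * s) * c⁻¹ = t * s := mul_inv_eq_iff_eq_mul.2 (comm_of_mem h1.2).symm
    have e' : c * s * c⁻¹ = cinv r k * s := by
      have h2 : c * t * c⁻¹ * (c * s * c⁻¹) = t * s := by rw [conj_mul]; exact e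
      rw [h.over_t hG o hcR hcT, mul_assoc] at h2
      have h3 := mul_left_cancel h2
      calc c * s * c⁻¹ = (cinv r k * cinv r k) * (c * s * c⁻¹) := by rw [h.z_sq, one_mul]
        _ = cinv r k * s := by rw [mul_assoc, h3]
    refine h.no_fix hG o (u := quarter r k * c) (mul_mem (o.le h.qT) hcR)
      (fun hm => hcT ((mul_mem_cancel_left h.qT).1 hm)) ?_
    have hq0 : quarter r k * s * (quarter r k)⁻¹ = cinv r k * s := by simpa using h.q_refl 0
    calc quarter r k * c * s * (quarter r k * c)⁻¹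
        = quarter r k * (c * s * c⁻¹) * (quarter r k)⁻¹ := by group
      _ = (quarter r k * cinv r k * (quarter r k)⁻¹) * (quarter r k * s * (quarter r k)⁻¹) := by
          rw [e']; group
      _ = s := by rw [h.z_comm h.qT, mul_inv_cancel_right, hq0, ← mul_assoc, h.z_sq, one_mul]

/-- The conjugates of `t` in `R` other than `t`, `tz` have classes of size divisible by four. -/
theorem class_small {x : G} (hxR : x ∈ R) (hc : IsConj t x) (hxt : x ≠ t)
    (hxtz : x ≠ t * cinv r k) :
    2 * Nat.card (R ⊓ centralizer ({x} : Set G) : Subgroup G) < Nat.card R := by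
  by_contra hle
  rw [not_lt, o.card] at hle
  set H := R ⊓ centralizer ({x} : Set G)
  have h1 : Nat.card H ≤ 2 * Nat.card (H ⊓ T : Subgroup G) := o.card_le inf_le_left
  have h2 := card_le_of_le (show H ⊓ T ≤ T ⊓ centralizer ({x} : Set G) from fun y hy => ⟨hy.2, hy.1.2⟩)
  by_cases hxT : x ∈ T
  · obtain ⟨hd, hx2⟩ := (h.conj_T_iff hG hxT).1 hc
    have hd2 : t * x * (t * x) = 1 := by rw [h.ctx.tmul_sq hxT, hx2]
    have hd1 : t * x ≠ 1 := fun e => hxt (by
      rw [eq_inv_of_mul_eq_one_right e, h.ctx.tinv])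
    have hdz : t * x ≠ cinv r k := fun e => hxtz (by rw [← e, ← mul_assoc, h.tsq, one_mul])
    obtain ⟨i, hi⟩ := (h.invol_D hd hd2 hd1).resolve_left hdz
    have hx' : x = t * (r ^ i * s) := by rw [← hi, ← mul_assoc, h.tsq, one_mul]
    have hrb := h.rebase i
    by_cases hex : ∃ u ∈ H, u ∉ T
    · obtain ⟨u, hu, huT⟩ := hex
      have e : u * (t * (r ^ i * s)) * u⁻¹ = t * (r ^ i * s) := by
        rw [← hx']; exact mul_inv_eq_iff_eq_mul.2 (comm_of_mem hu.2)
      have e' : u * (r ^ i * s) * u⁻¹ = cinv r k * (r ^ i * s) := by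
        have h3 : u * t * u⁻¹ * (u * (r ^ i * s) * u⁻¹) = t * (r ^ i * s) := by rw [conj_mul]; exact e
        rw [h.over_t hG o hu.1 huT, mul_assoc] at h3
        have h4 := mul_left_cancel h3
        calc u * (r ^ i * s) * u⁻¹ = (cinv r k * cinv r k) * (u * (r ^ i * s) * u⁻¹) := by
              rw [h.z_sq, one_mul]
          _ = _ := by rw [mul_assoc, h4]
      refine hrb.no_fix hG o (u := quarter r k * u) (mul_mem (o.le h.qT) hu.1)
        (fun hm => huT ((mul_mem_cancel_left h.qT).1 hm)) ?_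
      calc quarter r k * u * (r ^ i * s) * (quarter r k * u)⁻¹
          = quarter r k * (u * (r ^ i * s) * u⁻¹) * (quarter r k)⁻¹ := by group
        _ = (quarter r k * cinv r k * (quarter r k)⁻¹) * (quarter r k * (r ^ i * s) * (quarter r k)⁻¹) := by
            rw [e']; group
        _ = r ^ i * s := by
            rw [h.z_comm h.qT, mul_inv_cancel_right, h.q_refl, ← mul_assoc, h.z_sq, one_mul]
    · push Not at hex
      have h3 : H ≤ T ⊓ centralizer ({r ^ i * s} : Set G) := fun y hy => by
        refine ⟨hex y hy, mem_cen ?_⟩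
        have h4 : y * (t * (r ^ i * s)) = t * (r ^ i * s) * y := hx' ▸ comm_of_mem hy.2
        rw [← mul_assoc, h.ctx.comm (hex y hy), mul_assoc, mul_assoc] at h4
        exact mul_left_cancel h4
      have h5 := card_le_of_le h3
      rw [hrb.card_cen_s] at h5
      have h6 := h.ctx.card_T
      rw [h.card_D] at h6
      have h7 : 2 ^ 2 ≤ 2 ^ (k + 2) := Nat.pow_le_pow_right (by norm_num) (by omega)
      omega
  · exact h.false_of_big hG o hxR hxT (by omega)

theorem finish {A : Type*} [CommGroup A] (φ : R →* A) (hφD : ∀ x : R, (x : G) ∈ D → φ x = 1)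
    (hφt : ∀ x : R, (x : G) = t → φ x ≠ 1)
    (hval : ∀ x y : R, (x : G) * x = 1 → (y : G) = t → φ x = 1 ∨ φ x = φ y) : False := by
  classical
  set tR : R := ⟨t, o.le h.tT⟩
  set a := φ tR with hadef
  have ha : a ≠ 1 := hφt tR rfl
  have ha2 : a * a = 1 := by
    rw [hadef, ← map_mul, show tR * tR = 1 from Subtype.ext h.tsq, map_one]
  have htz : t * cinv r k ∈ R := o.le (mul_mem h.tT h.zT)
  have hvt : val φ t = a := val_of_mem φ (o.le h.tT)
  have hvtz : val φ (t * cinv r k) = a := by
    rw [val_of_mem φ htz,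
      show (⟨t * cinv r k, htz⟩ : R) = tR * ⟨cinv r k, o.le h.zT⟩ from rfl, map_mul,
      hφD ⟨cinv r k, o.le h.zT⟩ h.zD, mul_one]
  have hvals : ∀ x, IsConj t x → val φ x = 1 ∨ val φ x = a := by
    intro x hx
    by_cases hxR : x ∈ R
    · rw [val_of_mem φ hxR]
      refine hval ⟨x, hxR⟩ tR ?_ rfl
      obtain ⟨g, rfl⟩ := isConj_iff.1 hx
      show g * t * g⁻¹ * (g * t * g⁻¹) = 1
      rw [conj_mul, h.tsq]; group
    · exact Or.inl (dif_neg hxR)
  refine absurd_of_odd hG h.ctx.torder φ ha ha2 hvals ?_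
  have hcnt := count_eq t R (fun y => val φ y = a) (fun g hg y => by rw [val_conj φ hg])
  obtain ⟨m, hm, hC⟩ := h.ctx.card_C
  rw [o.card, hC] at hcnt
  let S : Set G := {x | IsConj t x ∧ val φ x = a}
  let S' : Set G := S \ {t, t * cinv r k}
  have hS : Nat.card {x : G // IsConj t x ∧ val φ x = a} = 2 + Nat.card S' := by
    show Nat.card S = _
    have hsub : ({t, t * cinv r k} : Set G) ⊆ S := by
      rintro x (rfl | rfl)
      · exact ⟨IsConj.refl _, hvt⟩
      · exact ⟨h.tmul_conj hG h.zD h.z_sq, hvtz⟩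
    rw [Nat.card_coe_set_eq, Nat.card_coe_set_eq,
      ← Set.ncard_sdiff_add_ncard_of_subset hsub (Set.toFinite _),
      Set.ncard_pair (fun e => h.z_ne (left_eq_mul.1 e))]
    ring
  have h4 : 4 ∣ Nat.card S' := by
    refine four_dvd_of_orbits o.two S' ?_ (fun x hx => h.class_small hG o
      (mem_of_val_ne (by rw [hx.1.2]; exact ha)) hx.1.1
      (fun e => hx.2 (Or.inl e)) (fun e => hx.2 (Or.inr e)))
    rintro g hg x ⟨⟨hc, hv⟩, hne⟩
    refine ⟨⟨hc.trans (isConj_iff.2 ⟨g, rfl⟩), ?_⟩, fun he => hne ?_⟩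
    · have := val_conj φ (inv_mem hg) x
      rw [inv_inv] at this
      rw [this, hv]
    · have hgt : g⁻¹ * t * g = t ∨ g⁻¹ * t * g = t * cinv r k := by
        by_cases hgT : g ∈ T
        · left; rw [mul_assoc, ← h.ctx.comm hgT, inv_mul_cancel_left]
        · right
          have := h.over_t hG o (inv_mem hg) (fun h' => hgT (inv_mem_iff.1 h'))
          rwa [inv_inv] at this
      have hgz : g⁻¹ * cinv r k * g = cinv r k := by
        have := h.over_z hG o (inv_mem hg)
        rwa [inv_inv] at this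
      rcases he with e | e
      · have hx : x = g⁻¹ * t * g := by rw [← e]; group
        rw [hx]; exact hgt
      · have hx : x = (g⁻¹ * t * g) * (g⁻¹ * cinv r k * g) := by
          have e' : g * x * g⁻¹ = t * cinv r k := e
          calc x = g⁻¹ * (g * x * g⁻¹) * g := by group
            _ = _ := by rw [e']; group
        rw [hgz] at hx
        rcases hgt with e' | e' <;> rw [e'] at hx
        · exact Or.inr hx
        · left; rw [hx, mul_assoc, h.z_sq, mul_one]
  rw [hS] at hcnt
  obtain ⟨j, hj⟩ := h4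
  rw [hj] at hcnt
  have h5 : Nat.card {c : G ⧸ R // val φ (c.out⁻¹ * t * c.out) = a} * 2 = (2 + 4 * j) * m :=
    Nat.eq_of_mul_eq_mul_right (Nat.card_pos (α := T)) (by rw [mul_assoc, hcnt]; ring)
  rw [show Nat.card {c : G ⧸ R // val φ (c.out⁻¹ * t * c.out) = a} = (1 + 2 * j) * m by
    have h6 : (2 + 4 * j) * m = (1 + 2 * j) * m * 2 := by ring
    omega]
  exact (show Odd (1 + 2 * j) from ⟨j, by ring⟩).mul hm

omit o in
/-- The dihedral case does not occur. -/
theorem false_of_dih : False := by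
  classical
  haveI : Fact (Nat.Prime 2) := ⟨Nat.prime_two⟩
  obtain ⟨R, o⟩ := h.exists_over hG
  haveI hN : (D.subgroupOf R).Normal :=
    ⟨fun x hx g => mem_subgroupOf.2 (h.over_D hG o g.2 (mem_subgroupOf.1 hx))⟩
  have hQ : Nat.card (R ⧸ D.subgroupOf R) = 2 ^ 2 := by
    refine Nat.eq_of_mul_eq_mul_right (Nat.card_pos (α := D)) ?_
    conv_lhs => rw [← Nat.card_congr (subgroupOfEquivOfLe (h.ctx.D_le_T.trans o.le)).toEquiv,
      ← card_eq_card_quotient_mul_card_subgroup]
    rw [o.card, h.ctx.card_T]; ring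
  letI : CommGroup (R ⧸ D.subgroupOf R) := IsPGroup.commGroupOfCardEqPrimeSq hQ
  set π := QuotientGroup.mk' (D.subgroupOf R)
  set tR : R := ⟨t, o.le h.tT⟩
  have hπ1 : ∀ x : R, π x = 1 ↔ (x : G) ∈ D := fun x =>
    (QuotientGroup.eq_one_iff x).trans mem_subgroupOf
  by_cases hex : ∃ q : R ⧸ D.subgroupOf R, q * q = 1 ∧ q ≠ 1 ∧ q ≠ π tR
  · obtain ⟨q, hq2, hq1, hqt⟩ := hex
    set Z := zpowers q
    have hqo : orderOf q = 2 := orderOf_eq_prime (by rw [pow_two, hq2]) hq1
    have hA : Nat.card ((R ⧸ D.subgroupOf R) ⧸ Z) = 2 := by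
      have h1 := Z.card_eq_card_quotient_mul_card_subgroup
      rw [Nat.card_zpowers, hqo, hQ] at h1
      omega
    have htwo : ∀ a b : (R ⧸ D.subgroupOf R) ⧸ Z, a ≠ 1 → b ≠ 1 → a = b := by
      obtain ⟨u, v, huv, huniv⟩ := Nat.card_eq_two_iff.1 hA
      intro a b ha hb
      have key : ∀ x : (R ⧸ D.subgroupOf R) ⧸ Z, x = u ∨ x = v := fun x => by
        have := huniv ▸ Set.mem_univ x
        simpa using this
      rcases key a with rfl | rfl <;> rcases key b with rfl | rfl <;> rcases key 1 with e | e <;>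
        simp_all
    refine h.finish hG o ((QuotientGroup.mk' Z).comp π) ?_ ?_ ?_
    · intro x hx
      rw [MonoidHom.comp_apply, (hπ1 x).2 hx, map_one]
    · intro x hx e
      rw [show x = tR from Subtype.ext hx, MonoidHom.comp_apply, QuotientGroup.mk'_apply,
        QuotientGroup.eq_one_iff] at e
      obtain ⟨n, hn⟩ := e
      have hn' : q ^ n = π tR := hn
      rcases Int.even_or_odd' n with ⟨l, rfl | rfl⟩
      · rw [zpow_mul, zpow_two, hq2, one_zpow] at hn'
        exact h.ctx.t_notD ((hπ1 tR).1 hn'.symm)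
      · rw [zpow_add, zpow_mul, zpow_two, hq2, one_zpow, one_mul, zpow_one] at hn'
        exact hqt hn'
    · intro x y hx hy
      by_cases h1 : ((QuotientGroup.mk' Z).comp π) x = 1
      · exact Or.inl h1
      · refine Or.inr (htwo _ _ h1 fun e => ?_)
        rw [show y = tR from Subtype.ext hy, MonoidHom.comp_apply, QuotientGroup.mk'_apply,
          QuotientGroup.eq_one_iff] at e
        obtain ⟨n, hn⟩ := e
        have hn' : q ^ n = π tR := hn
        rcases Int.even_or_odd' n with ⟨l, rfl | rfl⟩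
        · rw [zpow_mul, zpow_two, hq2, one_zpow] at hn'
          exact h.ctx.t_notD ((hπ1 tR).1 hn'.symm)
        · rw [zpow_add, zpow_mul, zpow_two, hq2, one_zpow, one_mul, zpow_one] at hn'
          exact hqt hn'
  · push Not at hex
    refine h.finish hG o π (fun x hx => (hπ1 x).2 hx) ?_ ?_
    · intro x hx e
      exact h.ctx.t_notD (hx ▸ (hπ1 x).1 e)
    · intro x y hx hy
      by_cases h1 : π x = 1
      · exact Or.inl h1
      · right
        rw [show y = tR from Subtype.ext hy]
        exact hex _ (by rw [← map_mul, show x * x = 1 from Subtype.ext hx, map_one]) h1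

end Dih

end CfsgLib.Involution.TwoTimesPSL
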