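import Cfsg.Agent.Lib.Involution.TwoTimesPSL.Tools

/-!
# The dihedral case: the involutions of `T` and the index of the centraliser
-/

set_option autoImplicit false
set_option linter.style.haveILetI false
set_option linter.unusedSectionVars false

namespace CfsgLib.Involution.TwoTimesPSL

open Subgroup

variable {G : Type*} [Group G] [Finite G]

/-- Conjugation orbits of size divisible by four. -/
theorem four_dvd_of_orbits {H : Subgroup G} (hH : IsPGroup 2 H) (S : Set G)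
    (hS : ∀ g ∈ H, ∀ x ∈ S, g * x * g⁻¹ ∈ S)
    (hbig : ∀ x ∈ S, 2 * Nat.card (H ⊓ centralizer ({x} : Set G) : Subgroup G) < Nat.card H) :
    4 ∣ Nat.card S := by
  classical
  let orb : S → Set S := fun x => {y | ∃ g ∈ H, (y : G) = g * x * g⁻¹}
  have hsame : ∀ x y : S, y ∈ orb x → orb y = orb x := by
    rintro x y ⟨g, hg, e⟩
    refine Set.ext fun w => ⟨?_, ?_⟩
    · rintro ⟨g', hg', e'⟩
      exact ⟨g' * g, mul_mem hg' hg, by rw [e', e]; group⟩
    · rintro ⟨g', hg', e'⟩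
      exact ⟨g' * g⁻¹, mul_mem hg' (inv_mem hg), by rw [e', e]; group⟩
  haveI := Fintype.ofFinite {o : Set S // ∃ x, orb x = o}
  rw [← Nat.card_congr (Equiv.sigmaFiberEquiv
    (fun x : S => (⟨orb x, x, rfl⟩ : {o : Set S // ∃ x, orb x = o}))), Nat.card_sigma]
  refine Finset.dvd_sum ?_
  rintro ⟨o, x, rfl⟩ -
  have hfib : Nat.card {y : S // (⟨orb y, y, rfl⟩ : {o : Set S // ∃ x, orb x = o}) = ⟨orb x, x, rfl⟩} =
      Nat.card {w : G | ∃ g ∈ H, w = g * x * g⁻¹} := by
    refine Nat.card_congr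
      { toFun := fun y => ⟨y.1, ?_⟩
        invFun := fun w => ⟨⟨w.1, ?_⟩, ?_⟩
        left_inv := fun y => rfl
        right_inv := fun w => rfl }
    · have h1 : (y.1 : S) ∈ orb y.1 := ⟨1, one_mem _, by group⟩
      have h2 : orb y.1 = orb x := congrArg Subtype.val y.2
      rw [h2] at h1
      exact h1
    · obtain ⟨g, hg, e⟩ := w.2
      exact e ▸ hS g hg x x.2
    · exact Subtype.ext (hsame x _ w.2)
  rw [hfib]
  have hcnt := card_conj_mul (x : G) H {w : G | ∃ g ∈ H, w = g * x * g⁻¹}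
    (fun g hg => ⟨g, hg, rfl⟩) (fun w hw => by obtain ⟨g, hg, e⟩ := hw; exact ⟨g, hg, e.symm⟩)
  obtain ⟨a, ha⟩ := IsPGroup.iff_card.1 hH
  obtain ⟨j, -, hj⟩ := (Nat.dvd_prime_pow Nat.prime_two).1 (ha ▸ hcnt ▸ dvd_mul_right _ _ :
    Nat.card {w : G | ∃ g ∈ H, w = g * x * g⁻¹} ∣ 2 ^ a)
  have h2 : 2 < 2 ^ j := Nat.lt_of_mul_lt_mul_right (hj ▸ hcnt ▸ hbig x x.2)
  rcases j with _ | _ | j
  · simp at h2
  · simp at h2
  · exact ⟨2 ^ j, by rw [hj]; ring⟩

/-- The dihedral case. -/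
structure Dih (t : G) (T D K : Subgroup G) (r s : G) (k : ℕ) : Prop extends Ctx t T D K where
  rD : r ∈ D
  sD : s ∈ D
  rord : orderOf r = 2 ^ (k + 2)
  ssq : s * s = 1
  sconj : s * r * s = r⁻¹
  snr : s ∉ zpowers r
  cases_D : ∀ x ∈ D, (∃ i : ℤ, x = r ^ i) ∨ ∃ i : ℤ, x = r ^ i * s

/-- The central involution of `⟨r, s⟩`. -/
def cinv (r : G) (k : ℕ) : G := r ^ 2 ^ (k + 1)

/-- The rotation of order four. -/
def quarter (r : G) (k : ℕ) : G := r ^ 2 ^ k

namespace Dih

variable {t r s : G} {T D K : Subgroup G} {k : ℕ} (h : Dih t T D K r s k)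
include h

theorem ctx : Ctx t T D K := h.toCtx

theorem zD : cinv r k ∈ D := pow_mem h.rD _

theorem zT : cinv r k ∈ T := h.ctx.D_le_T h.zD

theorem zK : cinv r k ∈ K := h.ctx.D_le_K h.zD

theorem qT : quarter r k ∈ T := h.ctx.D_le_T (pow_mem h.rD _)

theorem q_sq : quarter r k * quarter r k = cinv r k := by
  rw [quarter, cinv, ← pow_add, ← two_mul, ← pow_succ']

theorem z_sq : cinv r k * cinv r k = 1 := by
  rw [cinv, ← pow_add, ← two_mul, ← pow_succ', ← h.rord, pow_orderOf_eq_one]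

theorem z_ne : cinv r k ≠ 1 := fun e => by
  have h1 := Nat.le_of_dvd (by positivity) (h.rord ▸ orderOf_dvd_of_pow_eq_one e)
  have h2 : 2 ^ (k + 1) < 2 ^ (k + 2) := Nat.pow_lt_pow_right (by norm_num) (by omega)
  omega

theorem zinv : (cinv r k)⁻¹ = cinv r k := inv_eq_of_mul_eq_one_right h.z_sq

theorem zpow_involution {i : ℤ} (hi : r ^ i * r ^ i = 1) : r ^ i = 1 ∨ r ^ i = cinv r k := by
  rw [← zpow_add, ← orderOf_dvd_iff_zpow_eq_one, h.rord] at hi
  obtain ⟨j, hj⟩ : (2 : ℤ) ^ (k + 1) ∣ i := by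
    obtain ⟨c, hc⟩ := hi
    refine ⟨c, ?_⟩
    push_cast at hc
    rw [pow_succ] at hc
    linarith
  have : r ^ i = cinv r k ^ j := by
    rw [cinv, ← zpow_natCast, ← zpow_mul, hj]; push_cast; rfl
  rcases Int.even_or_odd' j with ⟨l, rfl | rfl⟩
  · left; rw [this, zpow_mul, zpow_two, h.z_sq, one_zpow]
  · right; rw [this, zpow_add, zpow_mul, zpow_two, h.z_sq, one_zpow, one_mul, zpow_one]

theorem sinv : s⁻¹ = s := inv_eq_of_mul_eq_one_right h.ssq

theorem s_zpow (i : ℤ) : s * r ^ i * s = r ^ (-i) := by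
  have : s * r ^ i * s⁻¹ = (s * r * s⁻¹) ^ i := (conj_zpow).symm
  rw [h.sinv, h.sconj] at this
  rw [this, inv_zpow, zpow_neg]

theorem refl_sq (i : ℤ) : r ^ i * s * (r ^ i * s) = 1 := by
  rw [mul_assoc, ← mul_assoc s, h.s_zpow, ← zpow_add, add_neg_cancel, zpow_zero]

theorem refl_not_rot (i : ℤ) : r ^ i * s ∉ zpowers r := fun hm =>
  h.snr ((mul_mem_cancel_left (zpow_mem_zpowers r i)).1 hm)

theorem refl_mem (i : ℤ) : r ^ i * s ∈ D := mul_mem (zpow_mem h.rD i) h.sD

theorem refl_ne (i : ℤ) : r ^ i * s ≠ 1 := fun e => h.refl_not_rot i (e ▸ one_mem _)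

theorem invol_D {x : G} (hx : x ∈ D) (hx2 : x * x = 1) (hx1 : x ≠ 1) :
    x = cinv r k ∨ ∃ i : ℤ, x = r ^ i * s := by
  rcases h.cases_D x hx with ⟨i, rfl⟩ | h1
  · exact Or.inl ((h.zpow_involution hx2).resolve_left hx1)
  · exact Or.inr h1

theorem sq_D {x : G} (hx : x ∈ D) : x * x ∈ zpowers r := by
  rcases h.cases_D x hx with ⟨i, rfl⟩ | ⟨i, rfl⟩
  · exact mul_mem (zpow_mem_zpowers r i) (zpow_mem_zpowers r i)
  · rw [h.refl_sq]; exact one_mem _

theorem sq_T {x : G} (hx : x ∈ T) : x * x ∈ zpowers r := by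
  rcases h.split x hx with hd | hd
  · exact h.sq_D hd
  · rw [← h.ctx.tmul_sq hx]; exact h.sq_D hd

theorem rot_involution {x : G} (hx : x ∈ zpowers r) (hx2 : x * x = 1) (hx1 : x ≠ 1) :
    x = cinv r k := by
  obtain ⟨i, rfl⟩ := hx
  exact (h.zpow_involution hx2).resolve_left hx1

theorem z_comm_D {x : G} (hx : x ∈ D) : x * cinv r k = cinv r k * x := by
  have hzs : s * cinv r k = cinv r k * s := by
    have h1 := h.s_zpow (2 ^ (k + 1) : ℕ)
    rw [zpow_natCast, zpow_neg, zpow_natCast] at h1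
    rw [show (r ^ 2 ^ (k + 1))⁻¹ = cinv r k from h.zinv] at h1
    calc s * cinv r k = s * cinv r k * (s * s) := by rw [h.ssq, mul_one]
      _ = (s * cinv r k * s) * s := by group
      _ = _ := by rw [show s * cinv r k * s = cinv r k from h1]
  have hzr : ∀ i : ℤ, r ^ i * cinv r k = cinv r k * r ^ i := fun i =>
    ((Commute.refl r).zpow_left i).pow_right _ |>.eq
  rcases h.cases_D x hx with ⟨i, rfl⟩ | ⟨i, rfl⟩
  · exact hzr i
  · rw [mul_assoc, hzs, ← mul_assoc, hzr, mul_assoc]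

theorem z_comm {x : G} (hx : x ∈ T) : x * cinv r k = cinv r k * x := by
  rcases h.split x hx with hd | hd
  · exact h.z_comm_D hd
  · have h1 := h.z_comm_D hd
    rw [mul_assoc, ← mul_assoc (cinv r k) t x, h.ctx.comm h.zT, mul_assoc] at h1
    exact mul_left_cancel h1

theorem tz_central {x : G} (hx : x ∈ T) : x * (t * cinv r k) = (t * cinv r k) * x := by
  rw [← mul_assoc, h.ctx.comm hx, mul_assoc, h.z_comm hx, mul_assoc]

theorem q_refl (i : ℤ) : quarter r k * (r ^ i * s) * (quarter r k)⁻¹ = cinv r k * (r ^ i * s) := by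
  have h2 := h.s_zpow (-(2 ^ k : ℕ))
  rw [neg_neg, zpow_natCast, zpow_neg, zpow_natCast] at h2
  calc quarter r k * (r ^ i * s) * (quarter r k)⁻¹
      = quarter r k * r ^ i * (s * (r ^ 2 ^ k)⁻¹ * s) * s⁻¹ := by rw [quarter]; group
    _ = quarter r k * (r ^ i * quarter r k) * s⁻¹ := by rw [h2, quarter, mul_assoc _ (r ^ i)]
    _ = (quarter r k * quarter r k) * r ^ i * s := by
        rw [show r ^ i * quarter r k = quarter r k * r ^ i from
          (((Commute.refl r).zpow_left i).pow_right _).eq, h.sinv]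
        group
    _ = _ := by rw [h.q_sq, mul_assoc]

/-- A central involution of `T`. -/
theorem central_cases {x : G} (hx : x ∈ T) (hx2 : x * x = 1) (hc : ∀ y ∈ T, y * x = x * y) :
    (x = 1 ∨ x = cinv r k) ∨ (x = t ∨ x = t * cinv r k) := by
  have key : ∀ d ∈ D, d * d = 1 → (r * d = d * r) → d = 1 ∨ d = cinv r k := by
    intro d hd hd2 hcr
    by_cases hd1 : d = 1
    · exact Or.inl hd1
    rcases h.invol_D hd hd2 hd1 with e | ⟨i, rfl⟩
    · exact Or.inr e
    · exfalso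
      have hri : r ^ i * r = r * r ^ i := ((Commute.refl r).zpow_left i).eq
      rw [mul_assoc (r ^ i) s r, ← mul_assoc r, ← hri, mul_assoc] at hcr
      have h1 := mul_left_cancel hcr
      have h2 : r = r⁻¹ := by
        calc r = r * (s * s) := by rw [h.ssq, mul_one]
          _ = (r * s) * s := by group
          _ = s * r * s := by rw [h1]
          _ = r⁻¹ := h.sconj
      have h3 : orderOf r ∣ 2 := orderOf_dvd_of_pow_eq_one (by
        rw [pow_two]; nth_rw 1 [h2]; exact inv_mul_cancel r)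
      rw [h.rord] at h3
      have h4 := Nat.le_of_dvd two_pos h3
      have h5 : 2 ^ 2 ≤ 2 ^ (k + 2) := Nat.pow_le_pow_right (by norm_num) (by omega)
      omega
  rcases h.split x hx with hd | hd
  · exact Or.inl (key x hd hx2 (hc r (h.ctx.D_le_T h.rD)))
  · right
    have hrt := h.ctx.comm (h.ctx.D_le_T h.rD)
    rcases key (t * x) hd (by rw [h.ctx.tmul_sq hx, hx2]) (by
        rw [← mul_assoc, hrt, mul_assoc, hc r (h.ctx.D_le_T h.rD), mul_assoc]) with e | e
    · left; rw [← h.ctx.tinv]; exact eq_inv_of_mul_eq_one_right e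
    · right; rw [← e, ← mul_assoc, h.tsq, one_mul]

variable [IsSimpleGroup G] (hG : ¬ IsMulCommutative G)
include hG

theorem z_not_conj : ¬ IsConj t (cinv r k) := fun hc => by
  obtain ⟨g, hg, e⟩ := h.ctx.normalizer_conj (fun y hy => h.z_comm hy) hc
  apply h.ctx.t_notD
  have hy : g⁻¹ * quarter r k * g ∈ T := by
    have := (mem_normalizer_iff.1 (inv_mem hg) _).1 h.qT
    rwa [inv_inv] at this
  have h1 := h.sq_T hy
  rw [show g⁻¹ * quarter r k * g * (g⁻¹ * quarter r k * g) = g⁻¹ * (quarter r k * quarter r k) * g by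
    group, h.q_sq, ← e, show g⁻¹ * (g * t * g⁻¹) * g = t by group] at h1
  exact zpowers_le.2 h.rD h1

theorem D_not_conj {d : G} (hd : d ∈ D) : ¬ IsConj t d := fun hc => by
  obtain ⟨g, rfl⟩ := isConj_iff.1 hc
  obtain ⟨c, -, e⟩ := h.conjK _ (h.ctx.D_le_K hd) _ h.zK (by rw [conj_mul, h.tsq]; group)
    (fun e => h.tne (conj_eq_one_iff.1 e)) h.z_sq h.z_ne
  exact h.z_not_conj hG (hc.trans (isConj_iff.2 ⟨c, e⟩))

theorem tmul_conj {d : G} (hd : d ∈ D) (hd2 : d * d = 1) : IsConj t (t * d) := by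
  by_cases hd1 : d = 1
  · rw [hd1, mul_one]
  · exact h.ctx.conj_tmul hG (h.ctx.D_le_K hd) hd2 hd1

theorem conj_T_iff {x : G} (hx : x ∈ T) : IsConj t x ↔ t * x ∈ D ∧ x * x = 1 := by
  constructor
  · intro hc
    obtain ⟨g, e⟩ := isConj_iff.1 hc
    exact ⟨(h.split x hx).resolve_left fun hd => h.D_not_conj hG hd hc,
      by rw [← e, conj_mul, h.tsq]; group⟩
  · rintro ⟨hd, hx2⟩
    have := h.tmul_conj hG hd (by rw [h.ctx.tmul_sq hx, hx2])
    rwa [← mul_assoc, h.tsq, one_mul] at this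

omit hG in
theorem card_invol : Nat.card {d : G // d ∈ D ∧ d * d = 1} = 2 + 2 ^ (k + 2) := by
  classical
  have hm : ∀ a : Bool ⊕ Fin (2 ^ (k + 2)),
      (Sum.elim (fun b => bif b then cinv r k else 1) (fun j : Fin (2 ^ (k + 2)) => r ^ ((j : ℕ) : ℤ) * s) a) ∈ D ∧
      (Sum.elim (fun b => bif b then cinv r k else 1) (fun j : Fin (2 ^ (k + 2)) => r ^ ((j : ℕ) : ℤ) * s) a) *
        (Sum.elim (fun b => bif b then cinv r k else 1) (fun j : Fin (2 ^ (k + 2)) => r ^ ((j : ℕ) : ℤ) * s) a) = 1 := by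
    rintro (b | j)
    · cases b
      · exact ⟨one_mem _, one_mul 1⟩
      · exact ⟨h.zD, h.z_sq⟩
    · exact ⟨h.refl_mem _, h.refl_sq _⟩
  rw [← Nat.card_congr (Equiv.ofBijective
    (fun a => (⟨_, hm a⟩ : {d : G // d ∈ D ∧ d * d = 1})) ⟨?_, ?_⟩), Nat.card_sum,
    Nat.card_eq_fintype_card, Nat.card_eq_fintype_card, Fintype.card_bool, Fintype.card_fin]
  · rintro (b | j) (b' | j') e <;> have e1 := congrArg Subtype.val e
    · cases b <;> cases b' <;> simp at e1 ⊢
      · exact h.z_ne e1.symm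
      · exact h.z_ne e1
    · exfalso
      apply h.refl_not_rot ((j' : ℕ) : ℤ)
      simp only [Sum.elim_inl, Sum.elim_inr] at e1
      rw [← e1]
      cases b
      · exact one_mem _
      · exact pow_mem (mem_zpowers r) _
    · exfalso
      apply h.refl_not_rot ((j : ℕ) : ℤ)
      simp only [Sum.elim_inl, Sum.elim_inr] at e1
      rw [e1]
      cases b'
      · exact one_mem _
      · exact pow_mem (mem_zpowers r) _
    · simp only [Sum.elim_inr, mul_left_inj, zpow_natCast] at e1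
      have := pow_inj_mod.1 e1
      rw [h.rord, Nat.mod_eq_of_lt j.2, Nat.mod_eq_of_lt j'.2] at this
      exact congrArg Sum.inr (Fin.ext this)
  · rintro ⟨d, hd, hd2⟩
    rcases h.cases_D d hd with ⟨i, rfl⟩ | ⟨i, rfl⟩
    · rcases h.zpow_involution hd2 with e | e
      · exact ⟨Sum.inl false, Subtype.ext e.symm⟩
      · exact ⟨Sum.inl true, Subtype.ext e.symm⟩
    · have h0 : (0 : ℤ) < (orderOf r : ℤ) := by exact_mod_cast orderOf_pos r
      refine ⟨Sum.inr ⟨(i % (orderOf r : ℤ)).toNat, ?_⟩, Subtype.ext ?_⟩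
      · have := Int.emod_lt_of_pos i h0
        have := Int.emod_nonneg i h0.ne'
        rw [← h.rord]; omega
      · simp only [Sum.elim_inr]
        rw [Int.toNat_of_nonneg (Int.emod_nonneg i h0.ne'), zpow_mod_orderOf]

theorem outside_big {x : G} (hxC : x ∈ centralizer ({t} : Set G)) (hc : IsConj t x) (hxT : x ∉ T) :
    2 * Nat.card (T ⊓ centralizer ({x} : Set G) : Subgroup G) < Nat.card T := by
  classical
  by_contra hle
  rw [not_lt] at hle
  obtain ⟨g, hg⟩ := isConj_iff.1 hc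
  have hx2 : x * x = 1 := by rw [← hg, conj_mul, h.tsq]; group
  set T₁ := T ⊓ centralizer ({x} : Set G) with hT₁
  have hT₁x : ∀ y ∈ T₁, y * x = x * y := fun y hy => comm_of_mem hy.2
  have hnorm : T₁ ≤ normalizer (zpowers x : Set G) := fun y hy => by
    refine mem_normalizer_of_conj ?_
    rintro _ ⟨j, rfl⟩
    exact ⟨j, by
      show x ^ j = y * x ^ j * y⁻¹
      rw [((show Commute y x from hT₁x y hy).zpow_right j).eq, mul_inv_cancel_right]⟩
  have hQ : IsPGroup 2 (T₁ ⊔ zpowers x : Subgroup G) :=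
    IsPGroup.to_sup_of_normal_right' (h.T_two.to_le inf_le_left)
      (two_group_zpowers (k := 1) (by rw [pow_one, pow_two, hx2])) hnorm
  have hmemQ : ∀ q ∈ (T₁ ⊔ zpowers x : Subgroup G), q ∈ T₁ ∨ x * q ∈ T₁ := by
    intro q hq
    rw [← SetLike.mem_coe, coe_mul_of_left_le_normalizer_right T₁ _ hnorm] at hq
    obtain ⟨y, hy, _, ⟨j, rfl⟩, rfl⟩ := hq
    rcases Int.even_or_odd' j with ⟨l, rfl | rfl⟩
    · left
      show y * x ^ (2 * l) ∈ T₁
      rw [zpow_mul, zpow_two, hx2, one_zpow, mul_one]; exact hy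
    · right
      show x * (y * x ^ (2 * l + 1)) ∈ T₁
      rw [zpow_add, zpow_mul, zpow_two, hx2, one_zpow, one_mul, zpow_one, hT₁x y hy, ← mul_assoc,
        hx2, one_mul]
      exact hy
  have hcard := card_double (le_sup_left : T₁ ≤ T₁ ⊔ zpowers x) (mem_sup_right (mem_zpowers x))
    (fun hx => hxT hx.1) hx2 hmemQ
  obtain ⟨c, hcC, hin⟩ := h.sylow _ hQ (sup_le (inf_le_left.trans h.T_le) (zpowers_le.2 hxC))
  have hmap : (T₁ ⊔ zpowers x : Subgroup G).map (MulAut.conj c).toMonoidHom = T :=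
    Subgroup.eq_of_le_of_card_ge (by rintro _ ⟨q, hq, rfl⟩; exact hin q hq)
      (by rw [card_map_of_injective (MulEquiv.injective _), hcard]; exact hle)
  have hsurj : ∀ y ∈ T, ∃ q ∈ (T₁ ⊔ zpowers x : Subgroup G), c * q * c⁻¹ = y := fun y hy => by
    rw [← hmap] at hy
    obtain ⟨q, hq, e⟩ := hy
    exact ⟨q, hq, e⟩
  set x' := c * x * c⁻¹
  have hx'T : x' ∈ T := hin x (mem_sup_right (mem_zpowers x))
  have hx'c : IsConj t x' := hc.trans (isConj_iff.2 ⟨c, rfl⟩)
  have hcent : ∀ y ∈ T, y * x' = x' * y := by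
    intro y hy
    obtain ⟨q, hq, rfl⟩ := hsurj y hy
    have hqx : q * x = x * q := by
      rcases hmemQ q hq with h1 | h1
      · exact hT₁x q h1
      · have h2 := hT₁x _ h1
        rw [mul_assoc] at h2
        exact mul_left_cancel h2
    simp only [x', conj_mul, hqx]
  rcases h.central_cases hx'T (by simp only [x', conj_mul, hx2]; group) hcent with (e | e) | e | e
  · exact h.tne (isConj_one_left.1 (e ▸ hx'c))
  · exact h.z_not_conj hG (e ▸ hx'c)
  · apply hxT
    have : x = t := by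
      calc x = c⁻¹ * x' * c := by simp only [x']; group
        _ = c⁻¹ * (t * c) := by rw [e, mul_assoc]
        _ = t := by rw [← comm_of_mem hcC, inv_mul_cancel_left]
    rw [this]; exact h.tT
  · apply hxT
    obtain ⟨q, hq, eq⟩ := hsurj _ h.qT
    have hz' : c⁻¹ * cinv r k * c = q * q := by rw [← h.q_sq, ← eq]; group
    have hsq : q * q ∈ zpowers r := by
      rcases hmemQ q hq with h1 | h1
      · exact h.sq_T h1.1
      · have h2 := hT₁x _ h1
        rw [mul_assoc] at h2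
        have h3 := h.sq_T h1.1
        have h4 : x * q * (x * q) = q * q := by
          rw [mul_assoc x q, ← mul_assoc q x q, mul_left_cancel h2, ← mul_assoc, ← mul_assoc, hx2,
            one_mul]
        rwa [h4] at h3
    have hz'' : c⁻¹ * cinv r k * c = cinv r k := by
      refine h.rot_involution (hz' ▸ hsq) ?_ ?_
      · rw [show c⁻¹ * cinv r k * c * (c⁻¹ * cinv r k * c) = c⁻¹ * (cinv r k * cinv r k) * c by group,
          h.z_sq]; group
      · intro e1
        apply h.z_ne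
        calc cinv r k = c * (c⁻¹ * cinv r k * c) * c⁻¹ := by group
          _ = 1 := by rw [e1]; group
    have : x = t * cinv r k := by
      calc x = c⁻¹ * x' * c := by simp only [x']; group
        _ = c⁻¹ * (t * c) * (c⁻¹ * cinv r k * c) := by rw [e]; group
        _ = t * cinv r k := by rw [← comm_of_mem hcC, inv_mul_cancel_left, hz'']
    rw [this]; exact mul_mem h.tT h.zT

theorem index_two_mod : (centralizer ({t} : Set G)).index % 4 = 2 := by
  classical
  rw [index_modEq hG h.ctx.torder]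
  set C := centralizer ({t} : Set G)
  let X := {x : G // IsConj t x ∧ x ∈ C}
  rw [Nat.card_congr (Equiv.sumCompl fun x : X => (x : G) ∈ T).symm, Nat.card_sum]
  have h1 : Nat.card {x : X // (x : G) ∈ T} = 2 + 2 ^ (k + 2) := by
    rw [← h.card_invol]
    refine Nat.card_congr
      { toFun := fun x => ⟨t * x.1.1, ((h.conj_T_iff hG x.2).1 x.1.2.1).1, by
          rw [h.ctx.tmul_sq x.2, ((h.conj_T_iff hG x.2).1 x.1.2.1).2]⟩
        invFun := fun d => ⟨⟨t * d.1, h.tmul_conj hG d.2.1 d.2.2,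
          h.T_le (mul_mem h.tT (h.ctx.D_le_T d.2.1))⟩, mul_mem h.tT (h.ctx.D_le_T d.2.1)⟩
        left_inv := fun x => Subtype.ext (Subtype.ext (by
          show t * (t * x.1.1) = x.1.1; rw [← mul_assoc, h.tsq, one_mul]))
        right_inv := fun d => Subtype.ext (by
          show t * (t * d.1) = d.1; rw [← mul_assoc, h.tsq, one_mul]) }
  have h2 : Nat.card {x : X // (x : G) ∉ T} =
      Nat.card {x : G | IsConj t x ∧ x ∈ C ∧ x ∉ T} :=
    Nat.card_congr
      { toFun := fun x => ⟨x.1.1, x.1.2.1, x.1.2.2, x.2⟩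
        invFun := fun x => ⟨⟨x.1, x.2.1, x.2.2.1⟩, x.2.2.2⟩
        left_inv := fun x => rfl
        right_inv := fun x => rfl }
  have h3 : 4 ∣ Nat.card {x : G | IsConj t x ∧ x ∈ C ∧ x ∉ T} := by
    refine four_dvd_of_orbits h.T_two _ ?_ (fun x hx => h.outside_big hG hx.2.1 hx.1 hx.2.2)
    rintro g hg x ⟨hc, hxC, hxT⟩
    refine ⟨hc.trans (isConj_iff.2 ⟨g, rfl⟩), mul_mem (mul_mem (h.T_le hg) hxC)
      (inv_mem (h.T_le hg)), fun h1 => hxT ?_⟩
    have := mul_mem (mul_mem (inv_mem hg) h1) hg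
    rwa [show g⁻¹ * (g * x * g⁻¹) * g = x by group] at this
  have h4 : 4 ∣ 2 ^ (k + 2) := ⟨2 ^ k, by ring⟩
  rw [h1, h2]
  omega

end Dih

end CfsgLib.Involution.TwoTimesPSL
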