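import Cfsg.Agent.Lib.Involution.TwoTimesPSL.DihedralBasic

/-!
# The dihedral case: the over-group `R` of `T` and the four-groups `⟨z, s⟩`
-/

set_option autoImplicit false
set_option linter.style.haveILetI false
set_option linter.unusedSectionVars false

namespace CfsgLib.Involution.TwoTimesPSL

open Subgroup

variable {G : Type*} [Group G] [Finite G]

theorem card_le_two_mul {R T H : Subgroup G} (hHR : H ≤ R)
    (hmul : ∀ x ∈ R, ∀ y ∈ R, x ∉ T → y ∉ T → x⁻¹ * y ∈ T) :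
    Nat.card H ≤ 2 * Nat.card (H ⊓ T : Subgroup G) := by
  classical
  by_cases hex : ∃ h₀ ∈ H, h₀ ∉ T
  · obtain ⟨h₀, hh₀, hT⟩ := hex
    rw [show 2 = Nat.card Bool by simp, ← Nat.card_prod]
    refine Nat.card_le_card_of_injective (fun x : H =>
      if hx : (x : G) ∈ T then (true, (⟨x, x.2, hx⟩ : (H ⊓ T : Subgroup G)))
      else (false, ⟨h₀⁻¹ * x, H.mul_mem (H.inv_mem hh₀) x.2, hmul _ (hHR hh₀) _ (hHR x.2) hT hx⟩)) ?_
    intro x y e
    by_cases hx : (x : G) ∈ T <;> by_cases hy : (y : G) ∈ T <;> simp [hx, hy] at e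
    · exact Subtype.ext (Subtype.mk.inj e)
    · exact Subtype.ext (mul_left_cancel (Subtype.mk.inj e))
  · push Not at hex
    rw [inf_eq_left.2 (hex : H ≤ T)]
    omega

/-- A 2-group `R` in which `T` has index two. -/
structure Over (T R : Subgroup G) : Prop where
  le : T ≤ R
  two : IsPGroup 2 R
  card : Nat.card R = 2 * Nat.card T
  sylow : IsSyl ⊤ R

namespace Over

variable {T R : Subgroup G} (o : Over T R)
include o

theorem index_two : (T.subgroupOf R).index = 2 := by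
  have h := (T.subgroupOf R).card_mul_index
  rw [Nat.card_congr (subgroupOfEquivOfLe o.le).toEquiv, o.card, mul_comm 2] at h
  exact Nat.eq_of_mul_eq_mul_left Nat.card_pos h

theorem inv_mul_mem {x y : G} (hx : x ∈ R) (hy : y ∈ R) (hxT : x ∉ T) (hyT : y ∉ T) :
    x⁻¹ * y ∈ T := by
  have h := mul_mem_iff_of_index_two o.index_two (a := (⟨x, hx⟩ : R)⁻¹) (b := ⟨y, hy⟩)
  rw [mem_subgroupOf, mem_subgroupOf, mem_subgroupOf] at h
  exact h.2 (iff_of_false (fun h' => hxT (inv_mem_iff.1 h')) hyT)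

theorem conj_T {x y : G} (hx : x ∈ R) (hy : y ∈ T) : x * y * x⁻¹ ∈ T := by
  haveI := Subgroup.normal_of_index_eq_two o.index_two
  exact mem_subgroupOf.1 (Normal.conj_mem ‹(T.subgroupOf R).Normal› ⟨y, o.le hy⟩
    (mem_subgroupOf.2 hy) ⟨x, hx⟩)

theorem card_le {H : Subgroup G} (hH : H ≤ R) : Nat.card H ≤ 2 * Nat.card (H ⊓ T : Subgroup G) :=
  card_le_two_mul hH fun _ hx _ hy => o.inv_mul_mem hx hy

end Over

namespace Dih

variable {t r s : G} {T D K : Subgroup G} {k : ℕ} (h : Dih t T D K r s k)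
include h

theorem rebase (i : ℤ) : Dih t T D K r (r ^ i * s) k where
  toCtx := h.toCtx
  rD := h.rD
  sD := h.refl_mem i
  rord := h.rord
  ssq := h.refl_sq i
  sconj := by
    calc r ^ i * s * r * (r ^ i * s) = r ^ i * (s * r ^ (1 + i) * s) := by group
      _ = r⁻¹ := by rw [h.s_zpow, ← zpow_add, ← zpow_neg_one]; congr 1; omega
  snr := h.refl_not_rot i
  cases_D := by
    intro x hx
    rcases h.cases_D x hx with h1 | ⟨j, rfl⟩
    · exact Or.inl h1
    · exact Or.inr ⟨j - i, by rw [← mul_assoc, ← zpow_add, sub_add_cancel]⟩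

theorem card_D : Nat.card D = 2 * 2 ^ (k + 2) := by
  rw [← h.rord, ← Nat.card_zpowers]
  refine card_double (zpowers_le.2 h.rD) h.sD h.snr h.ssq fun x hx => ?_
  rcases h.cases_D x hx with ⟨i, rfl⟩ | ⟨i, rfl⟩
  · exact Or.inl (zpow_mem_zpowers r i)
  · right
    rw [← mul_assoc, h.s_zpow]; exact zpow_mem_zpowers r _

/-- The centraliser in `D` of a reflection. -/
theorem cen_s_D {x : G} (hx : x ∈ D) (hc : x * s = s * x) :
    x = 1 ∨ x = cinv r k ∨ x = s ∨ x = cinv r k * s := by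
  have key : ∀ i : ℤ, r ^ i * s = s * r ^ i → r ^ i = 1 ∨ r ^ i = cinv r k := fun i e => by
    refine h.zpow_involution ?_
    have h1 : r ^ i = r ^ (-i) := by
      rw [← h.s_zpow i, ← e, mul_assoc, h.ssq, mul_one]
    nth_rw 2 [h1]
    rw [← zpow_add, add_neg_cancel, zpow_zero]
  rcases h.cases_D x hx with ⟨i, rfl⟩ | ⟨i, rfl⟩
  · rcases key i hc with e | e
    · exact Or.inl e
    · exact Or.inr (Or.inl e)
  · have h1 : r ^ i * s = s * r ^ i := by
      calc r ^ i * s = r ^ i * s * s * s := by rw [mul_assoc (r ^ i * s) s s, h.ssq, mul_one]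
        _ = s * (r ^ i * s) * s := by rw [hc]
        _ = s * r ^ i := by rw [mul_assoc, mul_assoc (r ^ i), h.ssq, mul_one]
    rcases key i h1 with e | e
    · exact Or.inr (Or.inr (Or.inl (by rw [e, one_mul])))
    · exact Or.inr (Or.inr (Or.inr (by rw [e])))

theorem z_s : s * cinv r k = cinv r k * s := h.z_comm_D h.sD

/-- The four-group `⟨z, s⟩`. -/
def four : Subgroup G where
  carrier := {x | x = 1 ∨ x = cinv r k ∨ x = s ∨ x = cinv r k * s}
  one_mem' := Or.inl rfl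
  mul_mem' := by
    have h1 : ∀ x, cinv r k * (cinv r k * x) = x := fun x => by rw [← mul_assoc, h.z_sq, one_mul]
    have h2 : ∀ x, s * (s * x) = x := fun x => by rw [← mul_assoc, h.ssq, one_mul]
    have h3 : ∀ x, s * (cinv r k * x) = cinv r k * (s * x) := fun x => by
      rw [← mul_assoc, h.z_s, mul_assoc]
    intro a b ha hb
    rcases ha with e | e | e | e <;> rcases hb with e' | e' | e' | e' <;>
      simp [e, e', mul_assoc, h.z_sq, h.ssq, h.z_s, h1, h2, h3]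
  inv_mem' := by
    rintro a (rfl | rfl | rfl | rfl)
    · exact Or.inl inv_one
    · exact Or.inr (Or.inl h.zinv)
    · exact Or.inr (Or.inr (Or.inl h.sinv))
    · exact Or.inr (Or.inr (Or.inr (by rw [mul_inv_rev, h.zinv, h.sinv, h.z_s])))

theorem four_le : h.four ≤ D := by
  rintro x (rfl | rfl | rfl | rfl)
  exacts [one_mem _, h.zD, h.sD, mul_mem h.zD h.sD]

theorem mem_four {x : G} :
    x ∈ h.four ↔ x = 1 ∨ x = cinv r k ∨ x = s ∨ x = cinv r k * s := Iff.rfl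

theorem four_sq {x : G} (hx : x ∈ h.four) : x * x = 1 := by
  rcases hx with rfl | rfl | rfl | rfl
  · exact one_mul 1
  · exact h.z_sq
  · exact h.ssq
  · calc cinv r k * s * (cinv r k * s) = cinv r k * (s * cinv r k) * s := by group
      _ = cinv r k * cinv r k * (s * s) := by rw [h.z_s]; group
      _ = 1 := by rw [h.z_sq, h.ssq, one_mul]

theorem s_ne_z : s ≠ cinv r k := fun e =>
  h.snr (e ▸ pow_mem (mem_zpowers r) _)

theorem card_four : Nat.card h.four = 4 := by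
  classical
  have hset : (h.four : Set G) = {1, cinv r k, s, cinv r k * s} := rfl
  have hs1 : s ≠ 1 := fun e => h.snr (e ▸ one_mem _)
  show Nat.card (h.four : Set G) = 4
  rw [Nat.card_coe_set_eq, hset, Set.ncard_insert_of_notMem, Set.ncard_insert_of_notMem,
    Set.ncard_pair]
  · intro e
    exact h.z_ne (right_eq_mul.1 e)
  · simp only [Set.mem_insert_iff, Set.mem_singleton_iff, not_or]
    exact ⟨fun e => h.s_ne_z e.symm, fun e => hs1 (left_eq_mul.1 e)⟩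
  · simp only [Set.mem_insert_iff, Set.mem_singleton_iff, not_or]
    refine ⟨fun e => h.z_ne e.symm, fun e => hs1 e.symm, fun e => h.s_ne_z ?_⟩
    rw [eq_inv_of_mul_eq_one_right e.symm, h.zinv]

theorem four_T : h.four ≤ T := h.four_le.trans h.ctx.D_le_T

theorem cen_s_T {x : G} (hx : x ∈ T) (hc : x * s = s * x) : x ∈ h.four ∨ t * x ∈ h.four := by
  rcases h.split x hx with hd | hd
  · exact Or.inl (h.cen_s_D hd hc)
  · right
    refine h.cen_s_D hd ?_
    have hts : s * t = t * s := h.ctx.comm (h.ctx.D_le_T h.sD)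
    rw [mul_assoc, hc, ← mul_assoc, ← hts, mul_assoc]

theorem card_cen_s : Nat.card (T ⊓ centralizer ({s} : Set G) : Subgroup G) = 8 := by
  rw [show (8 : ℕ) = 2 * Nat.card h.four by rw [h.card_four]]
  refine card_double ?_ ⟨h.tT, mem_cen (h.ctx.comm (h.ctx.D_le_T h.sD)).symm⟩
    (fun ht => h.ctx.t_notD (h.four_le ht)) h.tsq fun x hx => h.cen_s_T hx.1 (comm_of_mem hx.2)
  intro x hx
  refine ⟨h.four_T hx, mem_cen ?_⟩
  rcases hx with rfl | rfl | rfl | rfl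
  · rw [one_mul, mul_one]
  · exact h.z_s.symm
  · rfl
  · rw [mul_assoc, h.ssq, mul_one, ← mul_assoc, h.z_s, mul_assoc, h.ssq, mul_one]

variable [IsSimpleGroup G] (hG : ¬ IsMulCommutative G)
include hG

theorem exists_over : ∃ R : Subgroup G, Over T R := by
  haveI : Fact (Nat.Prime 2) := ⟨Nat.prime_two⟩
  obtain ⟨R, hR, hTR⟩ := IsSyl.exists_ge (W := ⊤) h.T_two le_top
  obtain ⟨m, hm, hC⟩ := h.ctx.card_C
  have hidx := h.index_two_mod hG
  obtain ⟨a, ha⟩ := IsPGroup.iff_card.1 h.T_two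
  obtain ⟨j, hj⟩ : ∃ j, (centralizer ({t} : Set G)).index = 2 * (2 * j + 1) :=
    ⟨(centralizer ({t} : Set G)).index / 4, by omega⟩
  refine ⟨R, hTR, hR.two, ?_, hR⟩
  rw [hR.card_eq (a := a + 1) ((odd_two_mul_add_one j).mul hm) (by
    rw [card_top, ← (centralizer ({t} : Set G)).card_mul_index, hC, hj, ha]; ring), ha, pow_succ']

variable {R : Subgroup G} (o : Over T R)
include o

theorem over_C {u : G} (hu : u ∈ R) (huC : u * t = t * u) : u ∈ T := by
  have hle : T ≤ R ⊓ centralizer ({t} : Set G) := le_inf o.le h.T_le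
  have := Subgroup.eq_of_le_of_card_ge hle (h.ctx.card_le o.two.to_inf_left inf_le_right)
  rw [this]; exact ⟨hu, mem_cen huC⟩

theorem over_z {u : G} (hu : u ∈ R) : u * cinv r k * u⁻¹ = cinv r k := by
  refine h.rot_involution ?_ (by rw [conj_mul, h.z_sq]; group)
    (fun e => h.z_ne (conj_eq_one_iff.1 e))
  have := h.sq_T (o.conj_T hu h.qT)
  rwa [conj_mul, h.q_sq] at this

theorem over_t {u : G} (hu : u ∈ R) (huT : u ∉ T) : u * t * u⁻¹ = t * cinv r k := by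
  have hm := o.conj_T hu h.tT
  have hc : ∀ y ∈ T, y * (u * t * u⁻¹) = u * t * u⁻¹ * y := by
    intro y hy
    have h1 := h.ctx.comm (o.conj_T (inv_mem hu) hy)
    rw [inv_inv] at h1
    calc y * (u * t * u⁻¹) = u * ((u⁻¹ * y * u) * t) * u⁻¹ := by group
      _ = u * (t * (u⁻¹ * y * u)) * u⁻¹ := by rw [h1]
      _ = _ := by group
  have hcj : IsConj t (u * t * u⁻¹) := isConj_iff.2 ⟨u, rfl⟩
  rcases h.central_cases hm (by rw [conj_mul, h.tsq]; group) hc with (e | e) | e | e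
  · exact absurd (isConj_one_left.1 (e ▸ hcj)) h.tne
  · exact absurd (e ▸ hcj) (h.z_not_conj hG)
  · exact absurd (h.over_C hG o hu (mul_inv_eq_iff_eq_mul.1 e)) huT
  · exact e

theorem over_D {u x : G} (hu : u ∈ R) (hx : x ∈ D) : u * x * u⁻¹ ∈ D := by
  have key : ∀ d ∈ D, d * d = 1 → u * d * u⁻¹ ∈ D := by
    intro d hd hd2
    have hT := o.conj_T hu (h.ctx.D_le_T hd)
    refine (h.split _ hT).resolve_right fun hd' => h.D_not_conj hG hd ?_
    exact ((h.conj_T_iff hG hT).2 ⟨hd', by rw [conj_mul, hd2]; group⟩).trans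
      (isConj_iff.2 ⟨u⁻¹, by group⟩)
  rcases h.cases_D x hx with ⟨i, rfl⟩ | ⟨i, rfl⟩
  · have h1 := mul_mem (key _ (h.refl_mem i) (h.refl_sq i)) (key _ h.sD h.ssq)
    rwa [conj_mul, mul_assoc (r ^ i) s s, h.ssq, mul_one] at h1
  · exact key _ hx (h.refl_sq i)

theorem no_fix {u : G} (huR : u ∈ R) (huT : u ∉ T) (hus : u * s * u⁻¹ = s) : False := by
  classical
  haveI : Fact (Nat.Prime 2) := ⟨Nat.prime_two⟩
  set z₀ := cinv r k with hz₀
  -- an element of `C(t)` permuting `z, s, z s` cyclically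
  obtain ⟨m, hm, hC⟩ := h.ctx.card_C
  set W₁ := centralizer ({t} : Set G) ⊓ centralizer ({z₀} : Set G)
  have hTW : T ≤ W₁ := fun x hx => ⟨h.T_le hx, mem_cen (h.z_comm hx)⟩
  have hsylT : IsSyl W₁ T := ⟨hTW, h.T_two, fun h2 => by
    obtain ⟨j, hj⟩ := card_dvd_of_le (inf_le_left : W₁ ≤ centralizer ({t} : Set G))
    have h3 : Nat.card T * T.relIndex W₁ = Nat.card W₁ := by
      rw [← relIndex_bot_left, ← relIndex_bot_left, relIndex_mul_relIndex _ _ _ bot_le hTW]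
    have h4 : m = T.relIndex W₁ * j := Nat.eq_of_mul_eq_mul_left (Nat.card_pos (α := T))
      (by rw [← hC, hj, ← h3, mul_assoc])
    exact Nat.not_even_iff_odd.2 hm (even_iff_two_dvd.2 (h4 ▸ h2.mul_right j))⟩
  obtain ⟨c₀, hc₀, ec₀⟩ := h.conjK s (h.ctx.D_le_K h.sD) z₀ h.zK h.ssq (fun e => h.snr (e ▸ one_mem _))
    h.z_sq h.z_ne
  have hz' : c₀ * z₀ * c₀⁻¹ * (c₀ * z₀ * c₀⁻¹) = 1 := by rw [conj_mul, h.z_sq]; group
  obtain ⟨a₀, ha₀, haT⟩ := hsylT.exists_conj (two_group_zpowers (x := c₀ * z₀ * c₀⁻¹) (k := 1)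
    (by rw [pow_one, pow_two, hz'])) (zpowers_le.2 ⟨Subgroup.mul_mem _ (Subgroup.mul_mem _ hc₀ (h.T_le h.zT)) (Subgroup.inv_mem _ hc₀),
      mem_cen (by
        calc c₀ * z₀ * c₀⁻¹ * z₀ = c₀ * z₀ * c₀⁻¹ * (c₀ * s * c₀⁻¹) := by rw [ec₀]
          _ = c₀ * s * c₀⁻¹ * (c₀ * z₀ * c₀⁻¹) := by rw [conj_mul, conj_mul, h.z_s]
          _ = _ := by rw [ec₀])⟩)
  set c := a₀ * c₀
  have hcC : c ∈ centralizer ({t} : Set G) := mul_mem ha₀.1 hc₀
  have hcs : c * s * c⁻¹ = z₀ := by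
    calc c * s * c⁻¹ = a₀ * (c₀ * s * c₀⁻¹) * a₀⁻¹ := by simp only [c]; group
      _ = z₀ := by rw [ec₀, comm_of_mem ha₀.2, mul_inv_cancel_right]
  have hs'T : c * z₀ * c⁻¹ ∈ T := by
    have := haT _ (mem_zpowers _)
    rwa [show c * z₀ * c⁻¹ = a₀ * (c₀ * z₀ * c₀⁻¹) * a₀⁻¹ by simp only [c]; group]
  have hs'D : c * z₀ * c⁻¹ ∈ D := h.ctx.mem_D hs'T (h.K_normal c hcC _ h.zK)
  obtain ⟨i, hi⟩ : ∃ i : ℤ, c * z₀ * c⁻¹ = r ^ i * s := by
    refine (h.invol_D hs'D (by rw [conj_mul, h.z_sq]; group)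
      (fun e => h.z_ne (conj_eq_one_iff.1 e))).resolve_left fun e => h.s_ne_z ?_
    exact mul_left_cancel (mul_right_cancel (hcs.trans e.symm))
  set q := c⁻¹ * quarter r k * c with hq
  have hqC : q ∈ centralizer ({t} : Set G) :=
    mul_mem (mul_mem (inv_mem hcC) (h.T_le h.qT)) hcC
  have hqs : q * s * q⁻¹ = s := by
    calc q * s * q⁻¹ = c⁻¹ * (quarter r k * (c * s * c⁻¹) * (quarter r k)⁻¹) * c := by rw [hq]; group
      _ = c⁻¹ * z₀ * c := by rw [hcs, h.z_comm h.qT, mul_inv_cancel_right]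
      _ = s := by rw [← hcs]; group
  have hqz : q * z₀ * q⁻¹ = s * z₀ := by
    calc q * z₀ * q⁻¹ = c⁻¹ * (quarter r k * (c * z₀ * c⁻¹) * (quarter r k)⁻¹) * c := by rw [hq]; group
      _ = c⁻¹ * ((c * s * c⁻¹) * (c * z₀ * c⁻¹)) * c := by rw [hi, h.q_refl, hcs]
      _ = s * z₀ := by group
  set ω := quarter r k * q with hω
  have hωC : ω ∈ centralizer ({t} : Set G) := mul_mem (h.T_le h.qT) hqC
  have hq0 : quarter r k * s * (quarter r k)⁻¹ = z₀ * s := by simpa using h.q_refl 0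
  have hωz : ω * z₀ * ω⁻¹ = s := by
    calc ω * z₀ * ω⁻¹ = quarter r k * (q * z₀ * q⁻¹) * (quarter r k)⁻¹ := by rw [hω]; group
      _ = (quarter r k * s * (quarter r k)⁻¹) * (quarter r k * z₀ * (quarter r k)⁻¹) := by
          rw [hqz]; group
      _ = z₀ * (s * z₀) := by rw [hq0, h.z_comm h.qT, mul_inv_cancel_right, mul_assoc]
      _ = s := by rw [h.z_s, ← mul_assoc, h.z_sq, one_mul]
  have hωs : ω * s * ω⁻¹ = z₀ * s := by
    calc ω * s * ω⁻¹ = quarter r k * (q * s * q⁻¹) * (quarter r k)⁻¹ := by simp only [hω]; group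
      _ = z₀ * s := by rw [hqs, hq0]
  have hωzs : ω * (z₀ * s) * ω⁻¹ = z₀ := by
    rw [← conj_mul, hωz, hωs, ← mul_assoc, h.z_s, mul_assoc, h.ssq, mul_one]
  have hωfour : ∀ e ∈ h.four, ω * e * ω⁻¹ ∈ h.four := by
    rintro e (rfl | rfl | rfl | rfl)
    · rw [mul_one, mul_inv_cancel]; exact one_mem _
    · rw [hωz]; exact Or.inr (Or.inr (Or.inl rfl))
    · rw [hωs]; exact Or.inr (Or.inr (Or.inr rfl))
    · rw [hωzs]; exact Or.inr (Or.inl rfl)
  have hωfree : ∀ e ∈ h.four, e ≠ 1 → ω * e * ω⁻¹ ≠ e := by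
    have hs1 : s ≠ 1 := fun e => h.snr (e ▸ one_mem _)
    rintro e (rfl | rfl | rfl | rfl) he1 hfix
    · exact he1 rfl
    · exact h.s_ne_z (hωz.symm.trans hfix)
    · exact h.z_ne (mul_eq_right.1 (hωs.symm.trans hfix))
    · exact hs1 (left_eq_mul.1 (hωzs.symm.trans hfix))
  -- the group `W`
  let W : Subgroup G :=
    { carrier := {w | w * z₀ = z₀ * w ∧ w * s = s * w ∧ t * (w * t * w⁻¹) ∈ h.four}
      one_mem' := ⟨by group, by group, by
        rw [one_mul, inv_one, mul_one, h.tsq]; exact one_mem _⟩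
      mul_mem' := by
        rintro a b ⟨ha1, ha2, ha3⟩ ⟨hb1, hb2, hb3⟩
        refine ⟨by rw [mul_assoc, hb1, ← mul_assoc, ha1, mul_assoc],
          by rw [mul_assoc, hb2, ← mul_assoc, ha2, mul_assoc], ?_⟩
        have hfix : a * (t * (b * t * b⁻¹)) * a⁻¹ = t * (b * t * b⁻¹) := by
          rcases hb3 with e | e | e | e <;> rw [e]
          · group
          · rw [ha1, mul_inv_cancel_right]
          · rw [ha2, mul_inv_cancel_right]
          · rw [← mul_assoc, ha1, mul_assoc z₀, ha2, ← mul_assoc, mul_inv_cancel_right]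
        have h1 := mul_mem ha3 hb3
        rw [← hfix] at h1
        rw [show t * (a * b * t * (a * b)⁻¹) = t * (a * ((t * t) * (b * t * b⁻¹)) * a⁻¹) by
          rw [h.tsq]; group]
        rwa [show t * (a * t * a⁻¹) * (a * (t * (b * t * b⁻¹)) * a⁻¹) =
          t * (a * ((t * t) * (b * t * b⁻¹)) * a⁻¹) by group] at h1
      inv_mem' := by
        rintro a ⟨ha1, ha2, ha3⟩
        refine ⟨(Commute.inv_left ha1).eq, (Commute.inv_left ha2).eq, ?_⟩
        have hfix : a⁻¹ * (t * (a * t * a⁻¹)) * a = t * (a * t * a⁻¹) := by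
          rcases ha3 with e | e | e | e <;> rw [e]
          · group
          · rw [mul_assoc, ← ha1, inv_mul_cancel_left]
          · rw [mul_assoc, ← ha2, inv_mul_cancel_left]
          · rw [mul_assoc, show z₀ * s * a = a * (z₀ * s) by
              rw [mul_assoc, ← ha2, ← mul_assoc, ← ha1, mul_assoc], inv_mul_cancel_left]
        rw [inv_inv]
        convert inv_mem ha3 using 1
        conv_rhs => rw [← hfix]
        simp only [mul_inv_rev, h.ctx.tinv, inv_inv]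
        group }
  have hmemW : ∀ w : G, w ∈ W ↔ w * z₀ = z₀ * w ∧ w * s = s * w ∧ t * (w * t * w⁻¹) ∈ h.four :=
    fun w => Iff.rfl
  set E := T ⊓ centralizer ({s} : Set G) with hEdef
  have hEW : E ≤ W := fun x hx => (hmemW x).2 ⟨h.z_comm hx.1, comm_of_mem hx.2, by
    rw [h.ctx.comm hx.1, mul_inv_cancel_right, h.tsq]; exact one_mem _⟩
  have huW : u ∈ W := (hmemW u).2 ⟨mul_inv_eq_iff_eq_mul.1 (h.over_z hG o huR),
    mul_inv_eq_iff_eq_mul.1 hus, by
      rw [h.over_t hG o huR huT, ← mul_assoc, h.tsq, one_mul]; exact Or.inr (Or.inl rfl)⟩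
  have hωW : ∀ w ∈ W, ω * w * ω⁻¹ ∈ W := by
    intro w hw
    obtain ⟨hw1, hw2, hw3⟩ := (hmemW w).1 hw
    have hcomm : ∀ e ∈ h.four, w * e = e * w := by
      rintro e (rfl | rfl | rfl | rfl)
      · group
      · exact hw1
      · exact hw2
      · rw [← mul_assoc, hw1, mul_assoc, hw2, ← mul_assoc]
    have hback : ∀ e ∈ h.four, ω⁻¹ * e * ω ∈ h.four := by
      rintro e (rfl | rfl | rfl | rfl)
      · rw [mul_one, inv_mul_cancel]; exact one_mem _
      · rw [show ω⁻¹ * cinv r k * ω = z₀ * s by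
          calc ω⁻¹ * z₀ * ω = ω⁻¹ * (ω * (z₀ * s) * ω⁻¹) * ω := by rw [hωzs]
            _ = _ := by group]
        exact Or.inr (Or.inr (Or.inr rfl))
      · rw [show ω⁻¹ * e * ω = z₀ by
          calc ω⁻¹ * e * ω = ω⁻¹ * (ω * z₀ * ω⁻¹) * ω := by rw [hωz]
            _ = _ := by group]
        exact Or.inr (Or.inl rfl)
      · rw [show ω⁻¹ * (cinv r k * s) * ω = s by
          calc ω⁻¹ * (z₀ * s) * ω = ω⁻¹ * (ω * s * ω⁻¹) * ω := by rw [hωs]
            _ = _ := by group]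
        exact Or.inr (Or.inr (Or.inl rfl))
    have hconj : ∀ e ∈ h.four, ω * w * ω⁻¹ * e = e * (ω * w * ω⁻¹) := fun e he => by
      calc ω * w * ω⁻¹ * e = ω * (w * (ω⁻¹ * e * ω)) * ω⁻¹ := by group
        _ = ω * ((ω⁻¹ * e * ω) * w) * ω⁻¹ := by rw [hcomm _ (hback e he)]
        _ = _ := by group
    refine (hmemW _).2 ⟨hconj z₀ (Or.inr (Or.inl rfl)), hconj s (Or.inr (Or.inr (Or.inl rfl))), ?_⟩
    have hωt := comm_of_mem hωC
    have hωt' := comm_of_mem (inv_mem hωC)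
    rw [show t * (ω * w * ω⁻¹ * t * (ω * w * ω⁻¹)⁻¹) = t * ω * w * (ω⁻¹ * t) * ω * w⁻¹ * ω⁻¹ by group,
      hωt', ← hωt, show ω * t * w * (t * ω⁻¹) * ω * w⁻¹ * ω⁻¹ = ω * (t * (w * t * w⁻¹)) * ω⁻¹ by group]
    exact hωfour _ hw3
  -- the order of `W`
  have hsurj : ∀ e ∈ h.four, ∃ w ∈ W, t * (w * t * w⁻¹) = e := by
    have hu1 : t * (u * t * u⁻¹) = z₀ := by rw [h.over_t hG o huR huT, ← mul_assoc, h.tsq, one_mul]
    have htr : ∀ w ∈ W, ∀ e, t * (w * t * w⁻¹) = e →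
        t * ((ω * w * ω⁻¹) * t * (ω * w * ω⁻¹)⁻¹) = ω * e * ω⁻¹ := by
      intro w _ e he
      rw [← he]
      have hωt := comm_of_mem hωC
      have hωt' := comm_of_mem (inv_mem hωC)
      rw [show t * (ω * w * ω⁻¹ * t * (ω * w * ω⁻¹)⁻¹) = t * ω * w * (ω⁻¹ * t) * ω * w⁻¹ * ω⁻¹ by group,
        hωt', ← hωt]
      group
    rintro e (rfl | rfl | rfl | rfl)
    · exact ⟨1, one_mem _, by rw [one_mul, inv_one, mul_one, h.tsq]⟩
    · exact ⟨u, huW, hu1⟩
    · exact ⟨ω * u * ω⁻¹, hωW u huW, by rw [htr u huW _ hu1, hωz]⟩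
    · exact ⟨ω * (ω * u * ω⁻¹) * ω⁻¹, hωW _ (hωW u huW),
        by rw [htr _ (hωW u huW) _ (htr u huW _ hu1), hωz, hωs]⟩
  set WC := W ⊓ centralizer ({t} : Set G) with hWC
  have hEWC : E ≤ WC := le_inf hEW (inf_le_left.trans h.T_le)
  have hEc : Nat.card E = 8 := h.card_cen_s
  obtain ⟨Q, hQ, hEQ⟩ := IsSyl.exists_ge (h.T_two.to_le inf_le_left : IsPGroup 2 E) hEWC
  have hQ8 : Nat.card Q = 8 := by
    refine le_antisymm ?_ (hEc ▸ card_le_of_le hEQ)
    obtain ⟨c', hc', hin⟩ := h.sylow Q hQ.two (hQ.le.trans inf_le_right)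
    have hmap : Q.map (MulAut.conj c').toMonoidHom ≤ T := by rintro _ ⟨x, hx, rfl⟩; exact hin x hx
    have hfourQ : ∀ e ∈ h.four, c' * e * c'⁻¹ ∈ D ∧
        ∀ x ∈ Q, c' * x * c'⁻¹ * (c' * e * c'⁻¹) = c' * e * c'⁻¹ * (c' * x * c'⁻¹) := by
      intro e he
      refine ⟨h.ctx.mem_D (hin e (hEQ ⟨h.four_T he, mem_cen ?_⟩))
        (h.K_normal c' hc' e (h.ctx.D_le_K (h.four_le he))), fun x hx => ?_⟩
      · rcases he with rfl | rfl | rfl | rfl
        · group
        · exact h.z_s.symm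
        · rfl
        · rw [mul_assoc, h.ssq, mul_one, ← mul_assoc, h.z_s, mul_assoc, h.ssq, mul_one]
      · have hxW := (hmemW x).1 (hQ.le hx).1
        rw [conj_mul, conj_mul]
        rcases he with rfl | rfl | rfl | rfl
        · group
        · rw [hxW.1]
        · rw [hxW.2.1]
        · rw [show x * (cinv r k * s) = cinv r k * s * x by
            rw [← hz₀, ← mul_assoc, hxW.1, mul_assoc, hxW.2.1, ← mul_assoc]]
    -- one of the images is a reflection
    obtain ⟨e, he, j, hj⟩ : ∃ e ∈ h.four, ∃ j : ℤ, c' * e * c'⁻¹ = r ^ j * s := by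
      have h1 := hfourQ z₀ (Or.inr (Or.inl rfl))
      have h2 := hfourQ s (Or.inr (Or.inr (Or.inl rfl)))
      rcases h.invol_D h1.1 (by rw [conj_mul, h.z_sq]; group)
          (fun e => h.z_ne (conj_eq_one_iff.1 e)) with e | ⟨j, e⟩
      · rcases h.invol_D h2.1 (by rw [conj_mul, h.ssq]; group)
          (fun e => h.snr (conj_eq_one_iff.1 e ▸ one_mem _)) with e' | ⟨j, e'⟩
        · exact absurd (mul_left_cancel (mul_right_cancel (e'.trans e.symm))) h.s_ne_z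
        · exact ⟨s, Or.inr (Or.inr (Or.inl rfl)), j, e'⟩
      · exact ⟨z₀, Or.inr (Or.inl rfl), j, e⟩
    rw [← card_map_of_injective (f := (MulAut.conj c').toMonoidHom) (MulEquiv.injective _) (K := Q),
      ← (h.rebase j).card_cen_s]
    refine card_le_of_le (le_inf hmap ?_)
    rintro _ ⟨x, hx, rfl⟩
    refine mem_cen ?_
    rw [← hj]
    exact (hfourQ e he).2 x hx
  obtain ⟨o', ho'⟩ : ∃ o', Q.relIndex WC = 2 * o' + 1 :=
    ⟨Q.relIndex WC / 2, by have := hQ.odd; omega⟩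
  have hWCc : Nat.card WC = 8 * (2 * o' + 1) := by
    rw [← hQ8, ← ho', ← relIndex_bot_left, ← relIndex_bot_left, relIndex_mul_relIndex _ _ _ bot_le hQ.le]
  have hcardW : Nat.card W = 2 ^ 5 * (2 * o' + 1) := by
    rw [card_conj_mul t W ((fun e => t * e) '' (h.four : Set G))
      (fun w hw => ⟨_, ((hmemW w).1 hw).2.2, by
        show t * (t * (w * t * w⁻¹)) = _
        rw [← mul_assoc t t, h.tsq, one_mul]⟩)
      (by
        rintro _ ⟨e, he, rfl⟩
        obtain ⟨w, hw, e'⟩ := hsurj e he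
        exact ⟨w, hw, by
          show w * t * w⁻¹ = t * e
          rw [← e', ← mul_assoc t t, h.tsq, one_mul]⟩),
      Nat.card_image_of_injective (mul_right_injective t)]
    show Nat.card h.four * _ = _
    rw [h.card_four, hWCc]; ring
  obtain ⟨W₂, hW₂, hEW₂⟩ := IsSyl.exists_ge (h.T_two.to_le inf_le_left : IsPGroup 2 E) hEW
  have hW₂c : Nat.card W₂ = 32 := by rw [hW₂.card_eq (odd_two_mul_add_one o') hcardW]; norm_num
  obtain ⟨a, ha, haV⟩ := hW₂.exists_conj (hW₂.two.map (MulAut.conj ω).toMonoidHom) (by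
    rintro _ ⟨w, hw, rfl⟩; exact hωW w (hW₂.le hw))
  -- `W₂` is not elementary abelian
  obtain ⟨w, hw, hw2⟩ : ∃ w ∈ W₂, w * w ≠ 1 := by
    by_contra hne
    push Not at hne
    have hcomm : ∀ x ∈ W₂, ∀ y ∈ W₂, x * y = y * x := fun x hx y hy => by
      have h1 := inv_eq_of_mul_eq_one_right (hne _ (mul_mem hx hy))
      rw [mul_inv_rev, inv_eq_of_mul_eq_one_right (hne x hx),
        inv_eq_of_mul_eq_one_right (hne y hy)] at h1
      exact h1.symm
    have htW : t ∈ W₂ := hEW₂ ⟨h.tT, mem_cen (h.ctx.comm (h.ctx.D_le_T h.sD)).symm⟩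
    have hle : W₂ ≤ WC := fun x hx => ⟨hW₂.le hx, mem_cen (hcomm x hx t htW)⟩
    obtain ⟨Q', hQ', hle'⟩ := IsSyl.exists_ge hW₂.two hle
    have h8 := hQ'.card_eq (a := 3) (odd_two_mul_add_one o') (by rw [hWCc]; norm_num)
    have := card_le_of_le hle'
    omega
  -- move `W₂` into `R`
  obtain ⟨g, -, hg⟩ := o.sylow.exists_conj hW₂.two le_top
  set H := W₂.map (MulAut.conj g).toMonoidHom with hH
  have hHR : H ≤ R := by rintro _ ⟨x, hx, rfl⟩; exact hg x hx
  have hHc : Nat.card H = 32 := by rw [hH, card_map_of_injective (MulEquiv.injective _), hW₂c]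
  have hfourW : ∀ e ∈ h.four, e ∈ W₂ ∧ ∀ x ∈ W₂, x * e = e * x := by
    intro e he
    have h1 : e * s = s * e := by
      rcases he with rfl | rfl | rfl | rfl
      · group
      · exact h.z_s.symm
      · rfl
      · rw [mul_assoc, h.ssq, mul_one, ← mul_assoc, h.z_s, mul_assoc, h.ssq, mul_one]
    refine ⟨hEW₂ ⟨h.four_T he, mem_cen h1⟩, fun x hx => ?_⟩
    obtain ⟨hx1, hx2, -⟩ := (hmemW x).1 (hW₂.le hx)
    rcases he with rfl | rfl | rfl | rfl
    · group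
    · exact hx1
    · exact hx2
    · rw [← mul_assoc, hx1, mul_assoc, hx2, ← mul_assoc]
  have hcentral : ∀ e ∈ h.four, ∀ x ∈ H, x * (g * e * g⁻¹) = g * e * g⁻¹ * x := by
    rintro e he _ ⟨x, hx, rfl⟩
    simp only [MulEquiv.coe_toMonoidHom, MulAut.conj_apply, conj_mul, (hfourW e he).2 x hx]
  have hinT : ∀ e ∈ h.four, e ≠ 1 → g * e * g⁻¹ ∈ T → g * e * g⁻¹ = cinv r k := by
    intro e he he1 heT
    have hv2 : g * e * g⁻¹ * (g * e * g⁻¹) = 1 := by rw [conj_mul, h.four_sq he]; group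
    have hv1 : g * e * g⁻¹ ≠ 1 := fun e' => he1 (conj_eq_one_iff.1 e')
    have hvD : g * e * g⁻¹ ∈ D := (h.split _ heT).resolve_right fun hd =>
      h.D_not_conj hG (h.four_le he) (((h.conj_T_iff hG heT).2 ⟨hd, hv2⟩).trans
        (isConj_iff.2 ⟨g⁻¹, by group⟩))
    refine (h.invol_D hvD hv2 hv1).resolve_right ?_
    rintro ⟨j, hj⟩
    have h1 : H ≤ R ⊓ centralizer ({r ^ j * s} : Set G) := fun x hx =>
      ⟨hHR hx, mem_cen (hj ▸ hcentral e he x hx)⟩
    have h2 := o.card_le (inf_le_left : R ⊓ centralizer ({r ^ j * s} : Set G) ≤ R)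
    have h3 := card_le_of_le (show (R ⊓ centralizer ({r ^ j * s} : Set G)) ⊓ T ≤
      T ⊓ centralizer ({r ^ j * s} : Set G) from fun x hx => ⟨hx.2, hx.1.2⟩)
    rw [(h.rebase j).card_cen_s] at h3
    have := card_le_of_le h1
    omega
  have hgR : ∀ e ∈ h.four, g * e * g⁻¹ ∈ R := fun e he => hg e (hfourW e he).1
  -- some image lies outside `T`, some image is `z`
  have hzimg : ∃ e ∈ h.four, e ≠ 1 ∧ g * e * g⁻¹ = cinv r k := by
    by_cases h1 : g * z₀ * g⁻¹ ∈ T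
    · exact ⟨z₀, Or.inr (Or.inl rfl), h.z_ne, hinT _ (Or.inr (Or.inl rfl)) h.z_ne h1⟩
    have hs1 : s ≠ 1 := fun e => h.snr (e ▸ one_mem _)
    by_cases h2 : g * s * g⁻¹ ∈ T
    · exact ⟨s, Or.inr (Or.inr (Or.inl rfl)), hs1, hinT _ (Or.inr (Or.inr (Or.inl rfl))) hs1 h2⟩
    have h3 := o.inv_mul_mem (hgR _ (Or.inr (Or.inl rfl))) (hgR _ (Or.inr (Or.inr (Or.inl rfl)))) h1 h2
    rw [show (g * z₀ * g⁻¹)⁻¹ * (g * s * g⁻¹) = g * (z₀⁻¹ * s) * g⁻¹ by group, h.zinv] at h3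
    have h4 : z₀ * s ≠ 1 := fun e => h.s_ne_z ((eq_inv_of_mul_eq_one_right e).trans h.zinv)
    exact ⟨z₀ * s, Or.inr (Or.inr (Or.inr rfl)), h4, hinT _ (Or.inr (Or.inr (Or.inr rfl))) h4 h3⟩
  have hout : ∃ y ∈ h.four, g * y * g⁻¹ ∉ T := by
    by_contra hne
    push Not at hne
    have h1 := hinT _ (Or.inr (Or.inl rfl)) h.z_ne (hne _ (Or.inr (Or.inl rfl)))
    have h2 := hinT _ (Or.inr (Or.inr (Or.inl rfl))) (fun e => h.snr (e ▸ one_mem _))
      (hne _ (Or.inr (Or.inr (Or.inl rfl))))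
    exact h.s_ne_z (mul_left_cancel (mul_right_cancel (h2.trans h1.symm)))
  obtain ⟨y, hy, hyT⟩ := hout
  obtain ⟨e₀, he₀, he₀1, he₀z⟩ := hzimg
  have hsq : ∀ x ∈ W₂, g * (x * x) * g⁻¹ ∈ zpowers r := by
    intro x hx
    have hxH : g * x * g⁻¹ ∈ H := ⟨x, hx, rfl⟩
    rw [← conj_mul]
    by_cases hxT : g * x * g⁻¹ ∈ T
    · exact h.sq_T hxT
    · have h1 := h.sq_T (o.inv_mul_mem (hgR y hy) (hHR hxH) hyT hxT)
      have h2 := hcentral y hy _ hxH
      have h3 : (g * y * g⁻¹)⁻¹ = g * y * g⁻¹ := inv_eq_of_mul_eq_one_right (by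
        rw [conj_mul, h.four_sq hy]; group)
      rw [h3] at h1
      rwa [show g * y * g⁻¹ * (g * x * g⁻¹) * (g * y * g⁻¹ * (g * x * g⁻¹)) =
        g * y * g⁻¹ * ((g * x * g⁻¹) * (g * y * g⁻¹)) * (g * x * g⁻¹) by group, h2,
        show g * y * g⁻¹ * (g * y * g⁻¹ * (g * x * g⁻¹)) * (g * x * g⁻¹) =
          g * (y * y) * g⁻¹ * (g * x * g⁻¹ * (g * x * g⁻¹)) by group, h.four_sq hy,
        show g * 1 * g⁻¹ = 1 by group, one_mul] at h1
  obtain ⟨n, hn⟩ : ∃ n : ℕ, (w * w) ^ n = e₀ := by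
    set p := g * (w * w) * g⁻¹
    have hp1 : p ≠ 1 := fun e => hw2 (conj_eq_one_iff.1 e)
    obtain ⟨j, hj⟩ : ∃ j, p ^ 2 ^ j = 1 := by
      obtain ⟨j, hj⟩ := hW₂.two ⟨w * w, mul_mem hw hw⟩
      refine ⟨j, ?_⟩
      have : (w * w) ^ 2 ^ j = 1 := congrArg Subtype.val hj
      simp only [p]
      rw [conj_pow, this]; group
    have hex : ∃ j, p ^ 2 ^ j = 1 := ⟨j, hj⟩
    have hpos : Nat.find hex ≠ 0 := fun e => hp1 (by
      have := Nat.find_spec hex
      rwa [e, pow_zero, pow_one] at this)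
    refine ⟨2 ^ (Nat.find hex - 1), ?_⟩
    have hz := h.rot_involution (pow_mem (hsq w hw) (2 ^ (Nat.find hex - 1))) (by
        rw [← pow_add, ← two_mul, ← pow_succ', Nat.sub_add_cancel (Nat.pos_of_ne_zero hpos)]
        exact Nat.find_spec hex)
      (Nat.find_min hex (by omega))
    rw [← he₀z, conj_pow] at hz
    exact mul_left_cancel (mul_right_cancel hz)
  -- `ω` fixes `e₀`
  refine hωfree e₀ he₀ he₀1 ?_
  have hw' : a * (ω * w * ω⁻¹) * a⁻¹ ∈ W₂ := haV _ ⟨w, hw, rfl⟩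
  have hωe : ω * e₀ * ω⁻¹ ∈ h.four := hωfour e₀ he₀
  have hae : a * (ω * e₀ * ω⁻¹) * a⁻¹ = ω * e₀ * ω⁻¹ := by
    obtain ⟨ha1, ha2, -⟩ := (hmemW a).1 ha
    rcases hωe with e | e | e | e <;> rw [e]
    · group
    · rw [ha1, mul_inv_cancel_right]
    · rw [ha2, mul_inv_cancel_right]
    · rw [← mul_assoc, ha1, mul_assoc z₀, ha2, ← mul_assoc, mul_inv_cancel_right]
  have hpow : (a * (ω * w * ω⁻¹) * a⁻¹ * (a * (ω * w * ω⁻¹) * a⁻¹)) ^ n = ω * e₀ * ω⁻¹ := by
    rw [conj_mul, conj_mul, conj_pow, conj_pow, hn, hae]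
  have h5 := pow_mem (hsq _ hw') n
  rw [conj_pow, hpow] at h5
  have h6 := h.rot_involution h5 (by rw [conj_mul, h.four_sq hωe]; group)
    (fun e => he₀1 (conj_eq_one_iff.1 (conj_eq_one_iff.1 e)))
  exact mul_left_cancel (mul_right_cancel (h6.trans he₀z.symm))

end Dih

end CfsgLib.Involution.TwoTimesPSL
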