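import Mathlib

/-!
# A sign character from a signed doubly transitive representation

If a point stabiliser `Y₀` of a doubly transitive group has a sign character, the space of signed
functions on the group carries an equivariant operator with an eigenspace of odd dimension, whose
determinant extends the sign.
-/

set_option autoImplicit false
set_option linter.style.haveILetI false

namespace CfsgLib.Involution.TwoTimesPSL

open Polynomial Module

/-- A real polynomial without roots has even degree. -/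
theorem even_natDegree_of_no_root : ∀ f : ℝ[X], f ≠ 0 → (∀ x, ¬ f.IsRoot x) → Even f.natDegree := by
  intro f
  induction hn : f.natDegree using Nat.strong_induction_on generalizing f with
  | _ n ih =>
    intro hf hr
    subst hn
    by_cases h0 : f.natDegree = 0
    · rw [h0]; exact Even.zero
    obtain ⟨g, hg, ⟨k, rfl⟩⟩ := WfDvdMonoid.exists_irreducible_factor
      (fun hu => h0 (natDegree_eq_zero_of_isUnit hu)) hf
    have hg0 : g ≠ 0 := hg.ne_zero
    have hk0 : k ≠ 0 := fun h => hf (by rw [h, mul_zero])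
    have hne1 : g.natDegree ≠ 1 := fun h1 => by
      obtain ⟨x, hx⟩ := exists_root_of_degree_eq_one (degree_eq_iff_natDegree_eq hg0 |>.2 h1)
      exact hr x (by rw [IsRoot, eval_mul, hx.eq_zero, zero_mul])
    have hg2 : g.natDegree = 2 := by
      have := hg.natDegree_le_two
      have := hg.natDegree_pos
      omega
    rw [natDegree_mul hg0 hk0, hg2]
    refine even_two.add (ih k.natDegree ?_ k rfl hk0 fun x hx => hr x ?_)
    · rw [natDegree_mul hg0 hk0, hg2]; omega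
    · rw [IsRoot, eval_mul, hx.eq_zero, mul_zero]

/-- An automorphism of odd order with a fixed line acts on a space of odd dimension. -/
theorem odd_finrank {V : Type*} [AddCommGroup V] [Module ℝ V] [FiniteDimensional ℝ V]
    (ψ : Module.End ℝ V) {n : ℕ} (hn : Odd n) (hψ : ψ ^ n = 1)
    (hfix : Module.finrank ℝ (LinearMap.ker (ψ - 1)) = 1) : Odd (Module.finrank ℝ V) := by
  have h := LinearMap.finrank_range_add_finrank_ker (ψ - 1)
  rw [hfix] at h
  rw [← h]
  refine Even.add_one ?_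
  set R := LinearMap.range (ψ - 1)
  have hmaps : ∀ u ∈ R, ψ u ∈ R := by
    rintro u ⟨w, rfl⟩
    exact ⟨ψ w, by simp⟩
  have hfixR : ∀ u ∈ R, ψ u = u → u = 0 := by
    rintro u ⟨w, rfl⟩ hu
    set u := (ψ - 1) w with hudef
    have hw : ψ w = w + u := by simp [hudef]
    have hk : ∀ k : ℕ, (ψ ^ k) w = w + (k : ℝ) • u := by
      intro k
      induction k with
      | zero => simp
      | succ k ih =>
        rw [pow_succ', Module.End.mul_apply, ih, map_add, map_smul, hu, hw, Nat.cast_succ, add_smul,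
          one_smul]
        abel
    have h2 := hk n
    rw [hψ, Module.End.one_apply, left_eq_add, smul_eq_zero, Nat.cast_eq_zero] at h2
    exact h2.resolve_left (fun e => by simp [e] at hn)
  set ψ' : Module.End ℝ R := ψ.restrict hmaps
  rw [← LinearMap.charpoly_natDegree ψ']
  refine even_natDegree_of_no_root _ (LinearMap.charpoly_monic ψ').ne_zero fun μ hμ => ?_
  rw [← Module.End.hasEigenvalue_iff_isRoot_charpoly] at hμ
  obtain ⟨v, hv⟩ := hμ.exists_hasEigenvector
  have hv1 : ψ (v : V) = μ • (v : V) := congrArg Subtype.val hv.apply_eq_smul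
  have hpow : ∀ k : ℕ, (ψ ^ k) (v : V) = μ ^ k • (v : V) := by
    intro k
    induction k with
    | zero => simp
    | succ k ih => rw [pow_succ', Module.End.mul_apply, ih, map_smul, hv1, smul_smul, pow_succ]
  have h3 := hpow n
  rw [hψ, Module.End.one_apply] at h3
  have hv0 : (v : V) ≠ 0 := fun e => hv.2 (Subtype.ext e)
  have hμn : μ ^ n = 1 := by
    have : (μ ^ n - 1) • (v : V) = 0 := by rw [sub_smul, one_smul, ← h3, sub_self]
    exact sub_eq_zero.1 ((smul_eq_zero.1 this).resolve_right hv0)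
  have hμ1 : μ = 1 := hn.strictMono_pow.injective (by rw [hμn, one_pow])
  exact hv0 (hfixR _ v.2 (by rw [hv1, hμ1, one_smul]))

variable {Y : Type*} [Group Y] [Finite Y]

/-- The main lemma. -/
theorem exists_sign_hom (Y₀ : Subgroup Y) (ε : Y₀ →* ℤˣ) (t y z : Y)
    (ht : ∀ g, ∃ h : g⁻¹ * t * g ∈ Y₀, ε ⟨_, h⟩ = -1)
    (hconj : ∀ (g : Y) (h : Y₀) (h' : g⁻¹ * h * g ∈ Y₀), ε ⟨_, h'⟩ = ε h)
    (hz : z ∈ Y₀) (hzε : ε ⟨z, hz⟩ = 1) {n : ℕ} (hn : Odd n) (hzn : z ^ n = 1)
    (hy : y ∉ Y₀) (hy2 : ∃ h : y * y ∈ Y₀, ε ⟨_, h⟩ = 1)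
    (htrans : ∀ g, g ∉ Y₀ → ∃ k : ℕ, ∃ h ∈ Y₀, g = z ^ k * y * h) :
    ∃ φ : Y →* ℤˣ, φ t = -1 := by
  classical
  haveI := Fintype.ofFinite Y
  let e : Y → ℝ := fun g => if h : g ∈ Y₀ then (((ε ⟨g, h⟩ : ℤˣ) : ℤ) : ℝ) else 0
  have he : ∀ {g} (h : g ∈ Y₀), e g = (((ε ⟨g, h⟩ : ℤˣ) : ℤ) : ℝ) := fun h => by simp [e, h]
  have he0 : ∀ {g}, g ∉ Y₀ → e g = 0 := fun h => by simp [e, h]
  have hemulr : ∀ (g : Y) {h}, h ∈ Y₀ → e (g * h) = e g * e h := by
    intro g h hh
    by_cases hg : g ∈ Y₀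
    · rw [he hg, he hh, he (mul_mem hg hh),
        show (⟨g * h, mul_mem hg hh⟩ : Y₀) = ⟨g, hg⟩ * ⟨h, hh⟩ from rfl, map_mul]
      push_cast; rfl
    · rw [he0 hg, he0 (fun h' => hg ((mul_mem_cancel_right hh).1 h')), zero_mul]
  have hemull : ∀ (g : Y) {h}, h ∈ Y₀ → e (h * g) = e h * e g := by
    intro g h hh
    by_cases hg : g ∈ Y₀
    · exact hemulr h hg
    · rw [he0 hg, he0 (fun h' => hg ((mul_mem_cancel_left hh).1 h')), mul_zero]
  have hesq : ∀ {h}, h ∈ Y₀ → e h * e h = 1 := by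
    intro h hh
    rw [he hh]
    rcases Int.units_eq_one_or (ε ⟨h, hh⟩) with e | e <;> simp [e]
  have he1 : e 1 = 1 := by
    rw [he (one_mem _), show (⟨1, one_mem _⟩ : Y₀) = 1 from rfl, map_one]; simp
  have heinv : ∀ {h}, h ∈ Y₀ → e h⁻¹ = e h := by
    intro h hh
    have h1 := hemulr h⁻¹ hh
    rw [inv_mul_cancel, he1] at h1
    calc e h⁻¹ = e h⁻¹ * (e h * e h) := by rw [hesq hh, mul_one]
      _ = e h := by rw [← mul_assoc, ← h1, one_mul]
  have hez : ∀ k : ℕ, e (z ^ k) = 1 := by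
    intro k
    rw [he (pow_mem hz k), show (⟨z ^ k, pow_mem hz k⟩ : Y₀) = ⟨z, hz⟩ ^ k from rfl, map_pow, hzε,
      one_pow]
    simp
  have heconj : ∀ (g h : Y), h ∈ Y₀ → g⁻¹ * h * g ∈ Y₀ → e (g⁻¹ * h * g) = e h := by
    intro g h hh h'
    rw [he hh, he h', hconj g ⟨h, hh⟩ h']
  have het : ∀ g, g⁻¹ * t * g ∈ Y₀ ∧ e (g⁻¹ * t * g) = -1 := fun g => by
    obtain ⟨h, h1⟩ := ht g
    exact ⟨h, by rw [he h, h1]; simp⟩
  obtain ⟨hyy, hyε⟩ := hy2
  have heyy : e (y * y) = 1 := by rw [he hyy, hyε]; simp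
  -- `z` can be inverted by positive powers
  have hzinv : ∀ k : ℕ, ∃ j : ℕ, (z ^ k)⁻¹ = z ^ j := fun k => by
    obtain ⟨m, hm⟩ : ∃ m, k ≤ n * m := ⟨k, by
      have := hn.pos
      calc k = 1 * k := (one_mul k).symm
        _ ≤ n * k := Nat.mul_le_mul_right k this⟩
    refine ⟨n * m - k, inv_eq_of_mul_eq_one_right ?_⟩
    rw [← pow_add, Nat.add_sub_cancel' hm, pow_mul, hzn, one_pow]
  -- the kernel off the point
  have hKex : ∀ w, ∃ r : ℝ, w ∉ Y₀ → ∀ (k : ℕ), ∀ h ∈ Y₀, w = z ^ k * y * h → r = e h := by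
    intro w
    by_cases hw : w ∈ Y₀
    · exact ⟨0, fun h => absurd hw h⟩
    obtain ⟨k₀, h₀, hh₀, e₀⟩ := htrans w hw
    refine ⟨e h₀, fun _ k h hh e₁ => ?_⟩
    obtain ⟨j, hj⟩ := hzinv k
    have hq : h * h₀⁻¹ = y⁻¹ * (z ^ j * z ^ k₀) * y := by
      rw [← hj]
      calc h * h₀⁻¹ = y⁻¹ * (z ^ k)⁻¹ * (z ^ k * y * h) * h₀⁻¹ := by group
        _ = y⁻¹ * (z ^ k)⁻¹ * (z ^ k₀ * y * h₀) * h₀⁻¹ := by rw [← e₁, ← e₀]
        _ = _ := by group
    have h2 : e (h * h₀⁻¹) = 1 := by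
      rw [hq, heconj y _ (mul_mem (pow_mem hz j) (pow_mem hz k₀))
        (hq ▸ mul_mem hh (inv_mem hh₀)), ← pow_add, hez]
    rw [hemulr h (inv_mem hh₀), heinv hh₀] at h2
    calc e h₀ = e h * e h * e h₀ := by rw [hesq hh, one_mul]
      _ = e h := by rw [mul_assoc, h2, mul_one]
  choose K0 hK0 using hKex
  let K : Y → ℝ := fun w => if w ∈ Y₀ then 0 else K0 w
  have hKin : ∀ {w}, w ∈ Y₀ → K w = 0 := fun h => by simp [K, h]
  have hKout : ∀ {k : ℕ} {h}, h ∈ Y₀ → K (z ^ k * y * h) = e h := by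
    intro k h hh
    have hnot : z ^ k * y * h ∉ Y₀ := fun h' =>
      hy ((mul_mem_cancel_left (pow_mem hz k)).1 ((mul_mem_cancel_right hh).1 h'))
    simp only [K, if_neg hnot]
    exact hK0 _ hnot k h hh rfl
  have hKy : K y = 1 := by
    have := hKout (k := 0) (one_mem Y₀)
    rwa [pow_zero, one_mul, mul_one, he1] at this
  have hKr : ∀ (w : Y) {h}, h ∈ Y₀ → K (w * h) = K w * e h := by
    intro w h hh
    by_cases hw : w ∈ Y₀
    · rw [hKin hw, hKin (mul_mem hw hh), zero_mul]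
    · obtain ⟨k, h₁, hh₁, rfl⟩ := htrans w hw
      rw [mul_assoc (z ^ k * y), hKout (mul_mem hh₁ hh), hKout hh₁, hemulr h₁ hh]
  have hKl : ∀ (w : Y) {h}, h ∈ Y₀ → K (h * w) = e h * K w := by
    intro w h hh
    by_cases hw : w ∈ Y₀
    · rw [hKin hw, hKin (mul_mem hh hw), mul_zero]
    · obtain ⟨k, h₁, hh₁, rfl⟩ := htrans w hw
      have hnot : h * z ^ k * y ∉ Y₀ := fun h' =>
        hy ((mul_mem_cancel_left (mul_mem hh (pow_mem hz k))).1 h')
      obtain ⟨i, h₂, hh₂, e₂⟩ := htrans _ hnot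
      obtain ⟨j, hj⟩ := hzinv i
      have hq : y⁻¹ * (z ^ j * (h * z ^ k)) * y = h₂ := by
        calc y⁻¹ * (z ^ j * (h * z ^ k)) * y = y⁻¹ * z ^ j * (h * z ^ k * y) := by group
          _ = y⁻¹ * (z ^ i)⁻¹ * (z ^ i * y * h₂) := by rw [e₂, hj]
          _ = h₂ := by group
      have h3 : e h₂ = e h := by
        rw [← hq, heconj y _ (mul_mem (pow_mem hz j) (mul_mem hh (pow_mem hz k))) (hq ▸ hh₂),
          hemull _ (pow_mem hz j), hemulr h (pow_mem hz k), hez, hez, one_mul, mul_one]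
      rw [show h * (z ^ k * y * h₁) = h * z ^ k * y * h₁ by group, e₂, mul_assoc (z ^ i * y),
        hKout (mul_mem hh₂ hh₁), hKout hh₁, hemulr h₂ hh₁, h3]
  have hKinv : ∀ w, K w⁻¹ = K w := by
    intro w
    by_cases hw : w ∈ Y₀
    · rw [hKin hw, hKin (inv_mem hw)]
    · obtain ⟨k, h₁, hh₁, rfl⟩ := htrans w hw
      obtain ⟨j, hj⟩ := hzinv k
      rw [show (z ^ k * y * h₁)⁻¹ = h₁⁻¹ * (z ^ 0 * y * ((y * y)⁻¹ * (z ^ k)⁻¹)) by group,
        hKl _ (inv_mem hh₁), hKout (mul_mem (inv_mem hyy) (hj ▸ pow_mem hz j)), hj,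
        hemulr _ (pow_mem hz j), heinv hyy, heinv hh₁, heyy, hez, hKout hh₁, one_mul, mul_one]
  -- the two basic functions and the operator
  let S : (Y → ℝ) → Y → ℝ := fun Φ x => ∑ w, K w * Φ (x * w)
  let Sig : (Y → ℝ) → Prop := fun Φ => ∀ x, ∀ h ∈ Y₀, Φ (x * h) = Φ x * e h
  have hSsig : ∀ Φ, Sig Φ → Sig (S Φ) := by
    intro Φ hΦ x h hh
    simp only [S]
    rw [Finset.sum_mul, ← Equiv.sum_comp (Equiv.mulLeft h⁻¹) (fun w => K w * Φ (x * h * w))]
    refine Finset.sum_congr rfl fun w _ => ?_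
    simp only [Equiv.coe_mulLeft]
    rw [hKl _ (inv_mem hh), heinv hh, mul_assoc x h, mul_inv_cancel_left]
    ring
  have hSe : ∀ x, S e x = (Nat.card Y₀ : ℝ) * K x := by
    intro x
    simp only [S]
    rw [← Equiv.sum_comp (Equiv.mulLeft x⁻¹) (fun w => K w * e (x * w))]
    rw [Finset.sum_congr rfl (g := fun u => if u ∈ Y₀ then K x else 0) (fun u _ => ?_),
      ← Finset.sum_filter, Finset.sum_const, nsmul_eq_mul]
    · rw [Nat.card_eq_fintype_card, Fintype.card_subtype]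
    · simp only [Equiv.coe_mulLeft, mul_inv_cancel_left]
      split
      · next hu => rw [hKr _ hu, hKinv, mul_assoc, hesq hu, mul_one]
      · next hu => rw [he0 hu, mul_zero]
  have hexpand : ∀ Φ, Sig Φ → (∀ x, Φ (z * x) = Φ x) →
      ∀ x, Φ x = Φ 1 * e x + Φ y * K x := by
    intro Φ hΦ hzΦ x
    have hzk : ∀ (k : ℕ) x, Φ (z ^ k * x) = Φ x := by
      intro k
      induction k with
      | zero => simp
      | succ k ih => intro x; rw [pow_succ', mul_assoc, hzΦ, ih]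
    by_cases hx : x ∈ Y₀
    · rw [hKin hx, mul_zero, add_zero]
      simpa using hΦ 1 x hx
    · obtain ⟨k, h, hh, rfl⟩ := htrans x hx
      rw [he0 hx, mul_zero, zero_add, hKout hh, mul_assoc, hzk, hΦ y h hh]
  have hezmul : ∀ x, e (z * x) = e x := fun x => by
    rw [hemull x hz, ← pow_one z, hez, one_mul]
  have hKzmul : ∀ x, K (z * x) = K x := fun x => by
    rw [hKl x hz, ← pow_one z, hez, one_mul]
  have hSKz : ∀ x, S K (z * x) = S K x := fun x => by
    simp only [S, mul_assoc, hKzmul]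
  set a : ℝ := (Nat.card Y₀ : ℝ)
  set b : ℝ := S K 1
  set d : ℝ := S K y
  have hSK : ∀ x, S K x = b * e x + d * K x :=
    hexpand _ (hSsig K fun x h hh => hKr x hh) hSKz
  have hb : 0 < b := by
    simp only [b, S, one_mul]
    refine Finset.sum_pos' (fun w _ => mul_self_nonneg _) ⟨y, Finset.mem_univ _, ?_⟩
    rw [hKy, one_mul]; exact one_pos
  have ha : 0 < a := by simp only [a]; exact_mod_cast Nat.card_pos
  set l : ℝ := (d + Real.sqrt (d * d + 4 * a * b)) / 2 with hldef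
  have hl : l * l = d * l + a * b := by
    have h0 : 0 ≤ d * d + 4 * a * b := by nlinarith [mul_self_nonneg d, mul_pos ha hb]
    have := Real.mul_self_sqrt h0
    rw [hldef]; nlinarith
  have hl0 : l ≠ 0 := fun h => by
    rw [h, mul_zero, mul_zero, zero_add] at hl
    exact (mul_pos ha hb).ne hl
  -- the eigenspace
  let W : Submodule ℝ (Y → ℝ) :=
    { carrier := {Φ | Sig Φ ∧ ∀ x, S Φ x = l * Φ x}
      zero_mem' := ⟨fun x h _ => by simp, fun x => by simp [S]⟩
      add_mem' := fun {Φ Ψ} hΦ hΨ => ⟨fun x h hh => by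
          simp only [Pi.add_apply]; rw [hΦ.1 x h hh, hΨ.1 x h hh]; ring,
        fun x => by
          simp only [S, Pi.add_apply, mul_add, Finset.sum_add_distrib]
          exact congrArg₂ _ (hΦ.2 x) (hΨ.2 x)⟩
      smul_mem' := fun c {Φ} hΦ => ⟨fun x h hh => by
          simp only [Pi.smul_apply, smul_eq_mul]; rw [hΦ.1 x h hh]; ring,
        fun x => by
          simp only [S, Pi.smul_apply, smul_eq_mul]
          rw [mul_left_comm l, ← hΦ.2 x, Finset.mul_sum]
          exact Finset.sum_congr rfl fun w _ => by ring⟩ }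
  let ρ : Y →* Module.End ℝ W :=
    { toFun := fun g =>
        { toFun := fun Φ => ⟨fun x => Φ.1 (g⁻¹ * x),
            fun x h hh => by simp only; rw [← mul_assoc]; exact Φ.2.1 _ h hh,
            fun x => by simp only [S, ← mul_assoc]; exact Φ.2.2 (g⁻¹ * x)⟩
          map_add' := fun _ _ => rfl
          map_smul' := fun _ _ => rfl }
      map_one' := LinearMap.ext fun Φ => Subtype.ext (funext fun x => by simp)
      map_mul' := fun g h => LinearMap.ext fun Φ => Subtype.ext (funext fun x => by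
        show Φ.1 ((g * h)⁻¹ * x) = Φ.1 (h⁻¹ * (g⁻¹ * x))
        rw [mul_inv_rev, mul_assoc]) }
  have hρt : ρ t = (-1 : ℝ) • 1 := by
    refine LinearMap.ext fun Φ => Subtype.ext (funext fun x => ?_)
    show Φ.1 (t⁻¹ * x) = (-1 : ℝ) * Φ.1 x
    obtain ⟨h1, h2⟩ := het x
    rw [show t⁻¹ * x = x * (x⁻¹ * t * x)⁻¹ by group, Φ.2.1 x _ (inv_mem h1), heinv h1, h2]
    ring
  -- the fixed line of `z`
  set Φ0f : Y → ℝ := fun x => b * e x + l * K x
  have hΦ0 : Φ0f ∈ W := by
    refine ⟨fun x h hh => ?_, fun x => ?_⟩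
    · simp only [Φ0f]; rw [hemulr x hh, hKr x hh]; ring
    · have h1 : S Φ0f x = b * S e x + l * S K x := by
        simp only [S, Φ0f, Finset.mul_sum, ← Finset.sum_add_distrib]
        exact Finset.sum_congr rfl fun w _ => by ring
      rw [h1, hSe, hSK]
      simp only [Φ0f]
      linear_combination (-K x) * hl
  have hfix : finrank ℝ (LinearMap.ker (ρ z - 1)) = 1 := by
    have hmem : (⟨Φ0f, hΦ0⟩ : W) ∈ LinearMap.ker (ρ z - 1) := by
      rw [LinearMap.mem_ker, LinearMap.sub_apply, sub_eq_zero]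
      refine Subtype.ext (funext fun x => ?_)
      show Φ0f (z⁻¹ * x) = Φ0f x
      simp only [Φ0f]
      have h1 := hezmul (z⁻¹ * x); have h2 := hKzmul (z⁻¹ * x)
      rw [mul_inv_cancel_left] at h1 h2
      rw [← h1, ← h2]
    refine finrank_eq_one (⟨⟨Φ0f, hΦ0⟩, hmem⟩ : LinearMap.ker (ρ z - 1)) ?_ ?_
    · intro h
      have h1 := congrFun (congrArg (fun q : LinearMap.ker (ρ z - 1) => q.1.1) h) 1
      simp only [Φ0f, he1, hKin (one_mem _), mul_one, mul_zero, add_zero] at h1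
      exact hb.ne' h1
    · rintro ⟨⟨Φ, hΦ⟩, hker⟩
      rw [LinearMap.mem_ker, LinearMap.sub_apply, sub_eq_zero] at hker
      have hfun : ∀ x, Φ (z⁻¹ * x) = Φ x := fun x => congrFun (congrArg Subtype.val hker) x
      have hzΦ : ∀ x, Φ (z * x) = Φ x := fun x => by
        conv_rhs => rw [← inv_mul_cancel_left z x, hfun]
      have hex := hexpand Φ hΦ.1 hzΦ
      have h1 : Φ y * b = l * Φ 1 := by
        have h2 := hΦ.2 1
        rw [← h2]
        have h3 : S Φ 1 = Φ 1 * S e 1 + Φ y * S K 1 := by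
          simp only [S, Finset.mul_sum, ← Finset.sum_add_distrib]
          exact Finset.sum_congr rfl fun w _ => by rw [hex (1 * w)]; ring
        rw [h3, hSe, hKin (one_mem _)]; ring
      refine ⟨Φ y / l, Subtype.ext (Subtype.ext (funext fun x => ?_))⟩
      show Φ y / l * (b * e x + l * K x) = Φ x
      rw [hex x]
      field_simp
      linear_combination e x * h1
  have hodd : Odd (finrank ℝ W) := by
    refine odd_finrank (ρ z) hn ?_ hfix
    rw [← map_pow, hzn, map_one]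
  -- the determinant
  let δ : Y →* ℝ := LinearMap.det.comp ρ
  have hδt : δ t = -1 := by
    show LinearMap.det (ρ t) = -1
    rw [hρt, LinearMap.det_smul, map_one, mul_one, hodd.neg_one_pow]
  have hδ0 : ∀ g, δ g ≠ 0 := fun g h => by
    have := map_mul δ g g⁻¹
    rw [h, zero_mul, mul_inv_cancel, map_one] at this
    exact one_ne_zero this
  refine ⟨{ toFun := fun g => if δ g < 0 then -1 else 1, map_one' := by simp,
            map_mul' := fun g h => ?_ }, by simp [hδt]⟩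
  rw [map_mul]
  rcases (hδ0 g).lt_or_gt with hg | hg <;> rcases (hδ0 h).lt_or_gt with hh | hh
  · rw [if_pos hg, if_pos hh, if_neg (not_lt.2 (mul_pos_of_neg_of_neg hg hh).le)]; rfl
  · rw [if_pos hg, if_neg (not_lt.2 hh.le), if_pos (mul_neg_of_neg_of_pos hg hh), mul_one]
  · rw [if_neg (not_lt.2 hg.le), if_pos hh, if_pos (mul_neg_of_pos_of_neg hg hh), one_mul]
  · rw [if_neg (not_lt.2 hg.le), if_neg (not_lt.2 hh.le), if_neg (not_lt.2 (mul_pos hg hh).le),
      one_mul]

end CfsgLib.Involution.TwoTimesPSL
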