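import Cfsg.Agent.Lib.Involution.TwoTimesPSL.FrameTrivial
import Cfsg.Agent.Lib.Involution.TwoTimesPSL.SignedRep

/-!
# The elementary case
-/

set_option autoImplicit false
set_option linter.style.haveILetI false
set_option linter.unusedSectionVars false

namespace CfsgLib.Involution.TwoTimesPSL

open Subgroup

variable {G : Type*} [Group G] [Finite G] [IsSimpleGroup G]

namespace Frame

variable {t z : G} {T D K U : Subgroup G} {i : ℕ} (h : Frame t T D K z U i)
include h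

theorem false_of_max (hmax : ∀ U', Good t D U' → Nat.card U' ≤ Nat.card U) : False := by
  classical
  haveI : Fact (Nat.Prime 2) := ⟨Nat.prime_two⟩
  set N := normalizer (ext' t U : Set G) with hNdef
  have hext : ∀ c ∈ N, IsConj t c → t * c ∈ U := fun c hcN hc =>
    (h.mem_ext.1 (h.conj_mem_ext hmax hcN hc)).resolve_left fun hcU => h.not_conj_U hcU hc
  -- the index of `N` is odd
  obtain ⟨P, hP, hRP⟩ := IsSyl.exists_ge (W := N) h.ext_two le_normalizer
  have hnorm : normalizer (P : Set G) ≤ N := by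
    intro g hg
    have key : ∀ x, IsConj t x → x ∈ ext' t U → g * x * g⁻¹ ∈ ext' t U := by
      intro x hx hxR
      have h1 : g * x * g⁻¹ ∈ P := (mem_normalizer_iff.1 hg x).1 (hRP hxR)
      exact h.conj_mem_ext hmax (hP.le h1) (hx.trans (isConj_iff.2 ⟨g, rfl⟩))
    refine mem_normalizer_of_conj fun x hx => ?_
    have htu : ∀ u ∈ U, g * (t * u) * g⁻¹ ∈ ext' t U := fun u hu => by
      obtain ⟨n, hn, e⟩ := h.exists_conj hu
      refine key _ (isConj_iff.2 ⟨n, e⟩) (h.mem_ext.2 (Or.inr ?_))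
      rw [← mul_assoc, h.tsq, one_mul]; exact hu
    rcases h.mem_ext.1 hx with h1 | h1
    · have h2 := mul_mem (key t (IsConj.refl t) h.t_mem_ext) (htu x h1)
      rwa [conj_mul, ← mul_assoc t t x, h.tsq, one_mul] at h2
    · have h2 := htu _ h1
      rwa [← mul_assoc t t x, h.tsq, one_mul] at h2
  have hPi : ¬ 2 ∣ P.index := odd_index_of_normalizer hP.two
    (fun hd => hP.odd (hd.trans ⟨(normalizer (P : Set G)).relIndex N,
      (relIndex_mul_relIndex _ _ _ le_normalizer hnorm).symm⟩))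
  have hNi : Odd N.index := Nat.odd_iff.2 (Nat.two_dvd_ne_zero.1 fun hd =>
    hPi (hd.trans ⟨P.relIndex N, by rw [← relIndex_mul_index hP.le, mul_comm]⟩))
  -- the sign of the stabiliser
  obtain ⟨m, hm, hcardS⟩ := h.card_stab
  set Y₀ := h.stab
  have hUY : U ≤ Y₀ := h.U_le_ext.trans h.ext_le_stab
  haveI : (U.subgroupOf Y₀).Normal :=
    ⟨fun x hx g => mem_subgroupOf.2 (h.conj_U g.2.1 hx)⟩
  have hQc : Nat.card (Y₀ ⧸ U.subgroupOf Y₀) = 2 * m := by
    refine Nat.eq_of_mul_eq_mul_right (Nat.card_pos (α := U)) ?_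
    conv_lhs => rw [← Nat.card_congr (subgroupOfEquivOfLe hUY).toEquiv, ← card_eq_card_quotient_mul_card_subgroup]
    rw [hcardS]; ring
  obtain ⟨ε₀, hε₀⟩ := exists_parity _ hm hQc
  set ε : Y₀ →* ℤˣ := ε₀.comp (QuotientGroup.mk' (U.subgroupOf Y₀)) with hεdef
  have hεU : ∀ x : Y₀, (x : G) ∈ U → ε x = 1 := fun x hx => by
    rw [hεdef, MonoidHom.comp_apply, QuotientGroup.mk'_apply,
      (QuotientGroup.eq_one_iff x).2 (mem_subgroupOf.2 hx), map_one]
  have htY : t ∈ Y₀ := h.ext_le_stab h.t_mem_ext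
  have hεt : ε ⟨t, htY⟩ = -1 := by
    refine hε₀ _ ?_ ?_
    · rw [← map_mul, show (⟨t, htY⟩ : Y₀) * ⟨t, htY⟩ = 1 from Subtype.ext h.tsq, map_one]
    · rw [QuotientGroup.mk'_apply, ne_eq, QuotientGroup.eq_one_iff, mem_subgroupOf]
      exact h.good.tnot
  have hεtu : ∀ x : Y₀, t * (x : G) ∈ U → ε x = -1 := fun x hx => by
    have h1 := hεU (⟨t, htY⟩ * x) hx
    rw [map_mul, hεt] at h1
    rcases Int.units_eq_one_or (ε x) with e | e
    · rw [e] at h1; exact absurd h1 (by decide)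
    · exact e
  have hεm : ∀ x : Y₀, ε x = 1 → ((x : G) ^ m) ∈ U := by
    intro x hx
    set q := QuotientGroup.mk' (U.subgroupOf Y₀) x
    have hker : Nat.card ε₀.ker = m := by
      have h1 := ε₀.ker.card_mul_index
      rw [index_ker, hQc] at h1
      have h2 : Nat.card ε₀.range = 2 := by
        refine le_antisymm ((Nat.card_le_card_of_injective _ Subtype.val_injective).trans ?_) ?_
        · simp [Nat.card_eq_fintype_card]
        · rw [Nat.succ_le_iff, one_lt_card_iff_ne_bot]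
          intro hb
          have h3 : ε ⟨t, htY⟩ ∈ ε₀.range := ⟨_, rfl⟩
          rw [hb, mem_bot, hεt] at h3
          exact absurd h3 (by decide)
      rw [h2, mul_comm] at h1
      omega
    have h1 : q ^ m = 1 := by
      have h2 : (⟨q, hx⟩ : ε₀.ker) ^ m = 1 := hker ▸ pow_card_eq_one'
      exact congrArg Subtype.val h2
    rw [← map_pow, QuotientGroup.mk'_apply, QuotientGroup.eq_one_iff, mem_subgroupOf] at h1
    exact h1
  have hεpow : ∀ x : Y₀, ∀ n : ℕ, Odd n → (x : G) ^ n ∈ U → ε x = 1 := by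
    intro x n hn hxn
    have h1 := hεU (x ^ n) hxn
    rw [map_pow] at h1
    rcases Int.units_eq_one_or (ε x) with e | e
    · exact e
    · rw [e, hn.neg_one_pow] at h1; exact absurd h1 (by decide)
  -- the double transitivity
  obtain ⟨w, hwC, hwodd, hwU, -, hwtr⟩ := h.good.lifts
  have hwN := h.lifts_N hwC hwU
  have hwY : w ∈ Y₀ := ⟨hwN, h.tr_cen hwC⟩
  obtain ⟨n, hn, hn1⟩ := h.exists_moves
  have hex : ∃ x ∈ P, x ∉ ext' t U := by
    by_contra hne
    push Not at hne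
    obtain ⟨m', hm', hNc⟩ := h.card_N
    obtain ⟨f₀, hf₀⟩ := IsPGroup.iff_card.1 (h.T_two.to_le h.ctx.D_le_T)
    obtain ⟨u₀, hu₀⟩ := IsPGroup.iff_card.1 h.good.two
    have h1 := card_le_of_le (show P ≤ ext' t U from hne)
    rw [hP.card_eq (a := 1 + f₀ + u₀) hm' (by rw [hNc, hf₀, hu₀]; ring), h.card_ext, pow_add,
      ← hu₀, pow_add, pow_one, ← hf₀] at h1
    have := h.dcard
    have := Nat.card_pos (α := U)
    nlinarith
  obtain ⟨x₀, hx₀P, hx₀R⟩ := hex
  obtain ⟨j₀, hj₀⟩ := hP.two ⟨x₀, hx₀P⟩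
  have hj₀' : x₀ ^ 2 ^ j₀ = 1 := congrArg Subtype.val hj₀
  have hfind : ∃ k, x₀ ^ 2 ^ k ∈ ext' t U := ⟨j₀, by rw [hj₀']; exact one_mem _⟩
  set k₀ := Nat.find hfind with hk₀
  have hk₀pos : k₀ ≠ 0 := fun e => hx₀R (by
    have := Nat.find_spec hfind
    rwa [← hk₀, e, pow_zero, pow_one] at this)
  set y := x₀ ^ 2 ^ (k₀ - 1) with hy
  have hyP : y ∈ P := pow_mem hx₀P _
  have hyN : y ∈ N := hP.le hyP
  have hyR : y ∉ ext' t U := Nat.find_min hfind (by omega)
  have hyy : y * y ∈ ext' t U := by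
    rw [hy, ← pow_add, ← two_mul, ← pow_succ', Nat.sub_add_cancel (Nat.pos_of_ne_zero hk₀pos)]
    exact Nat.find_spec hfind
  obtain ⟨jy, hjy⟩ := hP.two ⟨y, hyP⟩
  have hjy' : y ^ 2 ^ jy = 1 := congrArg Subtype.val hjy
  have hy1 : tr t i y ≠ 1 := fun e => hyR (h.stab_two (k := jy) ⟨hyN, e⟩ hjy')
  have hyyU : y * y ∈ U := by
    refine (h.mem_ext.1 hyy).resolve_right fun hu => ?_
    apply hyR
    refine h.fix_mem (d := (t * (y * y)) ^ 2 ^ i) hyN hjy' (h.pow_mem_D hu) ?_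
    set u := t * (y * y) with hu'
    have h5 : u = t * (y * t * y⁻¹) * (y * u * y⁻¹) := by
      calc u = t * (y * (t * u) * y⁻¹) := by
            rw [hu', ← mul_assoc t t (y * y), h.tsq, one_mul]; group
        _ = _ := by group
    conv_rhs => rw [h5, h.pow_mul_pow (h.conj_t hyN) (h.conj_U hyN hu), conj_pow]
    rfl
  -- the sign character of `N`
  set Y₁ := Y₀.subgroupOf N with hY₁
  let e₁ : Y₁ →* Y₀ := MonoidHom.mk' (fun x => ⟨((x : N) : G), mem_subgroupOf.1 x.2⟩) fun a b => rfl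
  obtain ⟨φ, hφ⟩ := exists_sign_hom Y₁ (ε.comp e₁) ⟨t, h.T_le_N h.tT⟩ ⟨y, hyN⟩ ⟨w, hwN⟩
    (fun g => by
      have hu := h.conj_t (inv_mem g.2)
      rw [inv_inv] at hu
      have hmem : ((g : G)⁻¹ * t * (g : G)) ∈ Y₀ :=
        h.ext_le_stab (h.mem_ext.2 (Or.inr hu))
      exact ⟨mem_subgroupOf.2 hmem, hεtu ⟨_, hmem⟩ hu⟩)
    (fun g x hx' => by
      set a : Y₀ := e₁ x
      set b : Y₀ := e₁ ⟨_, hx'⟩
      show ε b = ε a
      have hb : (b : G) = (g : G)⁻¹ * (a : G) * (g : G) := rfl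
      rcases Int.units_eq_one_or (ε a) with e | e
      · rw [e]
        refine hεpow b m hm ?_
        rw [hb, show (g : G)⁻¹ * (a : G) * (g : G) = (g : G)⁻¹ * (a : G) * (g : G)⁻¹⁻¹ by rw [inv_inv],
          conj_pow]
        exact h.conj_U (inv_mem g.2) (hεm a e)
      · rw [e]
        rcases Int.units_eq_one_or (ε b) with e' | e'
        · exfalso
          have h1 := h.conj_U g.2 (hεm b e')
          rw [← conj_pow, hb, show (g : G) * ((g : G)⁻¹ * (a : G) * (g : G)) * (g : G)⁻¹ = a by group] at h1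
          rw [hεpow a m hm h1] at e
          exact absurd e (by decide)
        · exact e')
    (mem_subgroupOf.2 hwY)
    (hεpow ⟨w, hwY⟩ _ hwodd (by
      show w ^ orderOf w ∈ U
      rw [pow_orderOf_eq_one]; exact one_mem _))
    hwodd (Subtype.ext (pow_orderOf_eq_one w))
    (fun hy' => hy1 (mem_subgroupOf.1 hy').2)
    ⟨mem_subgroupOf.2 (hUY hyyU), hεU ⟨y * y, hUY hyyU⟩ hyyU⟩
    (fun g hg => by
      have hg1 : tr t i g ≠ 1 := fun e => hg (mem_subgroupOf.2 ⟨g.2, e⟩)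
      obtain ⟨k, hk⟩ := hwtr _ (h.tr_mem hyN) _ (h.tr_mem g.2) hy1 hg1
      have hwk := pow_mem hwN k
      set a : N := ⟨w, hwN⟩ ^ k * ⟨y, hyN⟩ with ha
      refine ⟨k, a⁻¹ * g, ?_, (mul_inv_cancel_left a g).symm⟩
      rw [hY₁, mem_subgroupOf]
      refine ⟨(a⁻¹ * g).2, ?_⟩
      have hag : tr t i (a : G) = tr t i (g : G) := by
        rw [ha, Subgroup.coe_mul, SubgroupClass.coe_pow, h.tr_mul hwk hyN, h.tr_cen (pow_mem hwC k),
          one_mul, hk]
      have h1 := h.tr_mul (inv_mem a.2) a.2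
      rw [inv_mul_cancel, h.tr_cen (one_mem _), hag, ← h.tr_mul (inv_mem a.2) g.2] at h1
      exact h1.symm)
  refine absurd_odd_index h.simple h.ctx.torder hNi φ (a := -1) (by decide) (by decide) fun x hx hc => ?_
  obtain ⟨k, hk, e⟩ := h.exists_conj (hext x hx hc)
  rw [← mul_assoc, h.tsq, one_mul] at e
  rw [show (⟨x, hx⟩ : N) = ⟨k, hk⟩ * ⟨t, h.T_le_N h.tT⟩ * (⟨k, hk⟩)⁻¹ from Subtype.ext e.symm,
    map_mul, map_mul, map_inv, hφ, mul_comm (φ ⟨k, hk⟩), mul_inv_cancel_right]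

end Frame

namespace Elem

variable {t z : G} {T D K : Subgroup G} (h : Elem t T D K z)
include h

theorem result (hG : ¬ IsMulCommutative G) (S : Sylow 2 G) :
    Nat.card (S : Subgroup G) = 8 ∧ ∀ x ∈ (S : Subgroup G), x ^ 2 = 1 := by
  classical
  by_cases hfuse : ∃ g ∈ normalizer (T : Set G), g * t * g⁻¹ ∈ D
  · exact h.big hG hfuse S
  exfalso
  push Not at hfuse
  have hD : Good t D D :=
    { two := h.T_two.to_le h.ctx.D_le_T
      le := le_rfl
      comm := fun x hx y hy => h.commT (h.ctx.D_le_T hx) (h.ctx.D_le_T hy)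
      tnot := h.ctx.t_notD
      inv := fun u hu => by
        rw [← h.ctx.comm (h.ctx.D_le_T hu), mul_assoc, h.tsq, mul_one,
          inv_eq_of_mul_eq_one_right (h.dsq u hu)]
      lifts := ⟨z, h.zC, h.zodd, h.zD, h.zD, h.ztr⟩ }
  haveI : Nonempty {U : Subgroup G // Good t D U} := ⟨⟨D, hD⟩⟩
  obtain ⟨⟨U, hU⟩, hmax⟩ := Finite.exists_max fun U : {U : Subgroup G // Good t D U} => Nat.card U.1
  obtain ⟨a, ha⟩ := IsPGroup.iff_card.1 hU.two
  have hexp : ∃ j, ∀ u ∈ U, u ^ 2 ^ j = 1 := ⟨a, fun u hu => by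
    have : (⟨u, hu⟩ : U) ^ 2 ^ a = 1 := ha ▸ pow_card_eq_one'
    exact congrArg Subtype.val this⟩
  set j := Nat.find hexp with hj
  have hj0 : j ≠ 0 := fun e => by
    obtain ⟨d, hd, hd1⟩ := exists_ne_one_of_card (H := D) (by have := h.dcard; omega)
    have := Nat.find_spec hexp d (hU.le hd)
    rw [← hj, e, pow_zero, pow_one] at this
    exact hd1 this
  have hF : Frame t T D K z U (j - 1) :=
    { toElem := h
      good := hU
      expo := fun u hu => by
        rw [Nat.sub_add_cancel (Nat.pos_of_ne_zero hj0)]; exact Nat.find_spec hexp u hu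
      top := by
        by_contra hne
        push Not at hne
        exact Nat.find_min hexp (show j - 1 < j by omega) hne
      nofuse := hfuse
      simple := hG }
  exact hF.false_of_max fun U' hU' => hmax ⟨U', hU'⟩

end Elem

end CfsgLib.Involution.TwoTimesPSL
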