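import Cfsg.Agent.Lib.LocalEvenB.OddTransitive.Semilinear
import Cfsg.Agent.S0205

/-!
# Odd order groups transitive on an elementary abelian group

Such a group is semilinear, so a point stabiliser is too small to contain a cyclic group of order
`q - 1`, where `2q` is the order of the module.
-/

set_option autoImplicit false
set_option linter.style.haveILetI false

namespace CfsgLib.Involution.TwoTimesPSL

theorem no_odd_transitive {E : Type*} [CommGroup E] [Finite E] (h2 : ∀ x : E, x * x = 1) {f : ℕ}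
    (hcard : Nat.card E = 2 ^ (f + 1)) (hf : 3 ≤ f) (A : Subgroup (MulAut E))
    (hA : Odd (Nat.card A)) (htr : ∀ x y : E, x ≠ 1 → y ≠ 1 → ∃ a ∈ A, a x = y)
    (a : MulAut E) (ha : a ∈ A) {t : E} (ht : t ≠ 1) (hat : a t = t)
    (horb : 2 ^ f - 1 ≤ orderOf a) : False := by
  classical
  letI : DistribMulAction A (Additive E) :=
    { smul := fun b x => Additive.ofMul ((b : MulAut E) x.toMul)
      one_smul := fun x => rfl
      mul_smul := fun b c x => rfl
      smul_zero := fun b => map_one (b : MulAut E)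
      smul_add := fun b x y => map_mul (b : MulAut E) x.toMul y.toMul }
  have hsmul : ∀ (b : A) (x : E), b • Additive.ofMul x = Additive.ofMul ((b : MulAut E) x) :=
    fun b x => rfl
  haveI : FaithfulSMul A (Additive E) :=
    ⟨fun h => Subtype.ext (MulEquiv.ext fun x => Additive.ofMul.injective (h (Additive.ofMul x)))⟩
  haveI : Finite (Additive E) := ‹Finite E›
  have hq : ∀ e : Additive E, 2 • e = 0 := fun e => by
    rw [two_nsmul]; exact h2 e.toMul
  have hpm : LocalEvenB.OddTransitive.PMTransitive A (Additive E) :=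
    .of_transitive fun x y hx hy => by
      obtain ⟨b, hb, e⟩ := htr x.toMul y.toMul hx hy
      exact ⟨⟨b, hb⟩, e⟩
  have ht' : Additive.ofMul t ≠ 0 := ht
  obtain ⟨-, R, hR, ψ, hψ, hsemi⟩ := LocalEvenB.OddTransitive.exists_semilinear hA
    (Cfsg.Agent.S0205.result hA) Nat.prime_two hq hpm ht'
  letI : Field R := hR.toField
  obtain ⟨u, σ, hσ⟩ := hsemi ⟨a, ha⟩
  have hu : (u : R) = 1 := by
    have := hσ (Additive.ofMul t)
    rw [hsmul, Subtype.coe_mk, hat, hψ, map_one, mul_one] at this
    exact this.symm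
  have hσk : ∀ (k : ℕ) (x : E), ψ (Additive.ofMul ((a ^ k) x)) = (σ ^ k) (ψ (Additive.ofMul x)) := by
    intro k
    induction k with
    | zero => intro x; rfl
    | succ k ih =>
      intro x
      rw [pow_succ' a, MulAut.mul_apply, pow_succ' σ]
      have := hσ (Additive.ofMul ((a ^ k) x))
      rw [hsmul, Subtype.coe_mk, hu, one_mul, ih] at this
      rw [this]; rfl
  haveI : Finite R := Finite.of_equiv _ ψ.toEquiv
  haveI : CharP R 2 := by
    refine (CharP.charP_iff_prime_eq_zero Nat.prime_two).mpr ?_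
    obtain ⟨x, hx⟩ := ψ.surjective (1 : R)
    rw [Nat.cast_ofNat, show (2 : R) = 2 • (1 : R) by rw [nsmul_eq_mul, mul_one, Nat.cast_ofNat],
      ← hx, ← map_nsmul, hq, map_zero]
  letI : Algebra (ZMod 2) R := ZMod.algebra R 2
  let σ' : R ≃ₐ[ZMod 2] R := AlgEquiv.ofRingEquiv (f := σ) fun c => by
    rw [← ZMod.natCast_zmod_val c, map_natCast, map_natCast]
  have hle : orderOf a ≤ orderOf σ' := by
    refine Nat.le_of_dvd (orderOf_pos σ') (orderOf_dvd_of_pow_eq_one (MulEquiv.ext fun x => ?_))
    have key : ∀ k : ℕ, ∀ r, (σ' ^ k) r = (σ ^ k) r := by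
      intro k
      induction k with
      | zero => intro r; rfl
      | succ k ih => intro r; rw [pow_succ', pow_succ', AlgEquiv.mul_apply, ih]; rfl
    refine Additive.ofMul.injective (ψ.injective ?_)
    rw [hσk, ← key, pow_orderOf_eq_one]; rfl
  have hfin : Nat.card (R ≃ₐ[ZMod 2] R) ≤ Module.finrank (ZMod 2) R := by
    rw [Nat.card_eq_fintype_card]; exact AlgEquiv.card_le
  have hrank : Module.finrank (ZMod 2) R = f + 1 := by
    refine Nat.pow_right_injective le_rfl ?_
    show 2 ^ Module.finrank (ZMod 2) R = 2 ^ (f + 1)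
    rw [FiniteField.pow_finrank_eq_natCard 2 R, ← hcard]
    exact (Nat.card_congr (Additive.ofMul.trans ψ.toEquiv)).symm
  have h8 : f + 1 < 2 ^ f - 1 := by
    obtain ⟨j, rfl⟩ := Nat.exists_eq_add_of_le hf
    have := Nat.lt_two_pow_self (n := j)
    rw [pow_add]
    omega
  haveI : Finite (R ≃ₐ[ZMod 2] R) :=
    Finite.of_injective (fun e => (e : R → R)) DFunLike.coe_injective
  have := orderOf_le_card (G := R ≃ₐ[ZMod 2] R) (x := σ')
  omega

end CfsgLib.Involution.TwoTimesPSL
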