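import Cfsg.Agent.Lib.Involution.TwoTimesPSL.Tools
import Cfsg.Agent.Lib.Involution.TwoTimesPSL.OddOrbit

/-!
# Elementary case: the normaliser of `T` fusing `t` into `D`

Then `T` is a Sylow 2-subgroup on whose involutions its normaliser is transitive, so it has order 8.
-/

set_option autoImplicit false
set_option linter.style.haveILetI false
set_option linter.unusedSectionVars false

namespace CfsgLib.Involution.TwoTimesPSL

open Subgroup

variable {G : Type*} [Group G] [Finite G] {t : G} {T D K : Subgroup G}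

/-- The elementary case. -/
structure Elem (t : G) (T D K : Subgroup G) (z : G) : Prop extends Ctx t T D K where
  dsq : ∀ x ∈ D, x * x = 1
  dcard : 4 ≤ Nat.card D
  zC : z ∈ centralizer ({t} : Set G)
  zodd : Odd (orderOf z)
  zD : ∀ d ∈ D, z * d * z⁻¹ ∈ D
  ztr : Trans z D

namespace Elem

variable {z : G} (h : Elem t T D K z)
include h

theorem ctx : Ctx t T D K := h.toCtx

theorem sq {x : G} (hx : x ∈ T) : x * x = 1 := by
  rcases h.split x hx with hd | hd
  · exact h.dsq x hd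
  · rw [← h.ctx.tmul_sq hx]; exact h.dsq _ hd

theorem commT {x y : G} (hx : x ∈ T) (hy : y ∈ T) : x * y = y * x := by
  have h1 := inv_eq_of_mul_eq_one_right (h.sq (mul_mem hx hy))
  rw [mul_inv_rev, inv_eq_of_mul_eq_one_right (h.sq hx), inv_eq_of_mul_eq_one_right (h.sq hy)] at h1
  exact h1.symm

theorem zT {x : G} (hx : x ∈ T) : z * x * z⁻¹ ∈ T := by
  rcases h.split x hx with hd | hd
  · exact h.ctx.D_le_T (h.zD x hd)
  · have h1 := mul_mem h.tT (h.ctx.D_le_T (h.zD _ hd))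
    have h2 := comm_of_mem h.zC
    rwa [show t * (z * (t * x) * z⁻¹) = z * x * z⁻¹ by
      rw [← mul_assoc, ← mul_assoc, ← h2, mul_assoc z t, ← mul_assoc t t, h.tsq, one_mul]] at h1

theorem z_normalizer : z ∈ normalizer (T : Set G) := mem_normalizer_of_conj fun _ hx => h.zT hx

variable [IsSimpleGroup G]

theorem tmul_via (hG : ¬ IsMulCommutative G) {d : G} (hd : d ∈ D) (hd1 : d ≠ 1) :
    ∃ g ∈ normalizer (T : Set G), g * t * g⁻¹ = t * d :=
  h.ctx.normalizer_conj (fun _ hy => h.commT hy (mul_mem h.tT (h.ctx.D_le_T hd)))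
    (h.ctx.conj_tmul hG (h.ctx.D_le_K hd) (h.dsq d hd) hd1)

theorem all_via (hG : ¬ IsMulCommutative G)
    (hfuse : ∃ g ∈ normalizer (T : Set G), g * t * g⁻¹ ∈ D) {x : G} (hx : x ∈ T) (hx1 : x ≠ 1) :
    ∃ g ∈ normalizer (T : Set G), g * t * g⁻¹ = x := by
  rcases h.split x hx with hd | hd
  · obtain ⟨g, hg, hgd⟩ := hfuse
    have hne : g * t * g⁻¹ ≠ 1 := fun e => h.tne (conj_eq_one_iff.1 e)
    obtain ⟨k, hk⟩ := h.ztr _ hgd x hd hne hx1
    refine ⟨z ^ k * g, mul_mem (pow_mem h.z_normalizer k) hg, ?_⟩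
    rw [← hk]; group
  · by_cases hd1 : t * x = 1
    · refine ⟨1, one_mem _, ?_⟩
      rw [one_mul, inv_one, mul_one, ← h.ctx.tinv]
      exact inv_eq_of_mul_eq_one_right hd1
    · obtain ⟨g, hg, e⟩ := h.tmul_via hG hd hd1
      exact ⟨g, hg, by rw [e, ← mul_assoc, h.tsq, one_mul]⟩

theorem big (hG : ¬ IsMulCommutative G)
    (hfuse : ∃ g ∈ normalizer (T : Set G), g * t * g⁻¹ ∈ D) (S : Sylow 2 G) :
    Nat.card (S : Subgroup G) = 8 ∧ ∀ x ∈ (S : Subgroup G), x ^ 2 = 1 := by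
  classical
  haveI : Fact (Nat.Prime 2) := ⟨Nat.prime_two⟩
  set N := normalizer (T : Set G)
  set C := centralizer ({t} : Set G)
  obtain ⟨m, hm, hC⟩ := h.ctx.card_C
  -- the normaliser has 2-part the order of `T`
  set X : Set G := {x | x ∈ T ∧ x ≠ 1}
  have hcardN := card_conj_mul t N X (fun n hn => ⟨(mem_normalizer_iff.1 hn t).1 h.tT,
    fun e => h.tne (conj_eq_one_iff.1 e)⟩) (fun x hx => h.all_via hG hfuse hx.1 hx.2)
  have hX : Nat.card X + 1 = Nat.card T := by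
    have h1 : X = (T : Set G) \ {1} := by ext x; simp [X]
    have h2 : Nat.card (T : Set G) = Nat.card T := rfl
    rw [← h2, h1, Nat.card_coe_set_eq, Nat.card_coe_set_eq]
    exact Set.ncard_sdiff_singleton_add_one T.one_mem (Set.toFinite _)
  have hTN : T ≤ N ⊓ C := le_inf le_normalizer h.T_le
  obtain ⟨j, hj⟩ := card_dvd_of_le hTN
  obtain ⟨i, hi⟩ := card_dvd_of_le (inf_le_right : N ⊓ C ≤ C)
  have hjodd : Odd j := by
    refine Odd.of_dvd_nat hm ⟨i, Nat.eq_of_mul_eq_mul_left (Nat.card_pos (α := T)) ?_⟩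
    rw [← hC, hi, hj, mul_assoc]
  have hXodd : Odd (Nat.card X) := by
    have hT2 := h.ctx.card_T
    rw [Nat.odd_iff]; omega
  have hrel : ¬ 2 ∣ T.relIndex N := by
    have h1 : Nat.card T * T.relIndex N = Nat.card N := by
      rw [← relIndex_bot_left, ← relIndex_bot_left, relIndex_mul_relIndex _ _ _ bot_le le_normalizer]
    have h2 : T.relIndex N = Nat.card X * j :=
      Nat.eq_of_mul_eq_mul_left (Nat.card_pos (α := T)) (by rw [h1, hcardN, hj]; ring)
    rw [h2, Nat.two_dvd_ne_zero, ← Nat.odd_iff]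
    exact hXodd.mul hjodd
  have hsyl : ¬ 2 ∣ T.index := odd_index_of_normalizer h.T_two hrel
  let P : Sylow 2 G := h.T_two.toSylow hsyl
  obtain ⟨g, hg⟩ := MulAction.exists_smul_eq G P S
  have hgS : (S : Subgroup G) = T.map (MulAut.conj g).toMonoidHom := by rw [← hg]; rfl
  have hexp : ∀ x ∈ (S : Subgroup G), x ^ 2 = 1 := by
    rw [hgS]
    rintro _ ⟨y, hy, rfl⟩
    rw [← map_pow, pow_two, h.sq hy, map_one]
  refine ⟨?_, hexp⟩
  rw [hgS, card_map_of_injective (MulEquiv.injective _)]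
  obtain ⟨f', hf'⟩ := IsPGroup.iff_card.1 h.T_two
  have hT2 := h.ctx.card_T
  have hd4 := h.dcard
  obtain ⟨f, rfl⟩ : ∃ f, f' = f + 1 := by
    rcases f' with _ | f
    · rw [pow_zero] at hf'; omega
    · exact ⟨f, rfl⟩
  have hD : Nat.card D = 2 ^ f := by
    rw [pow_succ] at hf'; omega
  have hf2 : 2 ≤ f := by
    by_contra hlt
    have : 2 ^ f ≤ 2 ^ 1 := Nat.pow_le_pow_right (by norm_num) (by omega)
    omega
  rcases hf2.eq_or_lt with rfl | hf3
  · rw [hf']; rfl
  exfalso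
  letI : CommGroup T :=
    { (inferInstance : Group T) with mul_comm := fun a b => Subtype.ext (h.commT a.2 b.2) }
  set φ : N →* MulAut T := normalizerMonoidHom T
  have hφ : ∀ (n : N) (x : T), ((φ n x : T) : G) = n * x * (n : G)⁻¹ := fun n x => rfl
  have hA : Odd (Nat.card φ.range) := by
    rw [← index_ker]
    refine Odd.of_dvd_nat (Nat.odd_iff.2 (Nat.two_dvd_ne_zero.1 hrel)) (index_dvd_of_le ?_)
    intro n hn
    refine MonoidHom.mem_ker.2 (MulEquiv.ext fun x => Subtype.ext ?_)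
    rw [hφ, h.commT (mem_subgroupOf.1 hn) x.2, mul_inv_cancel_right]
    rfl
  have htT : (⟨t, h.tT⟩ : T) ≠ 1 := fun e => h.tne (congrArg Subtype.val e)
  refine no_odd_transitive (E := T) (fun x => Subtype.ext (h.sq x.2)) hf' hf3 φ.range hA ?_
    (φ ⟨z, h.z_normalizer⟩) ⟨_, rfl⟩ htT (Subtype.ext ?_) ?_
  · intro x y hx hy
    obtain ⟨g₁, hg₁, e₁⟩ := h.all_via hG hfuse x.2 (fun e => hx (Subtype.ext e))
    obtain ⟨g₂, hg₂, e₂⟩ := h.all_via hG hfuse y.2 (fun e => hy (Subtype.ext e))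
    refine ⟨φ (⟨g₂, hg₂⟩ * ⟨g₁, hg₁⟩⁻¹), ⟨_, rfl⟩, Subtype.ext ?_⟩
    rw [hφ, ← e₁, ← e₂]
    simp only [Subgroup.coe_mul, InvMemClass.coe_inv]
    group
  · rw [hφ]
    show z * t * z⁻¹ = t
    rw [comm_of_mem h.zC, mul_inv_cancel_right]
  · -- the orbit of `z` on `D`
    set a := φ ⟨z, h.z_normalizer⟩
    obtain ⟨d, hd, hd1⟩ := exists_ne_one_of_card (H := D) (by omega)
    have hinj : ∃ e : {x : G // x ∈ D ∧ x ≠ 1} → Fin (orderOf a), Function.Injective e := by
      have key : ∀ x : {x : G // x ∈ D ∧ x ≠ 1}, ∃ k : Fin (orderOf a),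
          z ^ (k : ℕ) * d * (z ^ (k : ℕ))⁻¹ = x := by
        rintro ⟨x, hx, hx1⟩
        obtain ⟨k, hk⟩ := h.ztr d hd x hx hd1 hx1
        refine ⟨⟨k % orderOf a, Nat.mod_lt _ (orderOf_pos a)⟩, ?_⟩
        have hpow : ∀ n : ℕ, (((a ^ n) ⟨d, h.ctx.D_le_T hd⟩ : T) : G) = z ^ n * d * (z ^ n)⁻¹ := by
          intro n
          rw [← map_pow, hφ, SubgroupClass.coe_pow]
        rw [← hpow, pow_mod_orderOf, hpow, hk]
      choose e he using key
      exact ⟨e, fun x y hxy => Subtype.ext ((he x).symm.trans (hxy ▸ he y))⟩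
    obtain ⟨e, he⟩ := hinj
    have hle := Nat.card_le_card_of_injective e he
    rw [Nat.card_eq_fintype_card (α := Fin _), Fintype.card_fin] at hle
    refine le_trans (le_of_eq ?_) hle
    rw [← hD]
    have h1 : Nat.card {x : G // x ∈ D ∧ x ≠ 1} = ((D : Set G) \ {1}).ncard := by
      rw [← Nat.card_coe_set_eq]
      exact Nat.card_congr (Equiv.subtypeEquivRight fun x => by simp)
    have h2 : Nat.card D = (D : Set G).ncard := Nat.card_coe_set_eq _
    rw [h1, h2, Set.ncard_sdiff_singleton_of_mem D.one_mem]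

end Elem

end CfsgLib.Involution.TwoTimesPSL
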