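import Mathlib

/-!
# Alternating equivariant products on a group with a transitive cyclic automorphism group

An alternating biadditive map `V × V → V` which commutes with an automorphism permuting the
nontrivial elements of an elementary abelian `2`-group `V` transitively is trivial.
-/

set_option autoImplicit false

namespace CfsgLib.Involution.TwoTimesPSL

variable {V : Type*} [CommGroup V] [Finite V]

theorem alternating_equivariant_eq_one (h2 : ∀ v : V, v * v = 1) (σ : MulAut V)
    (hσ : ∀ x y : V, x ≠ 1 → y ≠ 1 → ∃ k : ℕ, (σ ^ k) x = y) (A : V → V → V)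
    (hl : ∀ x x' y, A (x * x') y = A x y * A x' y) (hr : ∀ x y y', A x (y * y') = A x y * A x y')
    (hA : ∀ x y, A (σ x) (σ y) = σ (A x y)) (hxx : ∀ x, A x x = 1) :
    ∀ x y, A x y = 1 := by
  classical
  have h1l : ∀ y, A 1 y = 1 := fun y => by
    have := hl 1 1 y
    rw [one_mul] at this
    exact left_eq_mul.1 this
  by_cases hV : ∀ v : V, v = 1
  · intro x y; exact hV _
  push Not at hV
  obtain ⟨e, he⟩ := hV
  have hAk : ∀ (k : ℕ) (x y : V), A ((σ ^ k) x) ((σ ^ k) y) = (σ ^ k) (A x y) := by
    intro k
    induction k with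
    | zero => intro x y; rfl
    | succ k ih => intro x y; rw [pow_succ', MulAut.mul_apply, MulAut.mul_apply, hA, ih]; rfl
  have hcomm : ∀ (i j : ℕ) (x : V), (σ ^ i) ((σ ^ j) x) = (σ ^ j) ((σ ^ i) x) := fun i j x => by
    rw [← MulAut.mul_apply, ← MulAut.mul_apply, ← pow_add, ← pow_add, add_comm]
  -- multiplication by `x` in the field structure with identity `e`
  let m : V → V → V := fun x v =>
    if h : x = 1 then 1 else (σ ^ (hσ e x he h).choose) v
  have hme : ∀ x, m x e = x := fun x => by
    simp only [m]; split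
    · next h => exact h.symm
    · next h => exact (hσ e x he h).choose_spec
  have hmmul : ∀ x u v, m x (u * v) = m x u * m x v := fun x u v => by
    simp only [m]; split
    · rw [one_mul]
    · rw [map_mul]
  have hmσ : ∀ x (k : ℕ) v, m x ((σ ^ k) v) = (σ ^ k) (m x v) := fun x k v => by
    simp only [m]; split
    · rw [map_one]
    · exact hcomm _ _ _
  have hm1 : ∀ x, m x 1 = 1 := fun x => by simp only [m]; split <;> simp
  -- an endomorphism commuting with `σ` is determined at `e`
  have huniq : ∀ f g : V → V, (f 1 = g 1) → (∀ (k : ℕ) v, f ((σ ^ k) v) = (σ ^ k) (f v)) →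
      (∀ (k : ℕ) v, g ((σ ^ k) v) = (σ ^ k) (g v)) → f e = g e → ∀ v, f v = g v := by
    intro f g h1 hf hg hfg v
    by_cases hv : v = 1
    · rw [hv, h1]
    · obtain ⟨k, rfl⟩ := hσ e v he hv
      rw [hf, hg, hfg]
  have hmid : ∀ v, m e v = v :=
    huniq _ _ (hm1 e) (hmσ e) (fun k v => rfl) (hme e)
  have hmadd : ∀ x y v, m (x * y) v = m x v * m y v := fun x y =>
    huniq _ _ (by rw [hm1, hm1, hm1, one_mul]) (hmσ _)
      (fun k v => by rw [hmσ, hmσ, map_mul]) (by rw [hme, hme, hme])
  have hmsymm : ∀ x y, m x y = m y x := by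
    intro x y
    by_cases hy : y = 1
    · subst hy
      rw [hm1]; simp [m]
    · obtain ⟨k, hk⟩ := hσ e y he hy
      rw [← hk, hmσ, hme]
      refine huniq (fun v => (σ ^ k) v) (m ((σ ^ k) e)) ?_ (fun j v => hcomm _ _ _) (hmσ _)
        (by rw [hme]) x
      rw [hm1, map_one]
  have hmA : ∀ x u w, A (m x u) (m x w) = m x (A u w) := fun x u w => by
    simp only [m]; split
    · exact hxx 1
    · exact hAk _ _ _
  have hsq : ∀ x, A e (m x x) = 1 := by
    intro x
    have key := hmA (x * e) e x
    rw [hmadd, hmadd, hmadd, hme, hmid, hmid, hmid, hl, hr, hr, hxx x, mul_one] at key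
    have h3 : A x (m x x) = m x (A e x) := by
      conv_lhs => arg 1; rw [← hme x]
      exact hmA x e x
    rw [h3] at key
    have h4 : A e (m x x) * A e x = A e x := mul_left_cancel key
    exact mul_eq_right.1 h4
  have hsurj : Function.Surjective fun x => m x x := by
    refine Finite.injective_iff_surjective.1 fun x y hxy => ?_
    change m x x = m y y at hxy
    have h5 : m (x * y) (x * y) = 1 := by
      rw [hmmul, hmadd, hmadd, hmsymm y x, ← hxy]
      calc m x x * m x y * (m x y * m x x) = m x x * (m x y * m x y) * m x x := by group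
        _ = 1 := by rw [h2, mul_one, h2]
    by_contra hne
    have hxy1 : x * y ≠ 1 := fun h => hne (by
      rw [← mul_one x, ← h2 y, ← mul_assoc, h, one_mul])
    simp only [m, dif_neg hxy1] at h5
    exact hxy1 ((map_eq_one_iff _ (MulEquiv.injective _)).1 h5)
  intro x y
  by_cases hx : x = 1
  · rw [hx, h1l]
  obtain ⟨k, rfl⟩ := hσ e x he hx
  obtain ⟨w, hw⟩ := hsurj ((σ ^ k).symm y)
  have := hAk k e ((σ ^ k).symm y)
  rw [MulEquiv.apply_symm_apply] at this
  rw [this, ← hw, hsq, map_one]

end CfsgLib.Involution.TwoTimesPSL
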