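import Cfsg.Agent.Lib.Involution.TwoTimesPSL.ElementaryBig

/-!
# Elementary case, affine fusion: an inverted abelian group and the affine action on `D`
-/

set_option autoImplicit false
set_option linter.style.haveILetI false
set_option linter.unusedSectionVars false

namespace CfsgLib.Involution.TwoTimesPSL

open Subgroup

variable {G : Type*} [Group G] [Finite G]

/-- An abelian 2-group over `D` inverted by `t`, invariant under a transitive element of `C(t)`. -/
structure Good (t : G) (D U : Subgroup G) : Prop where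
  two : IsPGroup 2 U
  le : D ≤ U
  comm : ∀ x ∈ U, ∀ y ∈ U, x * y = y * x
  tnot : t ∉ U
  inv : ∀ u ∈ U, t * u * t = u⁻¹
  lifts : ∃ w, w ∈ centralizer ({t} : Set G) ∧ Odd (orderOf w) ∧ (∀ u ∈ U, w * u * w⁻¹ ∈ U) ∧
    (∀ d ∈ D, w * d * w⁻¹ ∈ D) ∧ Trans w D

/-- A good subgroup of exponent `2 ^ (i + 1)`. -/
structure Frame (t : G) (T D K : Subgroup G) (z : G) (U : Subgroup G) (i : ℕ) : Prop
    extends Elem t T D K z where
  good : Good t D U
  expo : ∀ u ∈ U, u ^ 2 ^ (i + 1) = 1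
  top : ∃ u ∈ U, u ^ 2 ^ i ≠ 1
  nofuse : ∀ g ∈ normalizer (T : Set G), g * t * g⁻¹ ∉ D
  simple : ¬ IsMulCommutative G

/-- The translation part of the affine action of `n` on `D`. -/
def tr (t : G) (i : ℕ) (n : G) : G := (t * (n * t * n⁻¹)) ^ 2 ^ i

/-- The group `U⟨t⟩`. -/
def ext' (t : G) (U : Subgroup G) : Subgroup G := Subgroup.closure (insert t (U : Set G))

namespace Frame

variable {t z : G} {T D K U : Subgroup G} {i : ℕ} (h : Frame t T D K z U i)
include h

theorem elem : Elem t T D K z := h.toElem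

theorem ctx : Ctx t T D K := h.toElem.toCtx

theorem tu_sq {u : G} (hu : u ∈ U) : (t * u) * (t * u) = 1 := by
  rw [← mul_assoc, h.good.inv u hu, inv_mul_cancel]

theorem sq_of_tmul {x : G} (hx : t * x ∈ U) : x * x = 1 := by
  have := h.tu_sq hx
  simpa [← mul_assoc, h.tsq] using this

theorem tU {u : G} (hu : u ∈ U) : t * u = u⁻¹ * t := by
  rw [← h.good.inv u hu, mul_assoc, h.tsq, mul_one]

theorem Ut {u : G} (hu : u ∈ U) : u * t = t * u⁻¹ := by
  rw [h.tU (inv_mem hu), inv_inv]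

theorem sq_mem_D {u : G} (hu : u ∈ U) (h2 : u * u = 1) : u ∈ D := by
  haveI : Fact (Nat.Prime 2) := ⟨Nat.prime_two⟩
  have hinv := inv_eq_of_mul_eq_one_right h2
  have hut : u * t = t * u := by rw [h.Ut hu, hinv]
  have huT : ∀ x ∈ T, x * u = u * x := by
    intro x hx
    rcases h.split x hx with hd | hd
    · exact h.good.comm x (h.good.le hd) u hu
    · have := h.good.comm _ (h.good.le hd) u hu
      rw [mul_assoc, ← mul_assoc u t x, hut, mul_assoc] at this
      exact mul_left_cancel this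
  have hQ : IsPGroup 2 (T ⊔ zpowers u : Subgroup G) := by
    refine IsPGroup.to_sup_of_normal_right' h.T_two
      (two_group_zpowers (k := 1) (by rw [pow_one, pow_two, h2])) ?_
    intro x hx
    refine mem_normalizer_of_conj ?_
    rintro _ ⟨k, rfl⟩
    refine ⟨k, ?_⟩
    show u ^ k = x * u ^ k * x⁻¹
    rw [(Commute.zpow_right (show Commute x u from huT x hx) k).eq, mul_inv_cancel_right]
  have hle : (T ⊔ zpowers u : Subgroup G) ≤ centralizer ({t} : Set G) :=
    sup_le h.T_le (zpowers_le.2 (mem_cen hut))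
  have heq := Subgroup.eq_of_le_of_card_ge (le_sup_left : T ≤ T ⊔ zpowers u) (h.ctx.card_le hQ hle)
  have huT' : u ∈ T := by rw [heq]; exact mem_sup_right (mem_zpowers u)
  rcases h.split u huT' with hd | hd
  · exact hd
  · exfalso
    apply h.good.tnot
    have := mul_mem (h.good.le hd) (inv_mem hu)
    rwa [mul_inv_cancel_right] at this

theorem pow_mem_D {u : G} (hu : u ∈ U) : u ^ 2 ^ i ∈ D :=
  h.sq_mem_D (pow_mem hu _) (by rw [← pow_add, ← two_mul, ← pow_succ']; exact h.expo u hu)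

theorem pow_mul_pow {u v : G} (hu : u ∈ U) (hv : v ∈ U) (n : ℕ) :
    (u * v) ^ n = u ^ n * v ^ n :=
  (show Commute u v from h.good.comm u hu v hv).mul_pow n

theorem pow_surj {d : G} (hd : d ∈ D) : ∃ u ∈ U, u ^ 2 ^ i = d := by
  obtain ⟨w, -, -, hwU, -, hwtr⟩ := h.good.lifts
  by_cases hd1 : d = 1
  · exact ⟨1, one_mem _, by rw [one_pow, hd1]⟩
  obtain ⟨u, hu, hu1⟩ := h.top
  obtain ⟨k, hk⟩ := hwtr _ (h.pow_mem_D hu) d hd hu1 hd1
  refine ⟨w ^ k * u * (w ^ k)⁻¹, conj_pow_mem hwU k u hu, ?_⟩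
  rw [conj_pow]; exact hk

/-- The subgroup of squares is the kernel of the power map to `D`. -/
theorem pow_ker {u : G} (hu : u ∈ U) (h1 : u ^ 2 ^ i = 1) : ∃ v ∈ U, v * v = u := by
  classical
  letI : CommGroup U :=
    { (inferInstance : Group U) with
      mul_comm := fun a b => Subtype.ext (h.good.comm a a.2 b b.2) }
  let s : U →* U := powMonoidHom 2
  let p : U →* U := powMonoidHom (2 ^ i)
  have hcoe : ∀ (v : U) (n : ℕ), ((v ^ n : U) : G) = (v : G) ^ n := fun v n => SubgroupClass.coe_pow v n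
  have hsle : s.range ≤ p.ker := by
    rintro _ ⟨v, rfl⟩
    refine MonoidHom.mem_ker.2 (Subtype.ext ?_)
    simp only [s, p, powMonoidHom_apply, hcoe, OneMemClass.coe_one, ← pow_mul, ← pow_succ']
    exact h.expo v v.2
  have hker : Nat.card s.ker = Nat.card p.range := by
    refine Nat.card_congr
      { toFun := fun x => ⟨x, ?_⟩, invFun := fun x => ⟨x, ?_⟩, left_inv := fun x => rfl,
        right_inv := fun x => rfl }
    · have h2 : (x.1 : G) * x.1 = 1 := by
        have := congrArg Subtype.val (MonoidHom.mem_ker.1 x.2)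
        simpa [s, pow_two] using this
      obtain ⟨v, hv, e⟩ := h.pow_surj (h.sq_mem_D x.1.2 h2)
      exact ⟨⟨v, hv⟩, Subtype.ext (by simpa [p] using e)⟩
    · obtain ⟨v, hv⟩ := x.2
      refine MonoidHom.mem_ker.2 (Subtype.ext ?_)
      rw [← hv]
      simp only [s, p, powMonoidHom_apply, hcoe, OneMemClass.coe_one, ← pow_mul, ← pow_succ]
      exact h.expo v v.2
  have e1 := s.ker.card_mul_index
  have e2 := p.ker.card_mul_index
  rw [index_ker] at e1 e2
  rw [hker, mul_comm] at e1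
  have hcard : Nat.card p.ker ≤ Nat.card s.range :=
    le_of_eq (Nat.eq_of_mul_eq_mul_right Nat.card_pos (e2.trans e1.symm))
  have heq := Subgroup.eq_of_le_of_card_ge hsle hcard
  have hu' : (⟨u, hu⟩ : U) ∈ p.ker := MonoidHom.mem_ker.2 (Subtype.ext (by simpa [p] using h1))
  rw [← heq] at hu'
  obtain ⟨v, hv⟩ := hu'
  exact ⟨v, v.2, by simpa [s, pow_two] using congrArg Subtype.val hv⟩

theorem mem_ext {x : G} : x ∈ ext' t U ↔ x ∈ U ∨ t * x ∈ U := by
  refine ⟨fun hx => ?_, fun hx => ?_⟩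
  · induction hx using closure_induction with
    | mem x hx =>
      rcases hx with rfl | hx
      · right; rw [h.tsq]; exact one_mem _
      · exact Or.inl hx
    | one => exact Or.inl (one_mem _)
    | mul x y _ _ hx hy =>
      have key : ∀ a, t * a ∈ U → ∀ b ∈ U, t * (b * a) ∈ U := fun a ha b hb => by
        have := mul_mem (inv_mem hb) ha
        rwa [← mul_assoc, ← h.tU hb, mul_assoc] at this
      rcases hx with hx | hx <;> rcases hy with hy | hy
      · exact Or.inl (mul_mem hx hy)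
      · exact Or.inr (key y hy x hx)
      · right; rw [← mul_assoc]; exact mul_mem hx hy
      · left
        have h1 := mul_mem (inv_mem hx) hy
        rwa [mul_inv_rev, h.ctx.tinv, mul_assoc, ← mul_assoc t t y, h.tsq, one_mul,
          show x⁻¹ = x from inv_eq_of_mul_eq_one_right (h.sq_of_tmul hx)] at h1
    | inv x _ hx =>
      rcases hx with hx | hx
      · exact Or.inl (inv_mem hx)
      · right
        have h2 := h.sq_of_tmul hx
        rwa [inv_eq_of_mul_eq_one_right h2]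
  · rcases hx with hx | hx
    · exact subset_closure (Set.mem_insert_of_mem _ hx)
    · have := mul_mem (subset_closure (Set.mem_insert t _) : t ∈ ext' t U)
        (subset_closure (Set.mem_insert_of_mem t hx) : t * x ∈ ext' t U)
      rwa [← mul_assoc, h.tsq, one_mul] at this

theorem t_mem_ext : t ∈ ext' t U := h.mem_ext.2 (Or.inr (by rw [h.tsq]; exact one_mem _))

theorem U_le_ext : U ≤ ext' t U := fun _ hx => h.mem_ext.2 (Or.inl hx)

theorem card_ext : Nat.card (ext' t U) = 2 * Nat.card U :=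
  card_double h.U_le_ext h.t_mem_ext h.good.tnot h.tsq fun _ hx => h.mem_ext.1 hx

theorem not_conj_D {d : G} (hd : d ∈ D) : ¬ IsConj t d := fun hc => by
  obtain ⟨g, hg, e⟩ := h.ctx.normalizer_conj
    (fun y hy => h.elem.commT hy (h.ctx.D_le_T hd)) hc
  exact h.nofuse g hg (e ▸ hd)

theorem not_conj_U {u : G} (hu : u ∈ U) : ¬ IsConj t u := fun hc => by
  obtain ⟨g, rfl⟩ := isConj_iff.1 hc
  exact h.not_conj_D (h.sq_mem_D hu (by rw [conj_mul, h.tsq]; group)) hc

theorem ext_two : IsPGroup 2 (ext' t U) := by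
  obtain ⟨a, ha⟩ := IsPGroup.iff_card.1 h.good.two
  exact IsPGroup.of_card (n := a + 1) (by rw [h.card_ext, ha, pow_succ'])

theorem conj_U [IsSimpleGroup G] {n : G} (hn : n ∈ normalizer (ext' t U : Set G)) {u : G}
    (hu : u ∈ U) : n * u * n⁻¹ ∈ U := by
  have key : ∀ v ∈ U, v * v ≠ 1 → n * v * n⁻¹ ∈ U := by
    intro v hv hv2
    rcases h.mem_ext.1 ((mem_normalizer_iff.1 hn v).1 (h.U_le_ext hv)) with h1 | h1
    · exact h1
    · exfalso
      have h2 := h.sq_of_tmul h1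
      rw [conj_mul] at h2
      exact hv2 (conj_eq_one_iff.1 h2)
  by_cases hu2 : u * u = 1
  swap
  · exact key u hu hu2
  by_cases hex : ∃ w ∈ U, w * w ≠ 1
  · obtain ⟨w, hw, hw2⟩ := hex
    have h1 := key (w * u) (mul_mem hw hu) (by
      rw [mul_assoc, ← mul_assoc u w u, h.good.comm u hu w hw, mul_assoc w u u, hu2, mul_one]
      exact hw2)
    have h2 := mul_mem (inv_mem (key w hw hw2)) h1
    rwa [show (n * w * n⁻¹)⁻¹ * (n * (w * u) * n⁻¹) = n * u * n⁻¹ by group] at h2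
  · push Not at hex
    have hUD : U = D := le_antisymm (fun x hx => h.sq_mem_D hx (hex x hx)) h.good.le
    have hRT : ext' t U = T := by
      ext x
      rw [h.mem_ext, hUD]
      refine ⟨?_, fun hx => h.split x hx⟩
      rintro (hx | hx)
      · exact h.ctx.D_le_T hx
      · have := mul_mem h.tT (h.ctx.D_le_T hx)
        rwa [← mul_assoc, h.tsq, one_mul] at this
    rw [hRT] at hn
    rw [hUD] at hu ⊢
    rcases h.split _ ((mem_normalizer_iff.1 hn u).1 (h.ctx.D_le_T hu)) with hd | hd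
    · exact hd
    · exfalso
      by_cases h1 : t * (n * u * n⁻¹) = 1
      · refine h.nofuse n⁻¹ (inv_mem hn) ?_
        have e : n * u * n⁻¹ = t := by rw [← h.ctx.tinv]; exact eq_inv_of_mul_eq_one_right h1
        rwa [← e, show n⁻¹ * (n * u * n⁻¹) * n⁻¹⁻¹ = u by group]
      · obtain ⟨g, hg, e⟩ := h.elem.tmul_via h.simple hd h1
        refine h.nofuse (n⁻¹ * g) (mul_mem (inv_mem hn) hg) ?_
        rw [← mul_assoc t t, h.tsq, one_mul] at e
        rwa [show n⁻¹ * g * t * (n⁻¹ * g)⁻¹ = n⁻¹ * (g * t * g⁻¹) * n by group, e,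
          show n⁻¹ * (n * u * n⁻¹) * n = u by group]

variable [IsSimpleGroup G]

theorem conj_U' {n : G} (hn : n ∈ normalizer (ext' t U : Set G)) {u : G}
    (hu : u ∈ U) : n⁻¹ * u * n ∈ U := by
  simpa using h.conj_U (inv_mem hn) hu

theorem conj_D {n : G} (hn : n ∈ normalizer (ext' t U : Set G)) {d : G}
    (hd : d ∈ D) : n * d * n⁻¹ ∈ D :=
  h.sq_mem_D (h.conj_U hn (h.good.le hd)) (by rw [conj_mul, h.dsq d hd]; group)

theorem conj_t {n : G} (hn : n ∈ normalizer (ext' t U : Set G)) : t * (n * t * n⁻¹) ∈ U := by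
  rcases h.mem_ext.1 ((mem_normalizer_iff.1 hn t).1 h.t_mem_ext) with h1 | h1
  · exfalso
    apply h.good.tnot
    simpa [mul_assoc] using h.conj_U' hn h1
  · exact h1

theorem tr_mem {n : G} (hn : n ∈ normalizer (ext' t U : Set G)) : tr t i n ∈ D :=
  h.pow_mem_D (h.conj_t hn)

theorem tr_mul {m n : G} (hm : m ∈ normalizer (ext' t U : Set G))
    (hn : n ∈ normalizer (ext' t U : Set G)) : tr t i (m * n) = tr t i m * (m * tr t i n * m⁻¹) := by
  rw [tr, tr, tr, ← conj_pow, ← h.pow_mul_pow (h.conj_t hm) (h.conj_U hm (h.conj_t hn))]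
  congr 1
  calc t * (m * n * t * (m * n)⁻¹) = t * (m * ((t * t) * (n * t * n⁻¹)) * m⁻¹) := by
        rw [h.tsq]; group
    _ = t * (m * t * m⁻¹) * (m * (t * (n * t * n⁻¹)) * m⁻¹) := by group

theorem tr_cen {n : G} (hn : n ∈ centralizer ({t} : Set G)) : tr t i n = 1 := by
  rw [tr, comm_of_mem hn, mul_assoc t n, mul_inv_cancel, mul_one, h.tsq, one_pow]

theorem tr_U {u : G} (hu : u ∈ U) : tr t i u = 1 := by
  rw [tr, h.Ut hu, ← mul_assoc t (t * u⁻¹), ← mul_assoc t t, h.tsq, one_mul, ← pow_two, ← pow_mul,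
    ← pow_succ']
  exact h.expo _ (inv_mem hu)

theorem U_le_N : U ≤ normalizer (ext' t U : Set G) := h.U_le_ext.trans le_normalizer

theorem lifts_N {w : G} (hwC : w ∈ centralizer ({t} : Set G)) (hwU : ∀ u ∈ U, w * u * w⁻¹ ∈ U) :
    w ∈ normalizer (ext' t U : Set G) := by
  refine mem_normalizer_of_conj fun x hx => h.mem_ext.2 ?_
  rcases h.mem_ext.1 hx with h1 | h1
  · exact Or.inl (hwU x h1)
  · right
    have h2 := hwU _ h1
    rwa [← mul_assoc w t x, comm_of_mem hwC, mul_assoc t w x, mul_assoc t (w * x)] at h2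

theorem T_le_N : T ≤ normalizer (ext' t U : Set G) := by
  refine fun x hx => le_normalizer ?_
  rw [h.mem_ext]
  exact (h.split x hx).imp (fun hd => h.good.le hd) (fun hd => h.good.le hd)

/-- Conjugates of `t` under `U`. -/
theorem conj_by_U {u v : G} (hu : u ∈ U) (hv : v ∈ U) : v⁻¹ * (t * u) * v = t * (u * (v * v)) := by
  rw [← mul_assoc v⁻¹ t u, ← h.tU hv, mul_assoc, mul_assoc, ← mul_assoc v u v,
    h.good.comm v hv u hu, mul_assoc u v v]

/-- The part of the normaliser fixing the point `1`. -/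
def stab : Subgroup G where
  carrier := {n | n ∈ normalizer (ext' t U : Set G) ∧ tr t i n = 1}
  one_mem' := ⟨one_mem _, h.tr_cen (one_mem _)⟩
  mul_mem' := fun {m n} hm hn => ⟨mul_mem hm.1 hn.1, by
    rw [h.tr_mul hm.1 hn.1, hm.2, hn.2, one_mul, mul_one, mul_inv_cancel]⟩
  inv_mem' := fun {n} hn => ⟨inv_mem hn.1, by
    have h1 := h.tr_mul (inv_mem hn.1) hn.1
    rw [inv_mul_cancel, h.tr_cen (one_mem _), hn.2, mul_one, inv_inv, inv_mul_cancel, mul_one] at h1
    exact h1.symm⟩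

theorem mem_stab {n : G} :
    n ∈ h.stab ↔ n ∈ normalizer (ext' t U : Set G) ∧ tr t i n = 1 := Iff.rfl

theorem ext_le_stab : ext' t U ≤ h.stab := by
  rw [ext', closure_le, Set.insert_subset_iff]
  exact ⟨⟨le_normalizer h.t_mem_ext, h.tr_cen h.ctx.tC⟩, fun u hu => ⟨h.U_le_N hu, h.tr_U hu⟩⟩

/-- The squares of `U`. -/
def sqs (t : G) (U : Subgroup G) : Set G := {x | ∃ v ∈ U, x = t * (v * v)}

theorem card_sqs : Nat.card (sqs t U) * Nat.card D = Nat.card U := by
  classical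
  have key : ∀ x : sqs t U, ∃ v ∈ U, (x : G) = t * (v * v) := fun x => x.2
  choose f hfU hf using key
  rw [← Nat.card_prod]
  refine Nat.card_congr (Equiv.ofBijective (fun a : sqs t U × D =>
    (⟨f a.1 * a.2, mul_mem (hfU a.1) (h.good.le a.2.2)⟩ : U)) ⟨?_, ?_⟩)
  · rintro ⟨x, d⟩ ⟨y, e⟩ hxy
    have hxy' : f x * d = f y * e := congrArg Subtype.val hxy
    have hx : x = y := by
      refine Subtype.ext ?_
      rw [hf x, hf y]
      have h1 : ∀ (z : sqs t U) (a : D), f z * f z = (f z * a) * (f z * a) := fun z a => by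
        rw [← pow_two, ← pow_two, h.pow_mul_pow (hfU z) (h.good.le a.2), pow_two (a : G),
          h.dsq _ a.2, mul_one]
      rw [h1 x d, h1 y e, hxy']
    subst hx
    exact Prod.ext rfl (Subtype.ext (mul_left_cancel hxy'))
  · rintro ⟨u, hu⟩
    set x : sqs t U := ⟨t * (u * u), u, hu, rfl⟩
    have h1 := mul_left_cancel ((hf x).symm.trans rfl : t * (f x * f x) = t * (u * u))
    have hd : (f x)⁻¹ * u ∈ D := by
      refine h.sq_mem_D (mul_mem (inv_mem (hfU x)) hu) ?_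
      rw [← pow_two, h.pow_mul_pow (inv_mem (hfU x)) hu, inv_pow, pow_two, pow_two, h1, inv_mul_cancel]
    exact ⟨(x, ⟨_, hd⟩), Subtype.ext (mul_inv_cancel_left _ _)⟩

theorem conj_of_tr {n : G} (hn : n ∈ normalizer (ext' t U : Set G)) {u : G} (hu : u ∈ U)
    (he : tr t i n = u ^ 2 ^ i) :
    ∃ v ∈ U, (v⁻¹ * n) * t * (v⁻¹ * n)⁻¹ = t * u := by
  obtain ⟨v, hv, e⟩ := h.pow_ker (mul_mem (inv_mem (h.conj_t hn)) hu) (by
    rw [h.pow_mul_pow (inv_mem (h.conj_t hn)) hu, inv_pow]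
    exact inv_mul_eq_one.2 he)
  refine ⟨v, hv, ?_⟩
  have h1 := h.conj_by_U (h.conj_t hn) hv
  rw [e, mul_inv_cancel_left, ← mul_assoc t t, h.tsq, one_mul] at h1
  rw [← h1]; group

theorem card_stab_part {Q : Subgroup G} (hQ : Q ≤ h.stab) :
    Nat.card Q * Nat.card D ≤ Nat.card U * Nat.card (Q ⊓ centralizer ({t} : Set G) : Subgroup G) := by
  classical
  set X : Set G := {x | ∃ n ∈ Q, x = n * t * n⁻¹}
  rw [card_conj_mul t Q X (fun n hn => ⟨n, hn, rfl⟩) (fun x ⟨n, hn, e⟩ => ⟨n, hn, e.symm⟩),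
    mul_right_comm]
  refine Nat.mul_le_mul_right _ ?_
  rw [← h.card_sqs]
  refine Nat.mul_le_mul_right _ (Nat.card_mono (Set.toFinite _) ?_)
  rintro _ ⟨n, hn, rfl⟩
  obtain ⟨v, hv, e⟩ := h.pow_ker (h.conj_t (hQ hn).1) (hQ hn).2
  exact ⟨v, hv, by rw [e, ← mul_assoc, h.tsq, one_mul]⟩

/-- The 2-elements fixing the point `1` lie in `U⟨t⟩`. -/
theorem stab_two {x : G} {k : ℕ} (hx : x ∈ h.stab) (hxk : x ^ 2 ^ k = 1) : x ∈ ext' t U := by
  set Q := zpowers x ⊔ ext' t U
  have hQ : IsPGroup 2 Q :=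
    IsPGroup.to_sup_of_normal_right' (two_group_zpowers hxk) h.ext_two (zpowers_le.2 hx.1)
  have hQs : Q ≤ h.stab := sup_le (zpowers_le.2 hx) h.ext_le_stab
  have h1 := h.card_stab_part hQs
  have h2 : Nat.card (Q ⊓ centralizer ({t} : Set G) : Subgroup G) ≤ 2 * Nat.card D :=
    h.ctx.card_T ▸ h.ctx.card_le (hQ.to_inf_left) inf_le_right
  have h3 : Nat.card Q ≤ 2 * Nat.card U := by
    refine Nat.le_of_mul_le_mul_right ?_ (Nat.card_pos (α := D))
    calc Nat.card Q * Nat.card D ≤ _ := h1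
      _ ≤ Nat.card U * (2 * Nat.card D) := Nat.mul_le_mul_left _ h2
      _ = _ := by ring
  have heq := Subgroup.eq_of_le_of_card_ge (le_sup_right : ext' t U ≤ Q) (h.card_ext ▸ h3)
  rw [heq]
  exact mem_sup_left (mem_zpowers x)

/-- The orders of the two-parts of subgroups containing `T`. -/
theorem card_inter {W : Subgroup G} (hW : T ≤ W) :
    ∃ m, Odd m ∧ Nat.card (W ⊓ centralizer ({t} : Set G) : Subgroup G) = 2 * Nat.card D * m := by
  obtain ⟨m, hm, hC⟩ := h.ctx.card_C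
  obtain ⟨j, hj⟩ := card_dvd_of_le (le_inf hW h.T_le)
  obtain ⟨k, hk⟩ := card_dvd_of_le (inf_le_right : W ⊓ centralizer ({t} : Set G) ≤ centralizer ({t} : Set G))
  refine ⟨j, Odd.of_dvd_nat hm ⟨k, Nat.eq_of_mul_eq_mul_left (Nat.card_pos (α := T)) ?_⟩,
    by rw [← h.ctx.card_T]; exact hj⟩
  rw [← hC, hk, hj, mul_assoc]

theorem T_le_stab : T ≤ h.stab := fun x hx => ⟨h.T_le_N hx, h.tr_cen (h.T_le hx)⟩

theorem card_stab : ∃ m, Odd m ∧ Nat.card h.stab = 2 * Nat.card U * m := by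
  obtain ⟨m, hm, hC⟩ := h.card_inter h.T_le_stab
  refine ⟨m, hm, ?_⟩
  rw [card_conj_mul t h.stab (sqs t U), hC, ← h.card_sqs]
  · ring
  · intro n hn
    obtain ⟨v, hv, e⟩ := h.pow_ker (h.conj_t hn.1) hn.2
    exact ⟨v, hv, by rw [e, ← mul_assoc, h.tsq, one_mul]⟩
  · rintro _ ⟨v, hv, rfl⟩
    refine ⟨v⁻¹, ⟨h.U_le_N (inv_mem hv), h.tr_U (inv_mem hv)⟩, ?_⟩
    rw [inv_inv]
    simpa using h.conj_by_U (one_mem U) hv

/-- The translations are not all trivial. -/
theorem exists_moves : ∃ n ∈ normalizer (ext' t U : Set G), tr t i n ≠ 1 := by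
  classical
  by_contra hne
  push Not at hne
  haveI : Fact (Nat.Prime 2) := ⟨Nat.prime_two⟩
  obtain ⟨m, hm, hs⟩ := h.card_stab
  have hstab : h.stab = normalizer (ext' t U : Set G) :=
    le_antisymm (fun x hx => hx.1) fun x hx => ⟨hx, hne x hx⟩
  rw [hstab, ← h.card_ext] at hs
  have hrel : (ext' t U).relIndex (normalizer (ext' t U : Set G)) = m := by
    refine Nat.eq_of_mul_eq_mul_left (Nat.card_pos (α := ext' t U)) ?_
    rw [← hs, ← relIndex_bot_left, relIndex_mul_relIndex _ _ _ bot_le le_normalizer,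
      relIndex_bot_left]
  have hidx : ¬ 2 ∣ (ext' t U).index := odd_index_of_normalizer h.ext_two (by
    rw [hrel, Nat.two_dvd_ne_zero, ← Nat.odd_iff]; exact hm)
  obtain ⟨ε, hε⟩ : ∃ ε : ↥(ext' t U) →* ℤˣ, ∀ x : ext' t U, (x : G) ∉ U → ε x = -1 := by
    refine ⟨MonoidHom.mk' (fun x => if (x : G) ∈ U then 1 else -1) ?_, fun x hx => if_neg hx⟩
    intro x y
    simp only [Subgroup.coe_mul]
    by_cases hx : (x : G) ∈ U <;> by_cases hy : (y : G) ∈ U
    · rw [if_pos hx, if_pos hy, if_pos (mul_mem hx hy), mul_one]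
    · rw [if_pos hx, if_neg hy, if_neg (fun h1 => hy ((mul_mem_cancel_left hx).1 h1)), one_mul]
    · rw [if_neg hx, if_pos hy, if_neg (fun h1 => hx ((mul_mem_cancel_right hy).1 h1)), mul_one]
    · have h1 := (h.mem_ext.1 x.2).resolve_left hx
      have h2 := (h.mem_ext.1 y.2).resolve_left hy
      have h3 := mul_mem (inv_mem h1) h2
      rw [mul_inv_rev, h.ctx.tinv, mul_assoc, ← mul_assoc t t (y : G), h.tsq, one_mul] at h3
      have h4 := h.sq_of_tmul h1
      rw [inv_eq_of_mul_eq_one_right h4] at h3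
      rw [if_neg hx, if_neg hy, if_pos h3]; rfl
  refine absurd_odd_index h.simple h.ctx.torder
    (Nat.odd_iff.2 (Nat.two_dvd_ne_zero.1 hidx)) ε (a := -1) (by decide) (by decide) ?_
  intro x hx hc
  exact hε _ fun hxU => h.not_conj_U hxU hc

theorem exists_tr {d : G} (hd : d ∈ D) :
    ∃ n ∈ normalizer (ext' t U : Set G), tr t i n = d := by
  by_cases hd1 : d = 1
  · exact ⟨1, one_mem _, by rw [hd1]; exact h.tr_cen (one_mem _)⟩
  obtain ⟨n, hn, hn1⟩ := h.exists_moves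
  obtain ⟨w, hwC, -, hwU, -, hwtr⟩ := h.good.lifts
  obtain ⟨k, hk⟩ := hwtr _ (h.tr_mem hn) d hd hn1 hd1
  have hwk := pow_mem (h.lifts_N hwC hwU) k
  exact ⟨w ^ k * n, mul_mem hwk hn, by rw [h.tr_mul hwk hn, h.tr_cen (pow_mem hwC k), one_mul, hk]⟩

/-- All elements of `tU` are conjugate to `t`. -/
theorem exists_conj {u : G} (hu : u ∈ U) :
    ∃ n ∈ normalizer (ext' t U : Set G), n * t * n⁻¹ = t * u := by
  obtain ⟨n, hn, e⟩ := h.exists_tr (h.pow_mem_D hu)
  obtain ⟨v, hv, e'⟩ := h.conj_of_tr hn hu e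
  exact ⟨v⁻¹ * n, mul_mem (inv_mem (h.U_le_N hv)) hn, e'⟩

theorem card_N : ∃ m, Odd m ∧
    Nat.card (normalizer (ext' t U : Set G)) = 2 * Nat.card D * Nat.card U * m := by
  obtain ⟨m, hm, hC⟩ := h.card_inter h.T_le_N
  refine ⟨m, hm, ?_⟩
  rw [card_conj_mul t _ ((fun u => t * u) '' (U : Set G))
    (fun n hn => ⟨_, h.conj_t hn, by
      show t * (t * (n * t * n⁻¹)) = _
      rw [← mul_assoc t t, h.tsq, one_mul]⟩)
    (by rintro _ ⟨u, hu, rfl⟩; exact h.exists_conj hu), hC,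
    Nat.card_image_of_injective (mul_right_injective t)]
  show Nat.card U * _ = _
  ring

/-- A 2-element fixing some point lies in `U⟨t⟩`. -/
theorem fix_mem {x d : G} {k : ℕ} (hx : x ∈ normalizer (ext' t U : Set G)) (hxk : x ^ 2 ^ k = 1)
    (hd : d ∈ D) (hfix : tr t i x * (x * d * x⁻¹) = d) : x ∈ ext' t U := by
  obtain ⟨n, hn, e⟩ := h.exists_tr hd
  have hmem : n⁻¹ * x * n ∈ normalizer (ext' t U : Set G) := mul_mem (mul_mem (inv_mem hn) hx) hn
  have h1 := h.tr_mul hn hmem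
  rw [show n * (n⁻¹ * x * n) = x * n by group, h.tr_mul hx hn, e, hfix, left_eq_mul,
    conj_eq_one_iff] at h1
  have h2 := h.stab_two (k := k) ⟨hmem, h1⟩ (by
    rw [show n⁻¹ * x * n = n⁻¹ * x * n⁻¹⁻¹ by rw [inv_inv], conj_pow, hxk]; group)
  have h3 := (mem_normalizer_iff.1 hn _).1 h2
  rwa [show n * (n⁻¹ * x * n) * n⁻¹ = x by group] at h3

/-- 2-subgroups centralising a conjugate of `t`. -/
theorem cen_bound {c : G} (hc : IsConj t c) {Q : Subgroup G} (hQ : IsPGroup 2 Q)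
    (hQc : ∀ x ∈ Q, x * c = c * x) :
    Nat.card Q ≤ 2 * Nat.card D ∧ ∀ x ∈ Q, x * x = 1 := by
  obtain ⟨g, rfl⟩ := isConj_iff.1 hc
  have hle : Q.map (MulAut.conj g⁻¹).toMonoidHom ≤ centralizer ({t} : Set G) := by
    rintro _ ⟨x, hx, rfl⟩
    refine mem_cen ?_
    simp only [MulEquiv.coe_toMonoidHom, MulAut.conj_apply, inv_inv]
    calc g⁻¹ * x * g * t = g⁻¹ * (x * (g * t * g⁻¹)) * g := by group
      _ = g⁻¹ * ((g * t * g⁻¹) * x) * g := by rw [hQc x hx]
      _ = t * (g⁻¹ * x * g) := by group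
  have hQ' : IsPGroup 2 (Q.map (MulAut.conj g⁻¹).toMonoidHom) := hQ.map _
  refine ⟨?_, fun x hx => ?_⟩
  · rw [← h.ctx.card_T, ← card_map_of_injective (f := (MulAut.conj g⁻¹).toMonoidHom)
      (MulEquiv.injective _) (K := Q)]
    exact h.ctx.card_le hQ' hle
  · obtain ⟨c, -, hin⟩ := h.sylow _ hQ' hle
    have h1 := h.elem.sq (hin _ ⟨x, hx, rfl⟩)
    simp only [MulEquiv.coe_toMonoidHom, MulAut.conj_apply, conj_mul] at h1
    exact conj_eq_one_iff.1 (conj_eq_one_iff.1 h1)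

end Frame

end CfsgLib.Involution.TwoTimesPSL
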