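import Cfsg.Agent.Lib.Involution.TwoTimesPSL.Frame
import Cfsg.Agent.Lib.Involution.TwoTimesPSL.Field

/-!
# Elementary case: a conjugate of `t` acting trivially on `D` enlarges `U`
-/

set_option autoImplicit false
set_option linter.style.haveILetI false
set_option linter.unusedSectionVars false

namespace CfsgLib.Involution.TwoTimesPSL

open Subgroup

variable {G : Type*} [Group G] [Finite G]

/-- An extension `U'` of `U` by a copy of `D`, inside the centraliser of `D`. -/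
structure Ext (t : G) (T D K : Subgroup G) (z : G) (U : Subgroup G) (i : ℕ) (U' : Subgroup G)
    (w : G) : Prop extends Frame t T D K z U i where
  U_le : U ≤ U'
  le_N : U' ≤ normalizer (ext' t U : Set G)
  le_cen : ∀ g ∈ U', ∀ d ∈ D, g * d = d * g
  two' : IsPGroup 2 U'
  tnot' : t ∉ U'
  tr_onto : ∀ d ∈ D, ∃ g ∈ U', tr t i g = d
  comm_mod : ∀ g ∈ U', ∀ g' ∈ U', g * g' * g⁻¹ * g'⁻¹ ∈ U
  sq_mod : ∀ g ∈ U', g * g ∈ U
  wC : w ∈ centralizer ({t} : Set G)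
  wodd : Odd (orderOf w)
  wU : ∀ u ∈ U, w * u * w⁻¹ ∈ U
  wU' : ∀ g ∈ U', w * g * w⁻¹ ∈ U'
  wD : ∀ d ∈ D, w * d * w⁻¹ ∈ D
  wtr : Trans w D

namespace Ext

variable [IsSimpleGroup G] {t z w : G} {T D K U U' : Subgroup G} {i : ℕ}
  (h : Ext t T D K z U i U' w)
include h

theorem wN : w ∈ normalizer (ext' t U : Set G) := h.toFrame.lifts_N h.wC h.wU

theorem tr_hom {g g' : G} (hg : g ∈ U') (hg' : g' ∈ U') :
    tr t i (g * g') = tr t i g * tr t i g' := by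
  rw [h.toFrame.tr_mul (h.le_N hg) (h.le_N hg'),
    h.le_cen g hg _ (h.toFrame.tr_mem (h.le_N hg')), mul_inv_cancel_right]

theorem tr_inv {g : G} (hg : g ∈ U') : tr t i g⁻¹ = (tr t i g)⁻¹ := by
  refine eq_inv_of_mul_eq_one_left ?_
  rw [← h.tr_hom (inv_mem hg) hg, inv_mul_cancel, h.toFrame.tr_cen (one_mem _)]

theorem tr_conj {n : G} (hnC : n ∈ centralizer ({t} : Set G))
    (hn : n ∈ normalizer (ext' t U : Set G)) {g : G} (hg : g ∈ normalizer (ext' t U : Set G)) :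
    tr t i (n * g * n⁻¹) = n * tr t i g * n⁻¹ := by
  rw [h.toFrame.tr_mul (mul_mem hn hg) (inv_mem hn), h.toFrame.tr_cen (inv_mem hnC), mul_one,
    mul_inv_cancel, mul_one, h.toFrame.tr_mul hn hg, h.toFrame.tr_cen hnC, one_mul]

theorem tr_one {g : G} (hg : g ∈ U') (h1 : tr t i g = 1) : g ∈ U := by
  obtain ⟨k, hk⟩ := h.two' ⟨g, hg⟩
  rcases h.toFrame.mem_ext.1
    (h.toFrame.stab_two (k := k) (h.toFrame.mem_stab.2 ⟨h.le_N hg, h1⟩) (congrArg Subtype.val hk))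
    with h2 | h2
  · exact h2
  · exfalso
    apply h.tnot'
    have := mul_mem (h.U_le h2) (inv_mem hg)
    rwa [mul_inv_cancel_right] at this

/-- The conjugation action of `U'` is trivial on `U` modulo squares. -/
theorem pow_conj {g u : G} (hg : g ∈ U') (hu : u ∈ U) :
    (g * u * g⁻¹) ^ 2 ^ i = u ^ 2 ^ i := by
  rw [conj_pow, h.le_cen g hg _ (h.toFrame.pow_mem_D hu), mul_inv_cancel_right]

theorem card_U' : Nat.card U' = Nat.card D * Nat.card U := by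
  classical
  choose f hfU hf using h.tr_onto
  rw [← Nat.card_prod]
  symm
  refine Nat.card_congr (Equiv.ofBijective (fun a : D × U =>
    (⟨f a.1 a.1.2 * a.2, mul_mem (hfU _ _) (h.U_le a.2.2)⟩ : U')) ⟨?_, ?_⟩)
  · rintro ⟨x, u⟩ ⟨y, v⟩ e
    have e' : f x x.2 * (u : G) = f y y.2 * (v : G) := congrArg Subtype.val e
    have hxy : x = y := by
      have := congrArg (tr t i) e'
      rw [h.tr_hom (hfU _ _) (h.U_le u.2), h.tr_hom (hfU _ _) (h.U_le v.2), hf, hf,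
        h.toFrame.tr_U u.2, h.toFrame.tr_U v.2, mul_one, mul_one] at this
      exact Subtype.ext this
    subst hxy
    exact Prod.ext rfl (Subtype.ext (mul_left_cancel e'))
  · rintro ⟨g, hg⟩
    set x : D := ⟨_, h.toFrame.tr_mem (h.le_N hg)⟩
    have hm : (f x x.2)⁻¹ * g ∈ U := h.tr_one (mul_mem (inv_mem (hfU _ _)) hg) (by
      rw [h.tr_hom (inv_mem (hfU _ _)) hg, h.tr_inv (hfU _ _), hf]
      exact inv_mul_cancel _)
    exact ⟨(x, ⟨_, hm⟩), Subtype.ext (mul_inv_cancel_left _ _)⟩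

/-- Alternating equivariant forms on `U'/U` with values in `D` are trivial. -/
theorem form_trivial (B : G → G → G) (hD : ∀ g ∈ U', ∀ g' ∈ U', B g g' ∈ D)
    (hl : ∀ a ∈ U', ∀ b ∈ U', ∀ g ∈ U', B (a * b) g = B a g * B b g)
    (hr : ∀ g ∈ U', ∀ a ∈ U', ∀ b ∈ U', B g (a * b) = B g a * B g b)
    (hUl : ∀ u ∈ U, ∀ g ∈ U', B u g = 1) (hUr : ∀ u ∈ U, ∀ g ∈ U', B g u = 1)
    (heq : ∀ g ∈ U', ∀ g' ∈ U', B (w * g * w⁻¹) (w * g' * w⁻¹) = w * B g g' * w⁻¹)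
    (halt : ∀ g ∈ U', B g g = 1) : ∀ g ∈ U', ∀ g' ∈ U', B g g' = 1 := by
  classical
  have hwn : w ∈ normalizer (D : Set G) := mem_normalizer_of_conj h.wD
  letI : CommGroup D :=
    { (inferInstance : Group D) with
      mul_comm := fun a b => Subtype.ext (h.good.comm a (h.good.le a.2) b (h.good.le b.2)) }
  set σ : MulAut D := normalizerMonoidHom D ⟨w, hwn⟩
  have hσ : ∀ (k : ℕ) (x : D), (((σ ^ k) x : D) : G) = w ^ k * x * (w ^ k)⁻¹ := by
    intro k x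
    rw [← map_pow]
    rfl
  choose f hfU hf using fun x : D => h.tr_onto x x.2
  have hdiff : ∀ g ∈ U', ∀ x : D, tr t i g = x → ∃ u ∈ U, g = f x * u := by
    intro g hg x hx
    refine ⟨(f x)⁻¹ * g, h.tr_one (mul_mem (inv_mem (hfU x)) hg) ?_, by group⟩
    rw [h.tr_hom (inv_mem (hfU x)) hg, h.tr_inv (hfU x), hf, hx, inv_mul_cancel]
  have hB : ∀ g ∈ U', ∀ g' ∈ U', ∀ x y : D, tr t i g = x → tr t i g' = y →
      B g g' = B (f x) (f y) := by
    intro g hg g' hg' x y hx hy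
    obtain ⟨u, hu, rfl⟩ := hdiff g hg x hx
    obtain ⟨v, hv, rfl⟩ := hdiff g' hg' y hy
    rw [hl _ (hfU x) u (h.U_le hu) _ hg', hUl u hu _ hg', mul_one,
      hr _ (hfU x) _ (hfU y) v (h.U_le hv), hUr v hv _ (hfU x), mul_one]
  have key := alternating_equivariant_eq_one (V := D) (fun v => Subtype.ext (h.dsq v v.2)) σ ?_
    (fun x y => ⟨B (f x) (f y), hD _ (hfU x) _ (hfU y)⟩) ?_ ?_ ?_ ?_
  · intro g hg g' hg'
    have := congrArg Subtype.val
      (key ⟨_, h.toFrame.tr_mem (h.le_N hg)⟩ ⟨_, h.toFrame.tr_mem (h.le_N hg')⟩)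
    rw [hB g hg g' hg' ⟨_, h.toFrame.tr_mem (h.le_N hg)⟩ ⟨_, h.toFrame.tr_mem (h.le_N hg')⟩ rfl rfl]
    exact this
  · intro x y hx hy
    obtain ⟨k, hk⟩ := h.wtr x x.2 y y.2 (fun e => hx (Subtype.ext e)) (fun e => hy (Subtype.ext e))
    exact ⟨k, Subtype.ext ((hσ k x).trans hk)⟩
  · intro x x' y
    refine Subtype.ext ?_
    show B (f (x * x')) (f y) = B (f x) (f y) * B (f x') (f y)
    rw [← hl _ (hfU x) _ (hfU x') _ (hfU y),
      hB _ (mul_mem (hfU x) (hfU x')) _ (hfU y) (x * x') y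
        (by rw [h.tr_hom (hfU x) (hfU x'), hf, hf]; rfl) (hf y)]
  · intro x y y'
    refine Subtype.ext ?_
    show B (f x) (f (y * y')) = B (f x) (f y) * B (f x) (f y')
    rw [← hr _ (hfU x) _ (hfU y) _ (hfU y'),
      hB _ (hfU x) _ (mul_mem (hfU y) (hfU y')) x (y * y') (hf x)
        (by rw [h.tr_hom (hfU y) (hfU y'), hf, hf]; rfl)]
  · intro x y
    refine Subtype.ext ?_
    show B (f (σ x)) (f (σ y)) = (σ _ : D)
    have hs : ∀ a : D, ((σ a : D) : G) = w * a * w⁻¹ := fun a => rfl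
    rw [hs]
    show _ = w * B (f x) (f y) * w⁻¹
    rw [← heq _ (hfU x) _ (hfU y), hB _ (h.wU' _ (hfU x)) _ (h.wU' _ (hfU y)) (σ x) (σ y)]
    · rw [h.tr_conj h.wC h.wN (h.le_N (hfU x)), hf]; rfl
    · rw [h.tr_conj h.wC h.wN (h.le_N (hfU y)), hf]; rfl
  · intro x
    exact Subtype.ext (halt _ (hfU x))

/-- No conjugate of `t` lies in `U'`. -/
theorem false_of_mem {c : G} (hc : IsConj t c) (hcU : c ∈ U') : False := by
  classical
  have hcomm : ∀ g ∈ U', ∀ g' ∈ U', (g * g' * g⁻¹ * g'⁻¹) ^ 2 ^ i = 1 := by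
    refine h.form_trivial (fun g g' => (g * g' * g⁻¹ * g'⁻¹) ^ 2 ^ i)
      (fun g hg g' hg' => h.toFrame.pow_mem_D (h.comm_mod g hg g' hg')) ?_ ?_ ?_ ?_ ?_ ?_
    · intro a ha b hb g hg
      rw [show a * b * g * (a * b)⁻¹ * g⁻¹ = a * (b * g * b⁻¹ * g⁻¹) * a⁻¹ * (a * g * a⁻¹ * g⁻¹) by
        group, h.toFrame.pow_mul_pow (h.toFrame.conj_U (h.le_N ha) (h.comm_mod b hb g hg))
        (h.comm_mod a ha g hg), h.pow_conj ha (h.comm_mod b hb g hg)]
      exact h.good.comm _ (h.good.le (h.toFrame.pow_mem_D (h.comm_mod b hb g hg))) _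
        (h.good.le (h.toFrame.pow_mem_D (h.comm_mod a ha g hg)))
    · intro g hg a ha b hb
      rw [show g * (a * b) * g⁻¹ * (a * b)⁻¹ = (g * a * g⁻¹ * a⁻¹) * (a * (g * b * g⁻¹ * b⁻¹) * a⁻¹) by
        group, h.toFrame.pow_mul_pow (h.comm_mod g hg a ha)
        (h.toFrame.conj_U (h.le_N ha) (h.comm_mod g hg b hb)), h.pow_conj ha (h.comm_mod g hg b hb)]
    · intro u hu g hg
      rw [show u * g * u⁻¹ * g⁻¹ = u * (g * u⁻¹ * g⁻¹) by group,
        h.toFrame.pow_mul_pow hu (h.toFrame.conj_U (h.le_N hg) (inv_mem hu)),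
        h.pow_conj hg (inv_mem hu), inv_pow, mul_inv_cancel]
    · intro u hu g hg
      rw [h.toFrame.pow_mul_pow (h.toFrame.conj_U (h.le_N hg) hu) (inv_mem hu),
        h.pow_conj hg hu, inv_pow, mul_inv_cancel]
    · intro g _ g' _
      rw [show w * g * w⁻¹ * (w * g' * w⁻¹) * (w * g * w⁻¹)⁻¹ * (w * g' * w⁻¹)⁻¹ =
        w * (g * g' * g⁻¹ * g'⁻¹) * w⁻¹ by group, conj_pow]
    · intro g _
      rw [mul_inv_cancel_right, mul_inv_cancel, one_pow]
  set X : Set G := {x | ∃ g ∈ U', x = g * c * g⁻¹}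
  have hcnt := card_conj_mul c U' X (fun g hg => ⟨g, hg, rfl⟩) (fun x ⟨g, hg, e⟩ => ⟨g, hg, e.symm⟩)
  have hb := (h.toFrame.cen_bound hc (h.two'.to_inf_left (K := centralizer ({c} : Set G)))
    (fun x hx => comm_of_mem hx.2)).1
  have hX : Nat.card X ≤ Nat.card (Frame.sqs t U) := by
    have key : ∀ x : X, t * ((x : G) * c⁻¹) ∈ Frame.sqs t U := by
      rintro ⟨x, g, hg, rfl⟩
      obtain ⟨v, hv, e⟩ := h.toFrame.pow_ker (h.comm_mod g hg c hcU) (hcomm g hg c hcU)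
      exact ⟨v, hv, by rw [e]⟩
    refine Nat.card_le_card_of_injective (fun x => (⟨_, key x⟩ : Frame.sqs t U)) ?_
    intro x y e
    exact Subtype.ext (mul_right_cancel (mul_left_cancel (congrArg Subtype.val e)))
  have h1 : Nat.card U' * Nat.card D ≤ Nat.card U * (2 * Nat.card D) := by
    rw [← h.toFrame.card_sqs, hcnt,
      mul_right_comm]
    exact Nat.mul_le_mul (Nat.mul_le_mul_right _ hX) hb
  rw [h.card_U'] at h1
  have h4 := h.dcard
  have hpos := Nat.card_pos (α := U)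
  have h5 : Nat.card D * Nat.card U ≤ 2 * Nat.card U :=
    Nat.le_of_mul_le_mul_right (h1.trans (le_of_eq (by ring))) Nat.card_pos
  have := Nat.le_of_mul_le_mul_right h5 hpos
  omega

/-- If `t c` lies in `U'` for a conjugate `c` of `t`, then `U'` is good. -/
theorem good_of_tmul {c : G} (hc : IsConj t c) (hcN : c ∈ normalizer (ext' t U : Set G))
    (hcR : c ∉ ext' t U) (hcD : ∀ d ∈ D, c * d * c⁻¹ = d) (hv : t * c ∈ U') : Good t D U' := by
  classical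
  have hcc : c * c = 1 := by
    obtain ⟨g, rfl⟩ := isConj_iff.1 hc
    rw [conj_mul, h.tsq]; group
  have hci : c⁻¹ = c := inv_eq_of_mul_eq_one_right hcc
  set v := t * c with hvdef
  have htv : tr t i v = tr t i c := by
    rw [h.toFrame.tr_mul (h.toFrame.T_le_N h.tT) hcN, h.toFrame.tr_cen h.ctx.tC, one_mul,
      ← comm_of_mem (h.ctx.D_le_C (h.toFrame.tr_mem hcN)), mul_inv_cancel_right]
  have hvv : (v * v) ^ 2 ^ i = tr t i c := by
    rw [tr, hci]; congr 1; simp only [hvdef, mul_assoc]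
  have hc1 : tr t i c ≠ 1 := fun e => hcR (h.toFrame.stab_two (k := 1)
    (h.toFrame.mem_stab.2 ⟨hcN, e⟩) (by rw [pow_one, pow_two, hcc]))
  have hwk : ∀ (k : ℕ), ∀ g ∈ U', w ^ k * g * (w ^ k)⁻¹ ∈ U' := conj_pow_mem h.wU'
  have hdec : ∀ g ∈ U', g ∈ U ∨ ∃ k : ℕ, ∃ u ∈ U, g = w ^ k * v * (w ^ k)⁻¹ * u := by
    intro g hg
    by_cases h1 : tr t i g = 1
    · exact Or.inl (h.tr_one hg h1)
    right
    obtain ⟨k, hk⟩ := h.wtr _ (h.toFrame.tr_mem hcN) _ (h.toFrame.tr_mem (h.le_N hg)) hc1 h1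
    have hm := hwk k v hv
    refine ⟨k, (w ^ k * v * (w ^ k)⁻¹)⁻¹ * g, h.tr_one (mul_mem (inv_mem hm) hg) ?_,
      (mul_inv_cancel_left _ _).symm⟩
    rw [h.tr_hom (inv_mem hm) hg, h.tr_inv hm, h.tr_conj (pow_mem h.wC k) (pow_mem h.wN k)
      (h.le_N hv), htv, hk, inv_mul_cancel]
  have hsq : ∀ g ∈ U', (g * g) ^ 2 ^ i = tr t i g := by
    intro g hg
    rcases hdec g hg with hu | ⟨k, u, hu, rfl⟩
    · rw [h.toFrame.tr_U hu, ← pow_two, ← pow_mul, ← pow_succ']; exact h.expo g hu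
    · have hm := hwk k v hv
      set a := w ^ k * v * (w ^ k)⁻¹ with ha
      have ha2 : (a * a) ^ 2 ^ i = tr t i a := by
        rw [ha, conj_mul, conj_pow, hvv, h.tr_conj (pow_mem h.wC k) (pow_mem h.wN k) (h.le_N hv), htv]
      rw [show a * u * (a * u) = a * a * ((a⁻¹ * u * a⁻¹⁻¹) * u) by group,
        h.toFrame.pow_mul_pow (h.sq_mod a hm) (mul_mem (h.toFrame.conj_U (inv_mem (h.le_N hm)) hu) hu),
        h.toFrame.pow_mul_pow (h.toFrame.conj_U (inv_mem (h.le_N hm)) hu) hu,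
        h.pow_conj (inv_mem hm) hu, h.dsq _ (h.toFrame.pow_mem_D hu), mul_one, ha2,
        h.tr_hom hm (h.U_le hu), h.toFrame.tr_U hu, mul_one]
  -- `U'` centralises `U` modulo `D`
  have hvU : ∀ u ∈ U, v * u * v⁻¹ * u⁻¹ ∈ D := by
    intro u hu
    have hcu := h.toFrame.conj_U hcN hu
    set x := u * (c * u * c⁻¹) with hx
    have h1 : x * c = c * x := by
      refine mul_inv_eq_iff_eq_mul.mp ?_ |>.symm
      calc c * x * c⁻¹ = (c * u * c⁻¹) * ((c * c) * u * (c * c)⁻¹) := by rw [hx]; group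
        _ = (c * u * c⁻¹) * u := by rw [hcc]; group
        _ = _ := h.good.comm _ hcu _ hu
    have hxU : x ∈ U := mul_mem hu hcu
    have h2 := (h.toFrame.cen_bound hc (two_group_zpowers (h.expo x hxU)) (by
      rintro _ ⟨j, rfl⟩
      exact (Commute.zpow_left (show Commute x c from h1) j).eq)).2 x (mem_zpowers x)
    have hxD := h.toFrame.sq_mem_D hxU h2
    have h3 : v * u * v⁻¹ = (c * u * c⁻¹)⁻¹ := by
      rw [← h.good.inv _ hcu, hvdef, mul_inv_rev, h.ctx.tinv]; group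
    rw [h3, show (c * u * c⁻¹)⁻¹ * u⁻¹ = x⁻¹ by rw [hx]; group]
    exact inv_mem hxD
  have hgU : ∀ g ∈ U', ∀ u ∈ U, g * u * g⁻¹ * u⁻¹ ∈ D := by
    intro g hg u hu
    rcases hdec g hg with hu' | ⟨k, x, hx, rfl⟩
    · rw [h.good.comm g hu' u hu, mul_inv_cancel_right, mul_inv_cancel]; exact one_mem _
    · set q := w ^ k with hq
      have hqN : q ∈ normalizer (ext' t U : Set G) := pow_mem h.wN k
      have h1 : q * v * q⁻¹ * x * u * (q * v * q⁻¹ * x)⁻¹ * u⁻¹ =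
          q * (v * (q⁻¹ * (x * u * x⁻¹) * q⁻¹⁻¹) * v⁻¹ * (q⁻¹ * (x * u * x⁻¹) * q⁻¹⁻¹)⁻¹) * q⁻¹ *
            ((x * u * x⁻¹) * u⁻¹) := by group
      rw [h1, h.good.comm x hx u hu, mul_inv_cancel_right, mul_inv_cancel, mul_one]
      exact conj_pow_mem h.wD k _ (hvU _ (h.toFrame.conj_U (inv_mem hqN) hu))
  choose root hroot hrootpow using fun d : D => h.toFrame.pow_surj d.2
  have hdep : ∀ g ∈ U', ∀ u ∈ U, ∀ u' ∈ U, u ^ 2 ^ i = u' ^ 2 ^ i →
      g * u * g⁻¹ * u⁻¹ = g * u' * g⁻¹ * u'⁻¹ := by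
    intro g hg u hu u' hu' e
    obtain ⟨y, hy, hyy⟩ := h.toFrame.pow_ker (mul_mem (inv_mem hu) hu') (by
      rw [h.toFrame.pow_mul_pow (inv_mem hu) hu', inv_pow, e, inv_mul_cancel])
    have hu'' : u' = u * (y * y) := by rw [hyy, mul_inv_cancel_left]
    subst hu''
    have hd := hgU g hg y hy
    set d := g * y * g⁻¹ * y⁻¹ with hddef
    have hgy : g * y * g⁻¹ = d * y := by rw [hddef, inv_mul_cancel_right]
    have hdy : d * y = y * d := h.good.comm d (h.good.le hd) y hy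
    have hgyy : g * (y * y) * g⁻¹ = y * y := by
      rw [← conj_mul, hgy]
      calc d * y * (d * y) = d * (y * d) * y := by group
        _ = d * d * (y * y) := by rw [← hdy]; group
        _ = _ := by rw [h.dsq d hd, one_mul]
    calc g * u * g⁻¹ * u⁻¹ = g * u * g⁻¹ * (y * y) * (y * y)⁻¹ * u⁻¹ := by group
      _ = g * u * g⁻¹ * (g * (y * y) * g⁻¹) * (y * y)⁻¹ * u⁻¹ := by rw [hgyy]
      _ = _ := by group
  let rt : G → G := fun g => if hg : g ∈ U' then root ⟨_, h.toFrame.tr_mem (h.le_N hg)⟩ else 1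
  have hrt : ∀ g ∈ U', rt g ∈ U ∧ (rt g) ^ 2 ^ i = tr t i g := fun g hg => by
    simp only [rt, dif_pos hg]; exact ⟨hroot _, hrootpow _⟩
  have hA1 := h.form_trivial (fun g g' => g * rt g' * g⁻¹ * (rt g')⁻¹)
    (fun g hg g' hg' => hgU g hg _ (hrt g' hg').1) ?_ ?_ ?_ ?_ ?_ ?_
  rotate_left
  · intro a ha b hb g hg
    set r := rt g
    have hd := hgU b hb r (hrt g hg).1
    show a * b * r * (a * b)⁻¹ * r⁻¹ = _
    rw [show a * b * r * (a * b)⁻¹ * r⁻¹ = a * (b * r * b⁻¹ * r⁻¹) * a⁻¹ * (a * r * a⁻¹ * r⁻¹) by group,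
      h.le_cen a ha _ hd, mul_inv_cancel_right]
    exact h.good.comm _ (h.good.le hd) _ (h.good.le (hgU a ha r (hrt g hg).1))
  · intro g hg a ha b hb
    show g * rt (a * b) * g⁻¹ * (rt (a * b))⁻¹ = _
    rw [hdep g hg _ (hrt _ (mul_mem ha hb)).1 (rt a * rt b) (mul_mem (hrt a ha).1 (hrt b hb).1) (by
      rw [h.toFrame.pow_mul_pow (hrt a ha).1 (hrt b hb).1, (hrt _ (mul_mem ha hb)).2, (hrt a ha).2,
        (hrt b hb).2, h.tr_hom ha hb])]
    have hd := hgU g hg _ (hrt b hb).1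
    rw [show g * (rt a * rt b) * g⁻¹ * (rt a * rt b)⁻¹ =
      (g * rt a * g⁻¹ * (rt a)⁻¹) * (rt a * (g * rt b * g⁻¹ * (rt b)⁻¹) * (rt a)⁻¹) by group,
      h.good.comm _ (hrt a ha).1 _ (h.good.le hd), mul_inv_cancel_right]
  · intro u hu g hg
    show u * rt g * u⁻¹ * (rt g)⁻¹ = 1
    rw [h.good.comm u hu _ (hrt g hg).1, mul_inv_cancel_right, mul_inv_cancel]
  · intro u hu g hg
    show g * rt u * g⁻¹ * (rt u)⁻¹ = 1
    rw [hdep g hg _ (hrt u (h.U_le hu)).1 1 (one_mem _) (by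
      rw [(hrt u (h.U_le hu)).2, h.toFrame.tr_U hu, one_pow])]
    group
  · intro g hg g' hg'
    show w * g * w⁻¹ * rt (w * g' * w⁻¹) * (w * g * w⁻¹)⁻¹ * (rt (w * g' * w⁻¹))⁻¹ =
      w * (g * rt g' * g⁻¹ * (rt g')⁻¹) * w⁻¹
    rw [hdep _ (h.wU' g hg) _ (hrt _ (h.wU' g' hg')).1 (w * rt g' * w⁻¹) (h.wU _ (hrt g' hg').1) (by
      rw [conj_pow, (hrt g' hg').2, (hrt _ (h.wU' g' hg')).2, h.tr_conj h.wC h.wN (h.le_N hg')])]
    group
  · intro g hg
    show g * rt g * g⁻¹ * (rt g)⁻¹ = 1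
    rw [hdep g hg _ (hrt g hg).1 (g * g) (h.sq_mod g hg) (by rw [(hrt g hg).2, hsq g hg])]
    group
  have hcen : ∀ g ∈ U', ∀ u ∈ U, g * u = u * g := by
    intro g hg u hu
    obtain ⟨g', hg', e⟩ := h.tr_onto _ (h.toFrame.pow_mem_D hu)
    have h1 := hA1 g hg g' hg'
    rw [hdep g hg _ (hrt g' hg').1 u hu (by rw [(hrt g' hg').2, e])] at h1
    exact mul_inv_eq_iff_eq_mul.mp (mul_inv_eq_one.1 h1)
  have hA2 := h.form_trivial (fun g g' => g * g' * g⁻¹ * g'⁻¹) ?_ ?_ ?_ ?_ ?_ ?_ ?_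
  rotate_left
  · intro g hg g' hg'
    set x := g * g' * g⁻¹ * g'⁻¹ with hx
    have hxU := h.comm_mod g hg g' hg'
    refine h.toFrame.sq_mem_D hxU ?_
    have h1 : g * (g * g' * g⁻¹ * g'⁻¹) * g⁻¹ * (g * g' * g⁻¹ * g'⁻¹) = g * g * g' * (g * g)⁻¹ * g'⁻¹ := by
      group
    rw [← hx, hcen g hg x hxU, mul_inv_cancel_right] at h1
    rw [h1, ← hcen g' hg' _ (h.sq_mod g hg), mul_inv_cancel_right, mul_inv_cancel]
  · intro a ha b hb g hg
    show a * b * g * (a * b)⁻¹ * g⁻¹ = _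
    have hx := h.comm_mod b hb g hg
    rw [show a * b * g * (a * b)⁻¹ * g⁻¹ = a * (b * g * b⁻¹ * g⁻¹) * a⁻¹ * (a * g * a⁻¹ * g⁻¹) by group,
      hcen a ha _ hx, mul_inv_cancel_right]
    exact h.good.comm _ hx _ (h.comm_mod a ha g hg)
  · intro g hg a ha b hb
    show g * (a * b) * g⁻¹ * (a * b)⁻¹ = _
    rw [show g * (a * b) * g⁻¹ * (a * b)⁻¹ = (g * a * g⁻¹ * a⁻¹) * (a * (g * b * g⁻¹ * b⁻¹) * a⁻¹) by
      group, hcen a ha _ (h.comm_mod g hg b hb), mul_inv_cancel_right]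
  · intro u hu g hg
    show u * g * u⁻¹ * g⁻¹ = 1
    rw [← hcen g hg u hu, mul_inv_cancel_right, mul_inv_cancel]
  · intro u hu g hg
    show g * u * g⁻¹ * u⁻¹ = 1
    rw [hcen g hg u hu, mul_inv_cancel_right, mul_inv_cancel]
  · intro g _ g' _
    group
  · intro g _
    show g * g * g⁻¹ * g⁻¹ = 1
    rw [mul_inv_cancel_right, mul_inv_cancel]
  have hab : ∀ g ∈ U', ∀ g' ∈ U', g * g' = g' * g := fun g hg g' hg' =>
    mul_inv_eq_iff_eq_mul.mp (mul_inv_eq_one.1 (hA2 g hg g' hg'))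
  refine ⟨h.two', h.good.le.trans h.U_le, hab, h.tnot', fun g hg => ?_,
    w, h.wC, h.wodd, h.wU', h.wD, h.wtr⟩
  rcases hdec g hg with hu | ⟨k, u, hu, rfl⟩
  · exact h.good.inv g hu
  · set q := w ^ k
    have hq : q * t = t * q := comm_of_mem (pow_mem h.wC k)
    have h1 : t * (q * v * q⁻¹) * t = (q * v * q⁻¹)⁻¹ := by
      calc t * (q * v * q⁻¹) * t = (t * q) * v * (q⁻¹ * t) := by group
        _ = q * t * v * (t * q⁻¹) := by rw [← hq, comm_of_mem (inv_mem (pow_mem h.wC k))]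
        _ = q * (t * v * t) * q⁻¹ := by group
        _ = (q * v * q⁻¹)⁻¹ := by
          rw [show t * v * t = v⁻¹ by
            rw [hvdef, ← mul_assoc t t c, h.tsq, one_mul, mul_inv_rev, h.ctx.tinv, hci]]
          group
    calc t * (q * v * q⁻¹ * u) * t = t * (q * v * q⁻¹) * (t * t) * u * t := by rw [h.tsq]; group
      _ = (t * (q * v * q⁻¹) * t) * (t * u * t) := by group
      _ = (u * (q * v * q⁻¹))⁻¹ := by rw [h1, h.good.inv u hu]; group
      _ = _ := by rw [hab u (h.U_le hu) _ (hwk k v hv)]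

end Ext

end CfsgLib.Involution.TwoTimesPSL
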