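import Cfsg.Agent.Lib.Involution.TwoTimesPSL.Transfer

/-!
# A doubly transitive group with an odd point stabiliser has an odd class of involutions
-/

set_option autoImplicit false
set_option linter.style.haveILetI false

namespace CfsgLib.Involution.TwoTimesPSL

theorem odd_sqrt_one {A : Type*} [Group A] [Finite A] {g : A} (hg : g * g = 1) (hg1 : g ≠ 1) :
    Odd (Nat.card {x : A // x * x = 1 ∧ x ≠ 1}) := by
  classical
  haveI := Fintype.ofFinite A
  set σ : Equiv.Perm A := Equiv.inv A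
  have hσ : σ * σ = 1 := Equiv.ext fun x => inv_inv x
  obtain ⟨k, hk, -⟩ := sign_involution σ hσ
  have heven : Even (Fintype.card A) := by
    rw [← Nat.card_eq_fintype_card, even_iff_two_dvd,
      ← orderOf_eq_prime (show g ^ 2 = 1 by rw [pow_two, hg]) hg1]
    exact orderOf_dvd_natCard g
  have hset : Finset.univ.filter (fun x : A => x * x = 1) = σ.supportᶜ := by
    ext x
    simp only [Finset.mem_filter, Finset.mem_univ, true_and, Finset.mem_compl,
      Equiv.Perm.mem_support, ne_eq, not_not, σ, Equiv.inv_apply]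
    exact ⟨fun h => inv_eq_of_mul_eq_one_right h, fun h => mul_eq_one_iff_inv_eq.2 h⟩
  have hone : Finset.univ.filter (fun x : A => x * x = 1 ∧ x ≠ 1) =
      (Finset.univ.filter (fun x : A => x * x = 1)).erase 1 := by
    ext x; simp [and_comm]
  rw [Nat.card_eq_fintype_card, Fintype.card_subtype, hone,
    Finset.card_erase_of_mem (by simp), hset, Finset.card_compl, hk]
  have hle := Finset.card_le_univ σ.support
  have hpos : 0 < (σ.supportᶜ).card := Finset.card_pos.2 ⟨1, by simp [σ]⟩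
  rw [Finset.card_compl] at hpos
  obtain ⟨j, hj⟩ := heven
  rw [Nat.odd_iff]
  omega

theorem odd_class {α : Type*} [Finite α] (A : Subgroup (Equiv.Perm α))
    (htr : ∀ x y : α, ∃ a ∈ A, a x = y) (a₀ : α)
    (hstab : ∀ s ∈ A, s a₀ = a₀ → Odd (orderOf s))
    (htr2 : ∀ b b', b ≠ a₀ → b' ≠ a₀ → ∃ s ∈ A, s a₀ = a₀ ∧ s b = b')
    {g : Equiv.Perm α} (hg : g ∈ A) (hg2 : g * g = 1) (hg1 : g ≠ 1) :
    Odd (Nat.card {x : Equiv.Perm α // ∃ a ∈ A, a * g * a⁻¹ = x}) := by
  have hfree : ∀ h ∈ A, h * h = 1 → h ≠ 1 → ∀ x, h x ≠ x := by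
    intro h hh h2 h1 x hx
    obtain ⟨a, ha, hax⟩ := htr x a₀
    have hm : a * h * a⁻¹ ∈ A := mul_mem (mul_mem ha hh) (inv_mem ha)
    have hfix : (a * h * a⁻¹) a₀ = a₀ := by
      rw [← hax]; simp [hx]
    have hord : orderOf (a * h * a⁻¹) = 2 := orderOf_eq_prime
      (by rw [pow_two, conj_mul, h2]; group) (fun e => h1 (conj_eq_one_iff.1 e))
    have := hstab _ hm hfix
    rw [hord] at this
    exact absurd this (by decide)
  have hclass : ∀ h ∈ A, h * h = 1 → h ≠ 1 → ∃ a ∈ A, a * g * a⁻¹ = h := by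
    intro h hh h2 h1
    obtain ⟨s, hs, hs0, hsb⟩ := htr2 (g a₀) (h a₀) (hfree g hg hg2 hg1 a₀) (hfree h hh h2 h1 a₀)
    set g' := s * g * s⁻¹
    have hg'm : g' ∈ A := mul_mem (mul_mem hs hg) (inv_mem hs)
    have hg'2 : g' * g' = 1 := by simp only [g', conj_mul, hg2]; group
    have hs0' : s⁻¹ a₀ = a₀ := by rw [Equiv.Perm.inv_eq_iff_eq, hs0]
    have hg'0 : g' a₀ = h a₀ := by
      simp only [g', Equiv.Perm.mul_apply, hs0', hsb]
    have hfix : (g' * h) a₀ = a₀ := by
      rw [Equiv.Perm.mul_apply, ← hg'0]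
      exact Equiv.ext_iff.1 hg'2 a₀
    obtain ⟨w, hw, e⟩ := exists_conj_of_odd_mul hg'2 h2 (hstab _ (mul_mem hg'm hh) hfix)
    refine ⟨w * s, mul_mem ((Subgroup.zpowers_le.2 (mul_mem hg'm hh)) hw) hs, ?_⟩
    rw [← e]; simp only [g']; group
  have hA : Odd (Nat.card {x : A // x * x = 1 ∧ x ≠ 1}) :=
    odd_sqrt_one (g := (⟨g, hg⟩ : A)) (Subtype.ext hg2) (fun e => hg1 (congrArg Subtype.val e))
  refine Nat.card_congr ?_ ▸ hA
  exact
    { toFun := fun x => ⟨x.1, hclass x.1 x.1.2 (congrArg Subtype.val x.2.1)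
        (fun e => x.2.2 (Subtype.ext e))⟩
      invFun := fun x => ⟨⟨x.1, by
          obtain ⟨a, ha, e⟩ := x.2
          rw [← e]; exact mul_mem (mul_mem ha hg) (inv_mem ha)⟩, Subtype.ext (by
          obtain ⟨a, ha, e⟩ := x.2
          show x.1 * x.1 = 1
          rw [← e, conj_mul, hg2]; group), fun h => by
          obtain ⟨a, ha, e⟩ := x.2
          exact hg1 (conj_eq_one_iff.1 (e.trans (congrArg Subtype.val h)))⟩
      left_inv := fun x => rfl
      right_inv := fun x => rfl }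

end CfsgLib.Involution.TwoTimesPSL
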