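import Cfsg.Agent.Lib.Involution.TwoTimesPSL.Frame
import Cfsg.Agent.Lib.Involution.TwoTimesPSL.OddClass

/-!
# Elementary case: conjugates of `t` in the normaliser act trivially on `D`
-/

set_option autoImplicit false
set_option linter.style.haveILetI false
set_option linter.unusedSectionVars false

namespace CfsgLib.Involution.TwoTimesPSL

open Subgroup

variable {G : Type*} [Group G] [Finite G] [IsSimpleGroup G]

namespace Frame

variable {t z : G} {T D K U : Subgroup G} {i : ℕ} (h : Frame t T D K z U i)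
include h

variable {c : G} (hcN : c ∈ normalizer (ext' t U : Set G)) (hc : IsConj t c) (hcR : c ∉ ext' t U)
include hcN hc hcR

theorem csq : c * c = 1 := by
  obtain ⟨g, rfl⟩ := isConj_iff.1 hc
  rw [conj_mul, h.tsq]; group

theorem nofix {d : G} (hd : d ∈ D) : tr t i c * (c * d * c⁻¹) ≠ d := fun e =>
  hcR (h.fix_mem (k := 1) hcN (by rw [pow_one, pow_two, h.csq hcN hc hcR]) hd e)

theorem fix_D_of_pos (hi : i ≠ 0) {d : G} (hd : d ∈ D) : c * d * c⁻¹ = d := by
  have hcc := h.csq hcN hc hcR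
  have hci : c⁻¹ = c := inv_eq_of_mul_eq_one_right hcc
  obtain ⟨u, hu, rfl⟩ := h.pow_surj hd
  set w := u * (c * u * c⁻¹) with hw
  have hcu := h.conj_U hcN hu
  have hwU : w ∈ U := mul_mem hu hcu
  have hwc : ∀ x ∈ zpowers w, x * c = c * x := by
    have h1 : w * c = c * w := by
      rw [hw, ← mul_inv_eq_iff_eq_mul.mp (show c * (u * (c * u * c⁻¹)) * c⁻¹ = u * (c * u * c⁻¹) by
        calc c * (u * (c * u * c⁻¹)) * c⁻¹ = (c * u * c⁻¹) * ((c * c) * u * (c * c)⁻¹) := by group
          _ = (c * u * c⁻¹) * u := by rw [hcc]; group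
          _ = _ := h.good.comm _ hcu _ hu)]
    rintro _ ⟨k, rfl⟩
    exact (Commute.zpow_left (show Commute w c from h1) k).eq
  have h2 := (h.cen_bound hc (two_group_zpowers (h.expo w hwU)) hwc).2 w (mem_zpowers w)
  have h3 : w ^ 2 ^ i = 1 := by
    obtain ⟨j, rfl⟩ := Nat.exists_eq_succ_of_ne_zero hi
    rw [pow_succ', pow_mul, pow_two, h2, one_pow]
  rw [hw, h.pow_mul_pow hu hcu, conj_pow] at h3
  have h4 := inv_eq_of_mul_eq_one_right h3
  rw [inv_eq_of_mul_eq_one_right (h.dsq _ hd)] at h4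
  exact h4.symm

theorem fix_D_zero (hi : i = 0) {d : G} (hd : d ∈ D) : c * d * c⁻¹ = d := by
  classical
  haveI : Fact (Nat.Prime 2) := ⟨Nat.prime_two⟩
  by_contra hne
  subst hi
  have hUD : U = D := le_antisymm (fun u hu => h.sq_mem_D hu (by
    have := h.expo u hu; rwa [zero_add, pow_one, pow_two] at this)) h.good.le
  have hRT : ext' t U = T := by
    ext x
    rw [h.mem_ext, hUD]
    refine ⟨?_, fun hx => h.split x hx⟩
    rintro (hx | hx)
    · exact h.ctx.D_le_T hx
    · have := mul_mem h.tT (h.ctx.D_le_T hx)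
      rwa [← mul_assoc, h.tsq, one_mul] at this
  set N := normalizer (ext' t U : Set G) with hN
  -- the affine action
  let f : N → D → D := fun n x => ⟨tr t 0 n * ((n : G) * x * (n : G)⁻¹),
    mul_mem (h.tr_mem n.2) (h.conj_D n.2 x.2)⟩
  have fmul : ∀ (m n : N) (x : D), f (m * n) x = f m (f n x) := by
    intro m n x
    refine Subtype.ext ?_
    simp only [f, Subgroup.coe_mul]
    rw [h.tr_mul m.2 n.2]; group
  have fone : ∀ x : D, f 1 x = x := fun x => Subtype.ext (by
    simp only [f, OneMemClass.coe_one, h.tr_cen (one_mem _)]; group)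
  let ψ : N →* Equiv.Perm D :=
    { toFun := fun n =>
        { toFun := f n, invFun := f n⁻¹,
          left_inv := fun x => by rw [← fmul, inv_mul_cancel, fone],
          right_inv := fun x => by rw [← fmul, mul_inv_cancel, fone] }
      map_one' := Equiv.ext fone
      map_mul' := fun m n => Equiv.ext fun x => fmul m n x }
  have hψ : ∀ (n : N) (x : D), ((ψ n x : D) : G) = tr t 0 n * ((n : G) * x * (n : G)⁻¹) :=
    fun n x => rfl
  have hψT : ∀ n : N, (n : G) ∈ T → ψ n = 1 := by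
    intro n hn
    refine Equiv.ext fun x => Subtype.ext ?_
    rw [hψ, h.tr_cen (h.T_le hn), one_mul, h.elem.commT hn (h.ctx.D_le_T x.2), mul_inv_cancel_right]
    rfl
  set g := ψ ⟨c, hcN⟩ with hgdef
  have hcc := h.csq hcN hc hcR
  have hg2 : g * g = 1 := by
    rw [hgdef, ← map_mul, show (⟨c, hcN⟩ : N) * ⟨c, hcN⟩ = 1 from Subtype.ext hcc, map_one]
  have hg1 : g ≠ 1 := fun e => h.nofix hcN hc hcR D.one_mem (by
    have := congrArg Subtype.val (Equiv.ext_iff.1 e 1)
    rwa [hgdef, hψ] at this)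
  have htr0 : ∀ x : D, ∃ n : N, ψ n 1 = x := fun x => by
    obtain ⟨n, hn, e⟩ := h.exists_tr x.2
    refine ⟨⟨n, hn⟩, Subtype.ext ?_⟩
    rw [hψ, e]; simp
  have hodd := odd_class ψ.range (fun x y => by
      obtain ⟨a, ha⟩ := htr0 x
      obtain ⟨b, hb⟩ := htr0 y
      refine ⟨ψ (b * a⁻¹), ⟨_, rfl⟩, ?_⟩
      rw [map_mul, map_inv, Equiv.Perm.mul_apply, Equiv.Perm.inv_eq_iff_eq.2 ha.symm, hb])
    1 (by
      rintro _ ⟨n, rfl⟩ hfix
      obtain ⟨a, b, hb, hab⟩ := Nat.exists_eq_two_pow_mul_odd (orderOf_pos n).ne'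
      refine hb.of_dvd_nat (orderOf_dvd_of_pow_eq_one ?_)
      rw [← map_pow]
      have h0 : tr t 0 n = 1 := by
        have := congrArg Subtype.val hfix
        rw [hψ] at this
        simpa using this
      have h1 : ((n ^ b : N) : G) ∈ ext' t U := by
        refine h.stab_two (k := a) ?_ ?_
        · rw [SubgroupClass.coe_pow]; exact pow_mem (h.mem_stab.2 ⟨n.2, h0⟩) b
        · rw [← SubgroupClass.coe_pow, ← pow_mul, mul_comm, ← hab, pow_orderOf_eq_one]; rfl
      exact hψT _ (hRT ▸ h1))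
    (fun x y hx hy => by
      obtain ⟨w, hwC, -, hwU, -, hwtr⟩ := h.good.lifts
      obtain ⟨k, hk⟩ := hwtr x x.2 y y.2 (fun e => hx (Subtype.ext e)) (fun e => hy (Subtype.ext e))
      have hwk := pow_mem (h.lifts_N hwC hwU) k
      refine ⟨ψ ⟨_, hwk⟩, ⟨_, rfl⟩, Subtype.ext ?_, Subtype.ext ?_⟩
      · rw [hψ, h.tr_cen (pow_mem hwC k)]; simp
      · rw [hψ, h.tr_cen (pow_mem hwC k), one_mul, hk])
    (g := g) ⟨_, rfl⟩ hg2 hg1
  -- a Sylow subgroup centralising `c` modulo the kernel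
  set M₀ := (centralizer ({g} : Set (Equiv.Perm D))).comap ψ with hM₀
  have hM₀i : Odd M₀.index := by
    rw [hM₀, index_comap]
    have h1 := card_conj_mul g ψ.range {x | ∃ a ∈ ψ.range, a * g * a⁻¹ = x}
      (fun a ha => ⟨a, ha, rfl⟩) (fun x hx => hx)
    have h2 := relIndex_mul_relIndex ⊥ (ψ.range ⊓ centralizer ({g} : Set (Equiv.Perm D))) ψ.range
      bot_le inf_le_left
    rw [relIndex_bot_left, relIndex_bot_left, inf_relIndex_left] at h2
    rw [mul_comm] at h2
    have h3 := Nat.eq_of_mul_eq_mul_right Nat.card_pos (h2.trans h1)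
    rw [h3]; exact hodd
  set M := M₀.map N.subtype with hMdef
  have hcM : c ∈ M := ⟨⟨c, hcN⟩, mem_cen rfl, rfl⟩
  obtain ⟨P, hP, hcP⟩ := IsSyl.exists_ge (two_group_zpowers (x := c) (k := 1)
    (by rw [pow_one, pow_two, hcc])) (zpowers_le.2 hcM)
  have hMN : M ≤ N := map_subtype_le _
  have hMi : M.relIndex N = M₀.index := by
    rw [relIndex, subgroupOf, hMdef, comap_map_eq_self_of_injective (subtype_injective N)]
  have hPN : IsSyl N P := ⟨hP.le.trans hMN, hP.two, by
    rw [← relIndex_mul_relIndex _ _ _ hP.le hMN, hMi]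
    intro h2
    rcases Nat.prime_two.dvd_mul.1 h2 with h3 | h3
    · exact hP.odd h3
    · exact (Nat.not_even_iff_odd.2 hM₀i) (even_iff_two_dvd.2 h3)⟩
  obtain ⟨m, hm, hNc⟩ := h.card_N
  obtain ⟨f₀, hf₀⟩ := IsPGroup.iff_card.1 (h.T_two.to_le h.ctx.D_le_T)
  have hPc : Nat.card P = 2 * Nat.card D * Nat.card D := by
    rw [hUD] at hNc
    rw [hPN.card_eq (a := 1 + f₀ + f₀) hm (by rw [hN, hUD, hNc, hf₀]; ring), hf₀]; ring
  set X : Set G := {x | ∃ p ∈ P, x = p * c * p⁻¹}
  have hcnt := card_conj_mul c P X (fun p hp => ⟨p, hp, rfl⟩) (fun x ⟨p, hp, e⟩ => ⟨p, hp, e.symm⟩)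
  have hb := (h.cen_bound hc (hP.two.to_inf_left (K := centralizer ({c} : Set G)))
    (fun x hx => comm_of_mem hx.2)).1
  set W := D ⊓ centralizer ({c} : Set G)
  have hW : 2 * Nat.card W ≤ Nat.card D := by
    obtain ⟨j, hj⟩ := card_dvd_of_le (inf_le_left : W ≤ D)
    rw [hj]
    have hj1 : j ≠ 1 := by
      rintro rfl
      have := Subgroup.eq_of_le_of_card_ge (inf_le_left : W ≤ D) (le_of_eq (by rw [hj, mul_one]))
      apply hne
      have h1 : d ∈ W := by rw [← this] at hd; exact hd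
      rw [← comm_of_mem h1.2, mul_inv_cancel_right]
    have hj0 : j ≠ 0 := by
      rintro rfl
      rw [mul_zero] at hj
      exact Nat.card_pos.ne' hj
    rw [mul_comm 2]
    exact Nat.mul_le_mul_left _ (by omega)
  have hX : Nat.card X ≤ Nat.card W := by
    have key : ∀ x : X, c⁻¹ * (x : G) ∈ W := by
      rintro ⟨x, p, hp, rfl⟩
      obtain ⟨p', hp', rfl⟩ := Subgroup.mem_map.1 (hP.le hp)
      show c⁻¹ * ((p' : G) * c * (p' : G)⁻¹) ∈ W
      set e := (⟨c, hcN⟩ : N)⁻¹ * (p' * ⟨c, hcN⟩ * p'⁻¹) with he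
      have he' : (e : G) = c⁻¹ * ((p' : G) * c * (p' : G)⁻¹) := rfl
      rw [← he']
      have hψe : ψ e = 1 := by
        have hcom : ψ p' * g = g * ψ p' := comm_of_mem (show ψ p' ∈ centralizer ({g} : Set _) from hp')
        rw [he, map_mul, map_mul, map_mul, map_inv, map_inv, ← hgdef, hcom, mul_inv_cancel_right,
          inv_mul_cancel]
      have htre : tr t 0 e = 1 := by
        have := congrArg Subtype.val (Equiv.ext_iff.1 hψe 1)
        rw [hψ] at this
        simpa using this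
      have heP : (e : G) ∈ P := he' ▸ mul_mem (inv_mem (hcP (mem_zpowers c)))
        (mul_mem (mul_mem hp (hcP (mem_zpowers c))) (inv_mem hp))
      obtain ⟨k, hk⟩ := hP.two ⟨e, heP⟩
      have heT : (e : G) ∈ T := hRT ▸ h.stab_two (k := k) (h.mem_stab.2 ⟨e.2, htre⟩)
        (congrArg Subtype.val hk)
      have hcomm : (e : G) * c = c * e := by
        have he2 := h.elem.sq heT
        have h1 : (c * e : G) * (c * e) = 1 := by
          rw [he', mul_inv_cancel_left, conj_mul, hcc]; group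
        have h3 := inv_eq_of_mul_eq_one_right h1
        rw [mul_inv_rev, inv_eq_of_mul_eq_one_right he2, inv_eq_of_mul_eq_one_right hcc] at h3
        exact h3
      rcases h.split _ heT with h4 | h4
      · exact ⟨h4, mem_cen hcomm⟩
      · exfalso
        refine h.nofix hcN hc hcR h4 ?_
        have h5 : c * (e : G) * c⁻¹ = e := by rw [← hcomm, mul_inv_cancel_right]
        rw [tr, pow_zero, pow_one]
        calc t * (c * t * c⁻¹) * (c * (t * e) * c⁻¹) = t * (c * ((t * t) * e) * c⁻¹) := by group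
          _ = t * e := by rw [h.tsq, one_mul, h5]
    refine Nat.card_le_card_of_injective (fun x => (⟨_, key x⟩ : W)) ?_
    intro x y hxy
    exact Subtype.ext (mul_left_cancel (congrArg Subtype.val hxy))
  have h4 := h.dcard
  have h6 : Nat.card P ≤ Nat.card W * (2 * Nat.card D) := hcnt.le.trans (Nat.mul_le_mul hX hb)
  rw [hPc] at h6
  have : Nat.card W * (2 * Nat.card D) = (2 * Nat.card W) * Nat.card D := by ring
  nlinarith

theorem fix_D {d : G} (hd : d ∈ D) : c * d * c⁻¹ = d := by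
  by_cases hi : i = 0
  · exact h.fix_D_zero hcN hc hcR hi hd
  · exact h.fix_D_of_pos hcN hc hcR hi hd

end Frame

end CfsgLib.Involution.TwoTimesPSL
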