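import Cfsg.Agent.Lib.Involution.TwoTimesPSL.FrameFix
import Cfsg.Agent.Lib.Involution.TwoTimesPSL.FrameExtend

/-!
# Elementary case: all conjugates of `t` in the normaliser of `U⟨t⟩` lie in it
-/

set_option autoImplicit false
set_option linter.style.haveILetI false
set_option linter.unusedSectionVars false

namespace CfsgLib.Involution.TwoTimesPSL

open Subgroup

variable {G : Type*} [Group G] [Finite G] [IsSimpleGroup G]

namespace Frame

variable {t z : G} {T D K U : Subgroup G} {i : ℕ} (h : Frame t T D K z U i)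
include h

theorem conj_mem_ext (hmax : ∀ U', Good t D U' → Nat.card U' ≤ Nat.card U) {c : G}
    (hcN : c ∈ normalizer (ext' t U : Set G)) (hc : IsConj t c) : c ∈ ext' t U := by
  classical
  by_contra hcR
  haveI : Fact (Nat.Prime 2) := ⟨Nat.prime_two⟩
  have hcc := h.csq hcN hc hcR
  have hcD : ∀ d ∈ D, c * d * c⁻¹ = d := fun d hd => h.fix_D hcN hc hcR hd
  have hc1 : tr t i c ≠ 1 := fun e => h.nofix hcN hc hcR D.one_mem (by
    rw [e, hcD 1 D.one_mem, one_mul])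
  set N := normalizer (ext' t U : Set G) with hNdef
  set W₀ := N ⊓ centralizer (D : Set G) with hW₀
  have hcW : c ∈ W₀ := ⟨hcN, mem_centralizer_iff.2 fun d hd =>
    (mul_inv_eq_iff_eq_mul.mp (hcD d hd)).symm⟩
  have hRW : ext' t U ≤ W₀ := by
    refine le_inf le_normalizer ?_
    rw [ext', closure_le, Set.insert_subset_iff]
    exact ⟨mem_centralizer_iff.2 fun d hd => h.ctx.comm (h.ctx.D_le_T hd),
      fun u hu => mem_centralizer_iff.2 fun d hd => h.good.comm d (h.good.le hd) u hu⟩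
  have hTW : T ≤ W₀ := fun x hx => hRW (by
    rw [h.mem_ext]; exact (h.split x hx).imp (fun hd => h.good.le hd) (fun hd => h.good.le hd))
  have hWD : ∀ g ∈ W₀, ∀ d ∈ D, g * d * g⁻¹ = d := fun g hg d hd => by
    rw [← mem_centralizer_iff.1 hg.2 d hd, mul_inv_cancel_right]
  have htrW : ∀ a ∈ W₀, ∀ b ∈ W₀, tr t i (a * b) = tr t i a * tr t i b := fun a ha b hb => by
    rw [h.tr_mul ha.1 hb.1, hWD a ha _ (h.tr_mem hb.1)]
  have htrinv : ∀ a ∈ W₀, tr t i a⁻¹ = (tr t i a)⁻¹ := fun a ha => by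
    refine eq_inv_of_mul_eq_one_left ?_
    rw [← htrW _ (W₀.inv_mem ha) a ha, inv_mul_cancel, h.tr_cen (one_mem _)]
  obtain ⟨w, hwC, hwodd, hwU, hwD, hwtr⟩ := h.good.lifts
  have hwN := h.lifts_N hwC hwU
  have hwW : ∀ g ∈ W₀, w * g * w⁻¹ ∈ W₀ := by
    intro g hg
    refine ⟨N.mul_mem (N.mul_mem hwN hg.1) (N.inv_mem hwN), mem_centralizer_iff.2 fun d hd => ?_⟩
    have h2 := mem_centralizer_iff.1 hg.2 _
      (h.conj_D (inv_mem hwN) hd : w⁻¹ * d * w⁻¹⁻¹ ∈ D)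
    calc d * (w * g * w⁻¹) = w * ((w⁻¹ * d * w⁻¹⁻¹) * g) * w⁻¹ := by group
      _ = w * (g * (w⁻¹ * d * w⁻¹⁻¹)) * w⁻¹ := by rw [h2]
      _ = _ := by group
  -- the order of `W₀`
  have hsurj : ∀ d ∈ D, ∃ n ∈ W₀, tr t i n = d := by
    intro d hd
    by_cases hd1 : d = 1
    · exact ⟨1, one_mem _, by rw [hd1]; exact h.tr_cen (one_mem _)⟩
    obtain ⟨k, hk⟩ := hwtr _ (h.tr_mem hcN) d hd hc1 hd1
    refine ⟨w ^ k * c * (w ^ k)⁻¹, conj_pow_mem hwW k c hcW, ?_⟩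
    have hkN := pow_mem hwN k
    rw [h.tr_mul (mul_mem hkN hcN) (inv_mem hkN), h.tr_cen (inv_mem (pow_mem hwC k)), mul_one,
      mul_inv_cancel, mul_one, h.tr_mul hkN hcN, h.tr_cen (pow_mem hwC k), one_mul, hk]
  obtain ⟨m, hm, hC⟩ := h.card_inter hTW
  have hcardW : Nat.card W₀ = 2 * Nat.card D * Nat.card U * m := by
    rw [card_conj_mul t W₀ ((fun u => t * u) '' (U : Set G))
      (fun n hn => ⟨_, h.conj_t hn.1, by
        show t * (t * (n * t * n⁻¹)) = _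
        rw [← mul_assoc t t, h.tsq, one_mul]⟩) ?_, hC, Nat.card_image_of_injective (mul_right_injective t)]
    · show Nat.card U * _ = _
      ring
    rintro _ ⟨u, hu, rfl⟩
    obtain ⟨n, hn, e⟩ := hsurj _ (h.pow_mem_D hu)
    obtain ⟨v, hv, e'⟩ := h.conj_of_tr hn.1 hu e
    exact ⟨v⁻¹ * n, mul_mem (inv_mem (hRW (h.U_le_ext hv))) hn, e'⟩
  -- a Sylow subgroup through `c`, normalised by a lift
  obtain ⟨V, hV, hQV⟩ := IsSyl.exists_ge
    (IsPGroup.to_sup_of_normal_right' (two_group_zpowers (x := c) (k := 1)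
      (by rw [pow_one, pow_two, hcc])) h.ext_two (zpowers_le.2 hcN))
    (sup_le (zpowers_le.2 hcW) hRW)
  have hcV : c ∈ V := hQV (mem_sup_left (mem_zpowers c))
  have hRV : ext' t U ≤ V := le_sup_right.trans hQV
  obtain ⟨f₀, hf₀⟩ := IsPGroup.iff_card.1 (h.T_two.to_le h.ctx.D_le_T)
  obtain ⟨u₀, hu₀⟩ := IsPGroup.iff_card.1 h.good.two
  have hVc : Nat.card V = Nat.card D * (2 * Nat.card U) := by
    rw [hV.card_eq (a := 1 + f₀ + u₀) hm (by rw [hcardW, hf₀, hu₀]; ring), hf₀, hu₀]; ring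
  obtain ⟨a, ha, haV⟩ := hV.exists_conj (hV.two.map (MulAut.conj w).toMonoidHom) (by
    rintro _ ⟨g, hg, rfl⟩
    exact hwW g (hV.le hg))
  have hVker : ∀ g ∈ V, tr t i g = 1 → g ∈ ext' t U := fun g hg h1 => by
    obtain ⟨k, hk⟩ := hV.two ⟨g, hg⟩
    exact h.stab_two (k := k) (h.mem_stab.2 ⟨(hV.le hg).1, h1⟩) (congrArg Subtype.val hk)
  have hVonto : ∀ d ∈ D, ∃ g ∈ V, tr t i g = d := by
    let φ : V →* G := MonoidHom.mk' (fun g => tr t i g) fun x y => htrW _ (hV.le x.2) _ (hV.le y.2)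
    have hker : φ.ker = (ext' t U).subgroupOf V := by
      ext g
      rw [MonoidHom.mem_ker, mem_subgroupOf]
      exact ⟨fun e => hVker g g.2 e, fun e => (h.ext_le_stab e).2⟩
    have h1 := φ.ker.card_mul_index
    rw [index_ker, hker, Nat.card_congr (subgroupOfEquivOfLe hRV).toEquiv, h.card_ext, hVc,
      mul_comm (Nat.card D)] at h1
    have hle : φ.range ≤ D := by
      rintro _ ⟨g, rfl⟩
      exact h.tr_mem (hV.le g.2).1
    have h2 := Subgroup.eq_of_le_of_card_ge hle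
      (le_of_eq (Nat.eq_of_mul_eq_mul_left (mul_pos two_pos Nat.card_pos) h1).symm)
    intro d hd
    rw [← h2] at hd
    obtain ⟨g, hg⟩ := hd
    exact ⟨g, g.2, hg⟩
  -- adjust the lift to centralise `t`
  set w₁ := a * w with hw₁
  have hw₁N : w₁ ∈ N := mul_mem ha.1 hwN
  have hw₁V : ∀ g ∈ V, w₁ * g * w₁⁻¹ ∈ V := fun g hg => by
    have := haV _ ⟨g, hg, rfl⟩
    simp only [MulEquiv.coe_toMonoidHom, MulAut.conj_apply] at this
    rwa [show w₁ * g * w₁⁻¹ = a * (w * g * w⁻¹) * a⁻¹ by rw [hw₁]; group]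
  obtain ⟨v, hv, hve⟩ := hVonto _ (h.tr_mem hw₁N)
  set w₂ := v⁻¹ * w₁ with hw₂
  have hw₂N : w₂ ∈ N := mul_mem (inv_mem (hV.le hv).1) hw₁N
  have hw₂1 : tr t i w₂ = 1 := by
    rw [hw₂, h.tr_mul (inv_mem (hV.le hv).1) hw₁N, hWD _ (inv_mem (hV.le hv)) _ (h.tr_mem hw₁N),
      htrinv _ (hV.le hv), hve, inv_mul_cancel]
  obtain ⟨v₀, hv₀, he₀⟩ := h.conj_of_tr hw₂N (one_mem U) (by rw [hw₂1, one_pow])
  set w₃ := v₀⁻¹ * w₂ with hw₃
  rw [mul_one] at he₀
  have hw₃C : w₃ ∈ centralizer ({t} : Set G) := mem_cen (mul_inv_eq_iff_eq_mul.mp he₀)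
  have hw₃V : ∀ g ∈ V, w₃ * g * w₃⁻¹ ∈ V := fun g hg => by
    have := mul_mem (mul_mem (inv_mem hv) (hw₁V g hg)) hv
    have h2 := mul_mem (mul_mem (inv_mem (hRV (h.U_le_ext hv₀))) this) (hRV (h.U_le_ext hv₀))
    rwa [show w₃ * g * w₃⁻¹ = v₀⁻¹ * (v⁻¹ * (w₁ * g * w₁⁻¹) * v) * v₀ by rw [hw₃, hw₂]; group]
  have hw₃N : w₃ ∈ N := mul_mem (inv_mem (h.U_le_N hv₀)) hw₂N
  have hw₃D : ∀ d ∈ D, w₃ * d * w₃⁻¹ = w * d * w⁻¹ := fun d hd => by
    have hv1 := hWD _ (inv_mem (hRW (h.U_le_ext hv₀)))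
    have hv2 := hWD _ (inv_mem (hV.le hv))
    rw [show w₃ * d * w₃⁻¹ = v₀⁻¹ * (v⁻¹ * (a * (w * d * w⁻¹) * a⁻¹) * v⁻¹⁻¹) * v₀⁻¹⁻¹ by
      rw [hw₃, hw₂, hw₁]; group, hWD a ha _ (hwD d hd), hv2 _ (hwD d hd), hv1 _ (hwD d hd)]
  obtain ⟨e₂, b, hb, hab⟩ := Nat.exists_eq_two_pow_mul_odd (orderOf_pos w₃).ne'
  set w₄ := w₃ ^ 2 ^ e₂
  have hw₄odd : Odd (orderOf w₄) := hb.of_dvd_nat
    (orderOf_dvd_of_pow_eq_one (by rw [← pow_mul, ← hab, pow_orderOf_eq_one]))
  have hw₄D : ∀ d ∈ D, w₄ * d * w₄⁻¹ = w ^ 2 ^ e₂ * d * (w ^ 2 ^ e₂)⁻¹ := by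
    have key : ∀ k : ℕ, ∀ d ∈ D, w₃ ^ k * d * (w₃ ^ k)⁻¹ = w ^ k * d * (w ^ k)⁻¹ := by
      intro k
      induction k with
      | zero => intro d _; simp
      | succ k ih =>
        intro d hd
        calc w₃ ^ (k + 1) * d * (w₃ ^ (k + 1))⁻¹ = w₃ * (w₃ ^ k * d * (w₃ ^ k)⁻¹) * w₃⁻¹ := by
              rw [pow_succ']; group
          _ = w * (w ^ k * d * (w ^ k)⁻¹) * w⁻¹ := by rw [ih d hd, hw₃D _ (conj_pow_mem hwD k d hd)]
          _ = _ := by rw [pow_succ']; group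
    exact key _
  have hw₄D' : ∀ d ∈ D, w₄ * d * w₄⁻¹ ∈ D := fun d hd => by
    rw [hw₄D d hd]; exact conj_pow_mem hwD _ d hd
  have hw₄tr : Trans w₄ D := by
    intro x hx y hy hx1 hy1
    obtain ⟨k, hk⟩ := hwtr.pow_two hwodd e₂ x hx y hy hx1 hy1
    refine ⟨k, ?_⟩
    rw [← hk]
    have key : ∀ j : ℕ, w₄ ^ j * x * (w₄ ^ j)⁻¹ = (w ^ 2 ^ e₂) ^ j * x * ((w ^ 2 ^ e₂) ^ j)⁻¹ := by
      intro j
      induction j with
      | zero => simp
      | succ j ih =>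
        calc w₄ ^ (j + 1) * x * (w₄ ^ (j + 1))⁻¹ = w₄ * (w₄ ^ j * x * (w₄ ^ j)⁻¹) * w₄⁻¹ := by
              rw [pow_succ']; group
          _ = w ^ 2 ^ e₂ * ((w ^ 2 ^ e₂) ^ j * x * ((w ^ 2 ^ e₂) ^ j)⁻¹) * (w ^ 2 ^ e₂)⁻¹ := by
              rw [ih, hw₄D _ (conj_pow_mem (conj_pow_mem hwD _) j x hx)]
          _ = _ := by rw [pow_succ']; group
    exact key k
  have hw₄C : w₄ ∈ centralizer ({t} : Set G) := pow_mem hw₃C _
  have hw₄N : w₄ ∈ N := pow_mem hw₃N _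
  have hw₄V : ∀ g ∈ V, w₄ * g * w₄⁻¹ ∈ V := conj_pow_mem hw₃V _
  have hw₄U : ∀ u ∈ U, w₄ * u * w₄⁻¹ ∈ U := fun u hu => h.conj_U hw₄N hu
  -- `V/U` is elementary abelian
  have hsq : ∀ g ∈ V, g * g ∈ U := by
    intro g hg
    have h1 : g * g ∈ ext' t U := hVker _ (mul_mem hg hg) (by
      rw [htrW _ (hV.le hg) _ (hV.le hg), h.dsq _ (h.tr_mem (hV.le hg).1)])
    refine (h.mem_ext.1 h1).resolve_right fun h2 => ?_
    by_cases hgR : g ∈ ext' t U
    · rcases h.mem_ext.1 hgR with h3 | h3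
      · exact h.good.tnot (by
          have := mul_mem h2 (inv_mem (mul_mem h3 h3))
          rwa [mul_inv_cancel_right] at this)
      · rw [h.sq_of_tmul h3, mul_one] at h2
        exact h.good.tnot h2
    apply hgR
    refine hVker g hg ?_
    set u := t * (g * g) with hu
    have h5 : u = t * (g * t * g⁻¹) * (g * u * g⁻¹) := by
      calc u = t * (g * (t * u) * g⁻¹) := by
            rw [hu, ← mul_assoc t t (g * g), h.tsq, one_mul]; group
        _ = _ := by group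
    have h6 := congrArg (fun x => x ^ 2 ^ i) h5
    rw [h.pow_mul_pow (h.conj_t (hV.le hg).1) (h.conj_U (hV.le hg).1 h2), conj_pow,
      hWD g (hV.le hg) _ (h.pow_mem_D h2)] at h6
    exact mul_eq_right.1 h6.symm
  haveI hnorm : (U.subgroupOf V).Normal :=
    ⟨fun x hx g => mem_subgroupOf.2 (h.conj_U (hV.le g.2).1 hx)⟩
  letI : CommGroup (V ⧸ U.subgroupOf V) :=
    { (inferInstance : Group (V ⧸ U.subgroupOf V)) with
      mul_comm := by
        have hsq' : ∀ x : V ⧸ U.subgroupOf V, x * x = 1 := by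
          intro x
          induction x using QuotientGroup.induction_on with
          | H g => exact (QuotientGroup.eq_one_iff _).2 (mem_subgroupOf.2 (hsq g g.2))
        intro x y
        have h1 := inv_eq_of_mul_eq_one_right (hsq' (x * y))
        rw [mul_inv_rev, inv_eq_of_mul_eq_one_right (hsq' x),
          inv_eq_of_mul_eq_one_right (hsq' y)] at h1
        exact h1.symm }
  set mk : V →* V ⧸ U.subgroupOf V := QuotientGroup.mk' (U.subgroupOf V) with hmk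
  have hmk1 : ∀ g : V, mk g = 1 ↔ (g : G) ∈ U := fun g =>
    (QuotientGroup.eq_one_iff g).trans mem_subgroupOf
  let cj : ℕ → V →* V := fun k => MonoidHom.mk'
    (fun g => ⟨w₄ ^ k * g * (w₄ ^ k)⁻¹, conj_pow_mem hw₄V k g g.2⟩)
    fun x y => Subtype.ext (conj_mul).symm
  have hcjU : U.subgroupOf V ≤ (U.subgroupOf V).comap (cj 1) := fun x hx =>
    mem_subgroupOf.2 (conj_pow_mem hw₄U 1 x hx)
  let σ := QuotientGroup.map (U.subgroupOf V) (U.subgroupOf V) (cj 1) hcjU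
  set n := orderOf w₄
  let φ : V →* V ⧸ U.subgroupOf V :=
    MonoidHom.mk' (fun g => ∏ k ∈ Finset.range n, mk (cj k g)) fun x y => by
      simp only [map_mul, Finset.prod_mul_distrib]
  have hcjsucc : ∀ (k : ℕ) (g : V), cj 1 (cj k g) = cj (k + 1) g := fun k g => Subtype.ext (by
    show w₄ ^ 1 * (w₄ ^ k * g * (w₄ ^ k)⁻¹) * (w₄ ^ 1)⁻¹ = w₄ ^ (k + 1) * g * (w₄ ^ (k + 1))⁻¹
    rw [pow_one, pow_succ']; group)
  have hcjsucc' : ∀ (k : ℕ) (g : V), cj k (cj 1 g) = cj (k + 1) g := fun k g => Subtype.ext (by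
    show w₄ ^ k * (w₄ ^ 1 * g * (w₄ ^ 1)⁻¹) * (w₄ ^ k)⁻¹ = w₄ ^ (k + 1) * g * (w₄ ^ (k + 1))⁻¹
    rw [pow_one, pow_succ]; group)
  have hshift : ∀ g : V, ∏ k ∈ Finset.range n, mk (cj (k + 1) g) = φ g := by
    intro g
    have e0 : cj n g = cj 0 g := Subtype.ext (by
      show w₄ ^ n * g * (w₄ ^ n)⁻¹ = w₄ ^ 0 * g * (w₄ ^ 0)⁻¹
      rw [pow_orderOf_eq_one, pow_zero])
    have h1 := Finset.prod_range_succ (fun k => mk (cj k g)) n
    rw [Finset.prod_range_succ' (fun k => mk (cj k g)) n, e0] at h1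
    exact mul_right_cancel h1
  have hφσ : ∀ g : V, σ (φ g) = φ g := fun g => by
    conv_rhs => rw [← hshift g]
    simp only [φ, MonoidHom.mk'_apply, map_prod]
    exact Finset.prod_congr rfl fun k _ => by rw [← hcjsucc]; rfl
  have hφc : ∀ g : V, φ (cj 1 g) = φ g := fun g => by
    conv_rhs => rw [← hshift g]
    simp only [φ, MonoidHom.mk'_apply]
    exact Finset.prod_congr rfl fun k _ => by rw [hcjsucc']
  set tv : V := ⟨t, hRV h.t_mem_ext⟩
  have hφt : φ tv = mk tv := by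
    have h1 : ∀ k, cj k tv = tv := fun k => Subtype.ext (by
      show w₄ ^ k * t * (w₄ ^ k)⁻¹ = t
      rw [comm_of_mem (pow_mem hw₄C k), mul_inv_cancel_right])
    simp only [φ, MonoidHom.mk'_apply, h1, Finset.prod_const, Finset.card_range]
    obtain ⟨j, hj⟩ := hw₄odd
    rw [hj, pow_succ, pow_mul, pow_two, ← map_mul, show tv * tv = 1 from Subtype.ext h.tsq, map_one,
      one_pow, one_mul]
  have hφU : ∀ g : V, (g : G) ∈ U → φ g = 1 := fun g hg => by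
    simp only [φ, MonoidHom.mk'_apply]
    exact Finset.prod_eq_one fun k _ => (hmk1 _).2 (conj_pow_mem hw₄U k g hg)
  have hval : ∀ g : V, φ g = 1 ∨ φ g = mk tv := by
    intro g
    obtain ⟨x, hx⟩ : ∃ x, mk x = φ g := QuotientGroup.mk'_surjective _ (φ g)
    have h1 : mk (cj 1 x) = mk x := by rw [hx, ← hφσ, ← hx]; rfl
    have h2 : mk ((cj 1 x)⁻¹ * x) = 1 := by rw [map_mul, map_inv, h1, inv_mul_cancel]
    rw [hmk1] at h2
    have hxW := hV.le x.2
    have h3 : w₄ * tr t i x * w₄⁻¹ = tr t i x := by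
      have hcjW : ((cj 1 x : V) : G) ∈ W₀ := hV.le (cj 1 x).2
      have h4 := h.tr_U h2
      rw [Subgroup.coe_mul, InvMemClass.coe_inv, htrW _ (inv_mem hcjW) _ hxW,
        htrinv _ hcjW, inv_mul_eq_one] at h4
      refine Eq.trans ?_ h4
      show w₄ * tr t i x * w₄⁻¹ = tr t i (w₄ ^ 1 * x * (w₄ ^ 1)⁻¹)
      rw [pow_one, h.tr_mul (mul_mem hw₄N hxW.1) (inv_mem hw₄N), h.tr_cen (inv_mem hw₄C), mul_one,
        mul_inv_cancel, mul_one, h.tr_mul hw₄N hxW.1, h.tr_cen hw₄C, one_mul]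
    have h5 : tr t i x = 1 := by
      by_contra hne
      have hd := h.tr_mem hxW.1
      have hall : ∀ k : ℕ, w₄ ^ k * tr t i x * (w₄ ^ k)⁻¹ = tr t i x := by
        intro k
        induction k with
        | zero => simp
        | succ k ih =>
          rw [show w₄ ^ (k + 1) * tr t i x * (w₄ ^ (k + 1))⁻¹ =
            w₄ * (w₄ ^ k * tr t i x * (w₄ ^ k)⁻¹) * w₄⁻¹ by rw [pow_succ']; group, ih, h3]
      have h4 := h.dcard
      have hsub : ∀ y ∈ D, y ≠ 1 → y = tr t i x := fun y hy hy1 => by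
        obtain ⟨k, hk⟩ := hw₄tr _ hd y hy hne hy1
        rw [← hk, hall]
      have : Nat.card D ≤ 2 := by
        refine (Nat.card_le_card_of_injective (β := Bool) (fun y : D => decide ((y : G) = 1)) ?_).trans
          (by simp)
        intro y y' e
        simp only [decide_eq_decide] at e
        by_cases hy : (y : G) = 1
        · exact Subtype.ext (hy.trans (e.1 hy).symm)
        · exact Subtype.ext ((hsub _ y.2 hy).trans (hsub _ y'.2 (fun hy' => hy (e.2 hy'))).symm)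
      omega
    rcases h.mem_ext.1 (hVker x x.2 h5) with h6 | h6
    · left; rw [← hx]; exact (hmk1 x).2 h6
    · right
      rw [← hx]
      have : mk (tv * x) = 1 := (hmk1 _).2 h6
      rw [map_mul] at this
      rw [eq_inv_of_mul_eq_one_right this, inv_eq_of_mul_eq_one_right]
      rw [← map_mul, show tv * tv = 1 from Subtype.ext h.tsq, map_one]
  -- the new subgroup
  set U' := φ.ker.map V.subtype with hU'
  have hU'V : U' ≤ V := map_subtype_le _
  have hU'tnot : t ∉ U' := by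
    rintro ⟨g, hg, e⟩
    have : g = tv := Subtype.ext e
    rw [this, SetLike.mem_coe, MonoidHom.mem_ker, hφt, hmk1] at hg
    exact h.good.tnot hg
  have hdich : ∀ g ∈ V, g ∈ U' ∨ t * g ∈ U' := by
    intro g hg
    rcases hval ⟨g, hg⟩ with e | e
    · exact Or.inl ⟨⟨g, hg⟩, MonoidHom.mem_ker.2 e, rfl⟩
    · refine Or.inr ⟨tv * ⟨g, hg⟩, MonoidHom.mem_ker.2 ?_, rfl⟩
      rw [map_mul, hφt, e, ← map_mul, show tv * tv = 1 from Subtype.ext h.tsq, map_one]
  have hExt : Ext t T D K z U i U' w₄ :=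
    { toFrame := h
      U_le := fun u hu => ⟨⟨u, hRV (h.U_le_ext hu)⟩, MonoidHom.mem_ker.2 (hφU _ hu), rfl⟩
      le_N := fun g hg => (hV.le (hU'V hg)).1
      le_cen := fun g hg d hd => (mem_centralizer_iff.1 (hV.le (hU'V hg)).2 d hd).symm
      two' := hV.two.to_le hU'V
      tnot' := hU'tnot
      tr_onto := fun d hd => by
        obtain ⟨g, hg, e⟩ := hVonto d hd
        rcases hdich g hg with h1 | h1
        · exact ⟨g, h1, e⟩
        · refine ⟨t * g, h1, ?_⟩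
          rw [htrW _ (hRW h.t_mem_ext) _ (hV.le hg), h.tr_cen h.ctx.tC, one_mul, e]
      comm_mod := fun g hg g' hg' => by
        have := (hmk1 (⟨g, hU'V hg⟩ * ⟨g', hU'V hg'⟩ * (⟨g, hU'V hg⟩)⁻¹ * (⟨g', hU'V hg'⟩)⁻¹)).1 (by
          rw [map_mul, map_mul, map_mul, mul_comm (mk ⟨g, hU'V hg⟩), map_inv, map_inv,
            mul_inv_cancel_right, mul_inv_cancel])
        exact this
      sq_mod := fun g hg => hsq g (hU'V hg)
      wC := hw₄C
      wodd := hw₄odd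
      wU := hw₄U
      wU' := by
        rintro _ ⟨g, hg, rfl⟩
        refine ⟨cj 1 g, MonoidHom.mem_ker.2 ((hφc g).trans (MonoidHom.mem_ker.1 hg)), ?_⟩
        show w₄ ^ 1 * (g : G) * (w₄ ^ 1)⁻¹ = _
        rw [pow_one]; rfl
      wD := hw₄D'
      wtr := hw₄tr }
  rcases hdich c hcV with h1 | h1
  · exact hExt.false_of_mem hc h1
  · have hb := hmax U' (hExt.good_of_tmul hc hcN hcR hcD h1)
    rw [hExt.card_U'] at hb
    have h4 := h.dcard
    have := Nat.card_pos (α := U)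
    nlinarith

end Frame

end CfsgLib.Involution.TwoTimesPSL
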