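import Cfsg.Agent.Lib.Involution.TwoTimesPSL.Tools
import Cfsg.Agent.Lib.Classical.SL2Sylow
import Cfsg.Agent.Lib.Classical.SL2Fours
import Cfsg.Agent.Lib.Classical.SL2Tori
import Cfsg.Agent.Lib.Perm.OddProduct.PSLTwo

/-!
# The Sylow 2-subgroups of `PSL(2, q)`
-/

set_option autoImplicit false
set_option linter.style.haveILetI false
set_option linter.unusedSectionVars false

namespace CfsgLib.Involution.TwoTimesPSL

open Subgroup Matrix CfsgLib.Classical
open scoped MatrixGroups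

/-- An elementary abelian group with a transitive element of odd order normalising it. -/
structure ElemData {L : Type*} [Group L] (P : Subgroup L) (z : L) : Prop where
  sq : ∀ x ∈ P, x * x = 1
  card : 4 ≤ Nat.card P
  odd : Odd (orderOf z)
  conj : ∀ x ∈ P, z * x * z⁻¹ ∈ P
  trans : Trans z P

/-- Generators of a dihedral group of order at least eight. -/
structure DihData {L : Type*} [Group L] (P : Subgroup L) (r s : L) (k : ℕ) : Prop where
  rD : r ∈ P
  sD : s ∈ P
  rord : orderOf r = 2 ^ (k + 2)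
  ssq : s * s = 1
  sconj : s * r * s = r⁻¹
  snr : s ∉ zpowers r
  cases_D : ∀ x ∈ P, (∃ i : ℤ, x = r ^ i) ∨ ∃ i : ℤ, x = r ^ i * s

theorem klein_data {L : Type*} [Group L] [Finite L] (P : Sylow 2 L)
    (hsq : ∀ x ∈ (P : Subgroup L), x * x = 1) (hc : Nat.card (P : Subgroup L) = 4)
    (hone : ∀ x y : L, x ≠ 1 → x * x = 1 → y ≠ 1 → y * y = 1 → IsConj x y) :
    ∃ z : L, ElemData (P : Subgroup L) z := by
  classical
  haveI : Fact (Nat.Prime 2) := ⟨Nat.prime_two⟩
  have hcomm : ∀ x ∈ (P : Subgroup L), ∀ y ∈ (P : Subgroup L), x * y = y * x := by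
    intro x hx y hy
    have h1 := inv_eq_of_mul_eq_one_right (hsq _ (mul_mem hx hy))
    rw [_root_.mul_inv_rev, inv_eq_of_mul_eq_one_right (hsq x hx),
      inv_eq_of_mul_eq_one_right (hsq y hy)] at h1
    exact h1.symm
  haveI : IsMulCommutative (P : Subgroup L) :=
    ⟨⟨fun x y => Subtype.ext (hcomm x x.2 y y.2)⟩⟩
  obtain ⟨a, ha, ha1⟩ := exists_ne_one_of_card (H := (P : Subgroup L)) (by omega)
  obtain ⟨b, hb, hb1, hba⟩ : ∃ b ∈ (P : Subgroup L), b ≠ 1 ∧ b ≠ a := by
    by_contra hne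
    push Not at hne
    have h1 : Nat.card (P : Subgroup L) ≤ 2 := by
      refine (Nat.card_le_card_of_injective (β := Bool)
        (fun x : (P : Subgroup L) => decide ((x : L) = 1)) ?_).trans (by simp)
      intro x y e
      simp only [decide_eq_decide] at e
      by_cases hx : (x : L) = 1
      · exact Subtype.ext (hx.trans (e.1 hx).symm)
      · exact Subtype.ext ((hne x x.2 hx).trans (hne y y.2 fun hy => hx (e.2 hy)).symm)
    omega
  have hab : a * b ∈ (P : Subgroup L) := mul_mem ha hb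
  have hab1 : a * b ≠ 1 := fun e => hba (by
    rw [eq_inv_of_mul_eq_one_right e, inv_eq_of_mul_eq_one_right (hsq a ha)])
  have hall : ∀ x ∈ (P : Subgroup L), x = 1 ∨ x = a ∨ x = b ∨ x = a * b := by
    have hsub : ({1, a, b, a * b} : Set L) ⊆ (P : Subgroup L) := by
      rintro x (rfl | rfl | rfl | rfl)
      exacts [one_mem _, ha, hb, hab]
    have h4 : ({1, a, b, a * b} : Set L).ncard = 4 := by
      rw [Set.ncard_insert_of_notMem, Set.ncard_insert_of_notMem, Set.ncard_pair]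
      · exact fun e => ha1 (right_eq_mul.1 e)
      · simp only [Set.mem_insert_iff, Set.mem_singleton_iff, not_or]
        exact ⟨fun e => hba e.symm, fun e => hb1 (left_eq_mul.1 e)⟩
      · simp only [Set.mem_insert_iff, Set.mem_singleton_iff, not_or]
        exact ⟨fun e => ha1 e.symm, fun e => hb1 e.symm, fun e => hab1 e.symm⟩
    have heq := Set.eq_of_subset_of_ncard_le hsub (by
      rw [h4, ← Nat.card_coe_set_eq]; exact hc.le) (Set.toFinite _)
    intro x hx
    have : x ∈ ({1, a, b, a * b} : Set L) := by rw [heq]; exact hx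
    simpa using this
  have hfus : ∀ y ∈ (P : Subgroup L), y ≠ 1 →
      ∃ n ∈ normalizer ((P : Subgroup L) : Set L), n * a * n⁻¹ = y := by
    intro y hy hy1
    obtain ⟨g, hg⟩ := isConj_iff.1 (hone a y ha1 (hsq a ha) hy1 (hsq y hy))
    obtain ⟨n, hn, e⟩ := P.conj_eq_normalizer_conj_of_mem a g⁻¹ ha (by rw [inv_inv, hg]; exact hy)
    refine ⟨n⁻¹, inv_mem hn, ?_⟩
    rw [inv_inv] at e ⊢
    rw [← e, hg]
  obtain ⟨n₁, hn₁, e₁⟩ := hfus b hb hb1
  obtain ⟨n₂, hn₂, e₂⟩ := hfus (a * b) hab hab1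
  have hmem : ∀ n ∈ normalizer ((P : Subgroup L) : Set L), ∀ x ∈ (P : Subgroup L),
      n * x * n⁻¹ ∈ (P : Subgroup L) := fun n hn x hx => (mem_normalizer_iff.1 hn x).1 hx
  have hinj : ∀ (n : L) {x y : L}, n * x * n⁻¹ = n * y * n⁻¹ → x = y := fun n _ _ e =>
    mul_left_cancel (mul_right_cancel e)
  -- a three-cycle
  have hcyc : ∃ n ∈ normalizer ((P : Subgroup L) : Set L), ∃ x y w, x ∈ (P : Subgroup L) ∧
      y ∈ (P : Subgroup L) ∧ w ∈ (P : Subgroup L) ∧
      (∀ v ∈ (P : Subgroup L), v ≠ 1 → v = x ∨ v = y ∨ v = w) ∧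
      n * x * n⁻¹ = y ∧ n * y * n⁻¹ = w ∧ n * w * n⁻¹ = x := by
    have himg : ∀ n ∈ normalizer ((P : Subgroup L) : Set L), ∀ x ∈ (P : Subgroup L), x ≠ 1 →
        n * x * n⁻¹ = a ∨ n * x * n⁻¹ = b ∨ n * x * n⁻¹ = a * b := fun n hn x hx hx1 =>
      (hall _ (hmem n hn x hx)).resolve_left fun e => hx1 (conj_eq_one_iff.1 e)
    have hb2 : b * (a * b) = a := by
      rw [hcomm a ha b hb, ← mul_assoc, hsq b hb, one_mul]
    have hall' : ∀ v ∈ (P : Subgroup L), v ≠ 1 → v = a ∨ v = b ∨ v = a * b := fun v hv h1 =>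
      (hall v hv).resolve_left h1
    have hprod : ∀ n : L, n * (a * b) * n⁻¹ = (n * a * n⁻¹) * (n * b * n⁻¹) := fun n => conj_mul.symm
    rcases himg n₁ hn₁ b hb hb1 with e | e | e
    · rcases himg n₂ hn₂ (a * b) hab hab1 with e' | e' | e'
      · refine ⟨n₂ * n₁, mul_mem hn₂ hn₁, a, b, a * b, ha, hb, hab, hall', ?_, ?_, ?_⟩
        · calc n₂ * n₁ * a * (n₂ * n₁)⁻¹ = n₂ * (n₁ * a * n₁⁻¹) * n₂⁻¹ := by group
            _ = b := by
              rw [e₁]
              rcases himg n₂ hn₂ b hb hb1 with f | f | f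
              · exact absurd (hinj n₂ (f.trans e'.symm)) (fun e => ha1 (right_eq_mul.1 e))
              · exact f
              · exact absurd (hinj n₂ (f.trans e₂.symm)) hba
        · calc n₂ * n₁ * b * (n₂ * n₁)⁻¹ = n₂ * (n₁ * b * n₁⁻¹) * n₂⁻¹ := by group
            _ = a * b := by rw [e, e₂]
        · calc n₂ * n₁ * (a * b) * (n₂ * n₁)⁻¹ = n₂ * (n₁ * (a * b) * n₁⁻¹) * n₂⁻¹ := by group
            _ = a := by rw [hprod n₁, e₁, e, hcomm b hb a ha, e']
      · refine ⟨n₂, hn₂, a, a * b, b, ha, hab, hb, fun v hv h1 => ?_, e₂, e', ?_⟩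
        · rcases hall' v hv h1 with f | f | f
          exacts [Or.inl f, Or.inr (Or.inr f), Or.inr (Or.inl f)]
        · rcases himg n₂ hn₂ b hb hb1 with f | f | f
          · exact f
          · exact absurd (hinj n₂ (f.trans e'.symm)) (fun e => ha1 (right_eq_mul.1 e))
          · exact absurd (hinj n₂ (f.trans e₂.symm)) hba
      · exact absurd (hinj n₂ (e'.trans e₂.symm)) (fun e => hb1 (mul_eq_left.1 e))
    · exact absurd (hinj n₁ (e.trans e₁.symm)) hba
    · refine ⟨n₁, hn₁, a, b, a * b, ha, hb, hab, hall', e₁, e, ?_⟩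
      rw [hprod, e₁, e, hb2]
  obtain ⟨n, hn, x, y, w, hx, hy, hw, hxyw, exy, eyw, ewx⟩ := hcyc
  have hcube : ∀ v ∈ (P : Subgroup L), n ^ 3 * v * (n ^ 3)⁻¹ = v := by
    have h3 : ∀ v, n ^ 3 * v * (n ^ 3)⁻¹ = n * (n * (n * v * n⁻¹) * n⁻¹) * n⁻¹ := fun v => by
      rw [pow_succ, pow_succ, pow_one]; group
    intro v hv
    by_cases hv1 : v = 1
    · rw [hv1]; group
    rw [h3]
    rcases hxyw v hv hv1 with rfl | rfl | rfl
    · rw [exy, eyw, ewx]
    · rw [eyw, ewx, exy]
    · rw [ewx, exy, eyw]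
  have hper : ∀ (j : ℕ), ∀ v ∈ (P : Subgroup L),
      n ^ j * v * (n ^ j)⁻¹ = n ^ (j % 3) * v * (n ^ (j % 3))⁻¹ := by
    intro j
    induction j using Nat.strong_induction_on with
    | _ j ih =>
      intro v hv
      rcases Nat.lt_or_ge j 3 with hj | hj
      · rw [Nat.mod_eq_of_lt hj]
      · obtain ⟨i, rfl⟩ := Nat.exists_eq_add_of_le' hj
        rw [Nat.add_mod_right, ← ih i (by omega) v hv, pow_add,
          show n ^ i * n ^ 3 * v * (n ^ i * n ^ 3)⁻¹ = n ^ i * (n ^ 3 * v * (n ^ 3)⁻¹) * (n ^ i)⁻¹ by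
            group, hcube v hv]
  obtain ⟨e, m, hm, hem⟩ := Nat.exists_eq_two_pow_mul_odd (orderOf_pos n).ne'
  refine ⟨n ^ 2 ^ e, hsq, hc.ge, hm.of_dvd_nat
    (orderOf_dvd_of_pow_eq_one (by rw [← pow_mul, ← hem, pow_orderOf_eq_one])),
    hmem _ (pow_mem hn _), ?_⟩
  intro u hu v hv hu1 hv1
  obtain ⟨k, hk⟩ : ∃ k : ℕ, n ^ k * u * (n ^ k)⁻¹ = v := by
    have h2 : ∀ q : L, n ^ 2 * q * (n ^ 2)⁻¹ = n * (n * q * n⁻¹) * n⁻¹ := fun q => by
      rw [pow_two]; group
    rcases hxyw u hu hu1 with rfl | rfl | rfl <;> rcases hxyw v hv hv1 with rfl | rfl | rfl <;>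
      first
      | (refine ⟨0, ?_⟩; group; done)
      | (refine ⟨1, ?_⟩; rw [pow_one]; assumption)
      | (refine ⟨2, ?_⟩; rw [h2]; simp only [exy, eyw, ewx]; done)
  refine ⟨2 ^ e * k, ?_⟩
  rw [← pow_mul, hper _ u hu]
  have h4 : 2 ^ e * (2 ^ e * k) % 3 = k % 3 := by
    rw [← mul_assoc, ← mul_pow, Nat.mul_mod, Nat.pow_mod]
    simp
  rw [h4, ← hper _ u hu, hk]

variable {F : Type*} [Field F] [Fintype F]

local notation "PSL" => Matrix.ProjectiveSpecialLinearGroup (Fin 2) F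

theorem psl_one_class {x y : PSL} (hx : x ≠ 1) (hx2 : x * x = 1) (hy : y ≠ 1) (hy2 : y * y = 1) :
    IsConj x y :=
  CfsgLib.Perm.OddProduct.PSLTwo.isConj_of_involution hx hx2 hy hy2

theorem psl_even (h2 : (2 : F) = 0) (hF : 3 < Fintype.card F) :
    ∃ (P : Sylow 2 PSL) (z : PSL), ElemData (P : Subgroup PSL) z := by
  classical
  haveI : Fact (Nat.Prime 2) := ⟨Nat.prime_two⟩
  haveI : CharP F 2 := (CharP.charP_iff_prime_eq_zero Nat.prime_two).mpr (by exact_mod_cast h2)
  set π : SL(2, F) →* PSL := QuotientGroup.mk' (Subgroup.center SL(2, F))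
  have hsurj : Function.Surjective π := QuotientGroup.mk'_surjective _
  have hinj : Function.Injective π := by
    refine (injective_iff_map_eq_one π).2 fun g hg => ?_
    rcases sl2_center_eq ((QuotientGroup.eq_one_iff g).1 hg) with e | e
    · exact e
    · rw [e]; exact Subtype.ext (by simp [CharTwo.neg_eq])
  let P : Sylow 2 PSL := (unipSLSylow (F := F) 2).mapSurjective hsurj
  have hP : (P : Subgroup PSL) = (unipSL F).map π := rfl
  obtain ⟨g, hg⟩ := IsCyclic.exists_monoid_generator (α := Fˣ)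
  let d : SL(2, F) := ⟨!![(g : F), 0; 0, ((g⁻¹ : Fˣ) : F)], by simp [Matrix.det_fin_two]⟩
  have hdk : ∀ k : ℕ, ((d ^ k : SL(2, F)) : Matrix (Fin 2) (Fin 2) F) =
      !![(g : F) ^ k, 0; 0, ((g⁻¹ : Fˣ) : F) ^ k] := by
    intro k
    induction k with
    | zero => simp [Matrix.one_fin_two]
    | succ k ih =>
      rw [pow_succ, Matrix.SpecialLinearGroup.coe_mul, ih]
      ext i j
      fin_cases i <;> fin_cases j <;> simp [d, Matrix.mul_apply, Fin.sum_univ_two, pow_succ]
  have hd : ∀ (k : ℕ) (c : F), d ^ k * uSL (Multiplicative.ofAdd c) * (d ^ k)⁻¹ =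
      uSL (Multiplicative.ofAdd (((g : F) ^ k) ^ 2 * c)) := by
    intro k c
    rw [mul_inv_eq_iff_eq_mul]
    refine Subtype.ext ?_
    rw [Matrix.SpecialLinearGroup.coe_mul, Matrix.SpecialLinearGroup.coe_mul, uSL_coe, uSL_coe, hdk]
    have hgg : (g : F) ^ k * ((g⁻¹ : Fˣ) : F) ^ k = 1 := by
      rw [← mul_pow, Units.mul_inv, one_pow]
    rw [Units.val_inv_eq_inv_val] at hgg
    ext i j
    fin_cases i <;> fin_cases j <;> simp [Matrix.mul_apply, Fin.sum_univ_two]
    linear_combination -((g : F) ^ k * c) * hgg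
  refine ⟨P, π d, ?_, ?_, ?_, ?_, ?_⟩
  · rw [hP]
    rintro _ ⟨_, ⟨c, rfl⟩, rfl⟩
    rw [← map_mul, ← map_mul]
    have : c * c = 1 := by
      show Multiplicative.ofAdd (c.toAdd + c.toAdd) = 1
      rw [CharTwo.add_self_eq_zero]; rfl
    rw [this, map_one, map_one]
  · rw [hP, card_map_of_injective hinj, card_unipSL, Nat.card_eq_fintype_card]; omega
  · obtain ⟨f, -, hf⟩ := FiniteField.card F 2
    have hodd : Odd (Fintype.card F - 1) := by
      refine Nat.Even.sub_odd Fintype.card_pos ?_ odd_one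
      rw [hf]; exact Nat.even_pow.2 ⟨even_two, f.ne_zero⟩
    refine hodd.of_dvd_nat ((orderOf_map_dvd π d).trans (orderOf_dvd_of_pow_eq_one (Subtype.ext ?_)))
    have e1 : g ^ (Fintype.card F - 1) = 1 := by
      rw [← Fintype.card_units]; exact pow_card_eq_one
    rw [hdk, ← Units.val_pow_eq_pow_val, ← Units.val_pow_eq_pow_val, inv_pow, e1, inv_one]
    simp [Matrix.one_fin_two]
  · rw [hP]
    rintro _ ⟨_, ⟨c, rfl⟩, rfl⟩
    refine ⟨d * uSL c * d⁻¹, ?_, by rw [map_mul, map_mul, map_inv]⟩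
    have h1 := hd 1 c.toAdd
    rw [pow_one] at h1
    rw [show c = Multiplicative.ofAdd c.toAdd from rfl, h1]
    exact ⟨_, rfl⟩
  · rw [hP]
    rintro _ ⟨_, ⟨c, rfl⟩, rfl⟩ _ ⟨_, ⟨c', rfl⟩, rfl⟩ hc hc'
    have hne : ∀ c : Multiplicative F, π (uSL c) ≠ 1 → c.toAdd ≠ 0 := fun c h e => h (by
      rw [show c = 1 from Multiplicative.toAdd.injective e, map_one, map_one])
    obtain ⟨a, ha⟩ := FiniteField.isSquare_of_char_two (ringChar.eq F 2) (c'.toAdd / c.toAdd)
    have ha0 : a ≠ 0 := fun e => by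
      rw [e, mul_zero, div_eq_zero_iff] at ha
      exact ha.elim (hne c' hc') (hne c hc)
    obtain ⟨k, hk⟩ := Submonoid.mem_powers_iff _ _ |>.1 (hg (Units.mk0 a ha0))
    refine ⟨k, ?_⟩
    rw [← map_pow, ← map_inv, ← map_mul, ← map_mul, show c = Multiplicative.ofAdd c.toAdd from rfl, hd,
      show ((g : F) ^ k) ^ 2 * c.toAdd = c'.toAdd by
        rw [← Units.val_pow_eq_pow_val, hk, Units.val_mk0, pow_two, ← ha,
          div_mul_cancel₀ _ (hne c hc)]]
    rfl

theorem psl_odd (h2 : (2 : F) ≠ 0) (hodd : Odd (Fintype.card F)) :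
    ∃ P : Sylow 2 PSL, (∃ z, ElemData (P : Subgroup PSL) z) ∨
      ∃ r s k, DihData (P : Subgroup PSL) r s k := by
  classical
  haveI : Fact (Nat.Prime 2) := ⟨Nat.prime_two⟩
  set π : SL(2, F) →* PSL := QuotientGroup.mk' (Subgroup.center SL(2, F))
  have hsurj : Function.Surjective π := QuotientGroup.mk'_surjective _
  have hker : ∀ g, π g = 1 ↔ g = 1 ∨ g = -1 := fun g =>
    ⟨fun h => sl2_center_eq ((QuotientGroup.eq_one_iff g).1 h), fun h => by
      rcases h with rfl | rfl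
      · exact map_one π
      · exact (QuotientGroup.eq_one_iff _).2 sl2_neg_one_central⟩
  obtain ⟨S⟩ : Nonempty (Sylow 2 SL(2, F)) := Sylow.nonempty
  obtain ⟨j, hj, -, ⟨e⟩⟩ := sl2_sylow_two hodd S
  let P : Sylow 2 PSL := S.mapSurjective hsurj
  refine ⟨P, ?_⟩
  set n := 2 ^ j with hn
  haveI : NeZero n := ⟨pow_ne_zero _ two_ne_zero⟩
  let x : SL(2, F) := (e.symm (QuaternionGroup.a 1) : S)
  let y : SL(2, F) := (e.symm (QuaternionGroup.xa 0) : S)
  have hxpow : ∀ i : ℕ, x ^ i = (e.symm (QuaternionGroup.a (i : ZMod (2 * n))) : S) := fun i => by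
    rw [← QuaternionGroup.a_one_pow, map_pow]; rfl
  have hneg : (-1 : SL(2, F)) = x ^ n := by
    refine (sl2_eq_neg_one h2 ?_ ?_).symm
    · rw [hxpow]
      intro h1
      have h3 := congrArg e (Subtype.ext h1 : e.symm (QuaternionGroup.a (n : ZMod (2 * n))) = 1)
      rw [e.apply_symm_apply, map_one, QuaternionGroup.one_def, QuaternionGroup.a.injEq,
        ZMod.natCast_eq_zero_iff] at h3
      have := Nat.le_of_dvd (NeZero.pos n) h3
      have := NeZero.pos n
      omega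
    · rw [← pow_add, hxpow, show n + n = 2 * n by ring, ZMod.natCast_self,
        ← QuaternionGroup.one_def, map_one]; rfl
  set r := π x with hr
  set s := π y with hs
  have hxS : x ∈ (S : Subgroup SL(2, F)) := SetLike.coe_mem _
  have hyS : y ∈ (S : Subgroup SL(2, F)) := SetLike.coe_mem _
  have hrP : r ∈ (P : Subgroup PSL) := Subgroup.mem_map.2 ⟨x, hxS, rfl⟩
  have hsP : s ∈ (P : Subgroup PSL) := Subgroup.mem_map.2 ⟨y, hyS, rfl⟩
  have hyx : y * x * y⁻¹ = x⁻¹ := by
    have h1 : QuaternionGroup.xa 0 * QuaternionGroup.a 1 * (QuaternionGroup.xa 0)⁻¹ =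
        ((QuaternionGroup.a 1)⁻¹ : QuaternionGroup n) := by
      rw [mul_inv_eq_iff_eq_mul, eq_inv_mul_iff_mul_eq, QuaternionGroup.xa_mul_a,
        QuaternionGroup.a_mul_xa]
      ring_nf
    have h2 := congrArg (fun q => ((e.symm q : S) : SL(2, F))) h1
    simp only [map_mul, map_inv, Subgroup.coe_mul, Subgroup.coe_inv] at h2
    exact h2
  have hy2 : y * y = x ^ n := by
    rw [hxpow]
    have h1 : (QuaternionGroup.xa 0 : QuaternionGroup n) * QuaternionGroup.xa 0 =
        QuaternionGroup.a (n : ZMod (2 * n)) := by rw [QuaternionGroup.xa_mul_xa]; simp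
    have h2 := congrArg (fun q => ((e.symm q : S) : SL(2, F))) h1
    simp only [map_mul, Subgroup.coe_mul] at h2
    exact h2
  have hrn : r ^ n = 1 := by rw [hr, ← map_pow, hker]; exact Or.inr hneg.symm
  have hrord : orderOf r = n := by
    obtain ⟨j', rfl⟩ := Nat.exists_eq_succ_of_ne_zero (show j ≠ 0 by omega)
    refine orderOf_eq_prime_pow (n := j') ?_ (hn ▸ hrn)
    rw [hr, ← map_pow, hker]
    rintro (h1 | h1)
    · have h3 : x ^ n = 1 := by rw [hn, pow_succ, pow_mul, h1, one_pow]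
      exact sl2_neg_ne_one h2 (hneg.trans h3)
    · have h3 : x ^ n = 1 := by rw [hn, pow_succ, pow_mul, h1, neg_one_sq]
      exact sl2_neg_ne_one h2 (hneg.trans h3)
  have hssq : s * s = 1 := by rw [hs, ← map_mul, hker]; exact Or.inr (hy2.trans hneg.symm)
  have hsconj : s * r * s = r⁻¹ := by
    have : π (y * x * y⁻¹) = π x⁻¹ := by rw [hyx]
    rw [map_mul, map_mul, map_inv, map_inv, inv_eq_of_mul_eq_one_right hssq] at this
    exact this
  have hsnr : s ∉ zpowers r := by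
    intro hm
    obtain ⟨i, hi⟩ := hm
    have hi' : r ^ i = s := hi
    have h1 : π (y⁻¹ * x ^ i) = 1 := by
      rw [map_mul, map_inv, map_zpow, ← hr, ← hs, hi', inv_mul_cancel]
    obtain ⟨i', hi''⟩ : ∃ i' : ℤ, y = x ^ i' := by
      rcases (hker _).1 h1 with h | h
      · exact ⟨i, inv_mul_eq_one.1 h⟩
      · refine ⟨i - n, ?_⟩
        rw [hneg, inv_mul_eq_iff_eq_mul, ← zpow_natCast] at h
        rw [_root_.zpow_sub]
        exact eq_mul_inv_iff_mul_eq.2 h.symm
    have h2 : (e.symm (QuaternionGroup.xa 0) : S) = (e.symm (QuaternionGroup.a 1)) ^ i' :=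
      Subtype.ext (by rw [SubgroupClass.coe_zpow]; exact hi'')
    rw [← map_zpow] at h2
    have h3 := e.symm.injective h2
    have h4 : ∃ c, (QuaternionGroup.a 1 : QuaternionGroup n) ^ i' = QuaternionGroup.a c := by
      have hk : ∀ k : ℕ, ∃ c, (QuaternionGroup.a 1 : QuaternionGroup n) ^ k = QuaternionGroup.a c :=
        fun k => ⟨_, QuaternionGroup.a_one_pow k⟩
      rcases i' with k | k
      · obtain ⟨c, hc⟩ := hk k
        exact ⟨c, by rw [Int.ofNat_eq_natCast, zpow_natCast, hc]⟩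
      · obtain ⟨c, hc⟩ := hk (k + 1)
        refine ⟨-c, ?_⟩
        rw [zpow_negSucc, hc]; rfl
    obtain ⟨c, hc⟩ := h4
    rw [hc] at h3
    cases h3
  have hcases : ∀ q ∈ (P : Subgroup PSL), (∃ i : ℤ, q = r ^ i) ∨ ∃ i : ℤ, q = r ^ i * s := by
    intro q hq
    obtain ⟨v, hv, rfl⟩ := Subgroup.mem_map.1 hq
    rcases hev : e ⟨v, hv⟩ with i | i
    · left
      refine ⟨(i.val : ℕ), ?_⟩
      rw [zpow_natCast, hr, ← map_pow, hxpow, ZMod.natCast_zmod_val, ← hev, e.symm_apply_apply]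
    · right
      refine ⟨-(i.val : ℤ), ?_⟩
      have h1 : v = y * x ^ i.val := by
        rw [hxpow, ZMod.natCast_zmod_val]
        have : (⟨v, hv⟩ : S) = e.symm (QuaternionGroup.xa 0 * QuaternionGroup.a i) := by
          rw [QuaternionGroup.xa_mul_a, zero_add, ← hev, e.symm_apply_apply]
        have h2 := congrArg Subtype.val this
        rw [map_mul] at h2
        exact h2
      have hconj : ∀ k : ℕ, s * r ^ k * s = (r ^ k)⁻¹ := by
        intro k
        have h3 : (s * r * s⁻¹) ^ k = s * r ^ k * s⁻¹ := conj_pow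
        rw [inv_eq_of_mul_eq_one_right hssq, hsconj, inv_pow] at h3
        exact h3.symm
      rw [_root_.zpow_neg, zpow_natCast, h1, map_mul, map_pow, ← hr, ← hs]
      have h4 := hconj i.val
      calc s * r ^ i.val = s * r ^ i.val * (s * s) := by rw [hssq, mul_one]
        _ = (s * r ^ i.val * s) * s := by group
        _ = _ := by rw [h4]
  rcases Nat.lt_or_ge j 2 with hj2 | hj2
  · left
    have hj1 : j = 1 := by omega
    have hn2 : n = 2 := by rw [hn, hj1]; rfl
    have hcard : Nat.card (P : Subgroup PSL) = 4 := by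
      have hzp : Nat.card (zpowers r) = 2 := by rw [Nat.card_zpowers, hrord, hn2]
      rw [show (4 : ℕ) = 2 * Nat.card (zpowers r) by rw [hzp]]
      refine card_double (zpowers_le.2 hrP) hsP hsnr hssq fun q hq => ?_
      rcases hcases q hq with ⟨i, rfl⟩ | ⟨i, rfl⟩
      · exact Or.inl (zpow_mem_zpowers r i)
      · right
        have h3 : (s * r * s⁻¹) ^ i = s * r ^ i * s⁻¹ := conj_zpow
        rw [inv_eq_of_mul_eq_one_right hssq, hsconj] at h3
        rw [← mul_assoc, ← h3]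
        exact zpow_mem (inv_mem (mem_zpowers r)) i
    have hrr : r * r = 1 := by
      have h := hrn
      rw [hn2, _root_.pow_two] at h
      exact h
    have hcomm : s * r = r * s := by
      calc s * r = s * r * (s * s) := by rw [hssq, mul_one]
        _ = (s * r * s) * s := by group
        _ = r * s := by rw [hsconj, inv_eq_of_mul_eq_one_right hrr]
    refine klein_data P (fun q hq => ?_) hcard (fun _ _ => psl_one_class)
    have hri : ∀ i : ℤ, r ^ i * r ^ i = 1 := fun i => by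
      rw [← ((Commute.refl r).mul_zpow i), hrr, _root_.one_zpow]
    rcases hcases q hq with ⟨i, rfl⟩ | ⟨i, rfl⟩
    · exact hri i
    · have hcs : s * r ^ i = r ^ i * s := ((show Commute s r from hcomm).zpow_right i).eq
      rw [mul_assoc, ← mul_assoc s, hcs, mul_assoc, hssq, mul_one, hri]
  · right
    obtain ⟨k, rfl⟩ := Nat.exists_eq_add_of_le' hj2
    exact ⟨r, s, k, hrP, hsP, hrord.trans hn, hssq, hsconj, hsnr, hcases⟩

theorem psl_data (hF : 3 < Fintype.card F) :
    ∃ P : Sylow 2 PSL, (∃ z, ElemData (P : Subgroup PSL) z) ∨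
      ∃ r s k, DihData (P : Subgroup PSL) r s k := by
  by_cases h2 : (2 : F) = 0
  · obtain ⟨P, z, h⟩ := psl_even h2 hF
    exact ⟨P, Or.inl ⟨z, h⟩⟩
  · exact psl_odd h2 (Nat.odd_iff.2 (FiniteField.odd_card_of_char_ne_two
      (fun hc => h2 (by
        have h := ringChar.Nat.cast_ringChar (R := F)
        rw [hc] at h; exact_mod_cast h))))

end CfsgLib.Involution.TwoTimesPSL
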