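import Cfsg.Agent.Lib.Involution.TwoTimesPSL.Elementary
import Cfsg.Agent.Lib.Involution.TwoTimesPSL.Dihedral
import Cfsg.Agent.Lib.Involution.TwoTimesPSL.PSLData
import Cfsg.Agent.Lib.LocalEven.TwoFactor.GenConstrained

/-!
# Lifting the Sylow structure of `2 × L` through an odd kernel
-/

set_option autoImplicit false
set_option linter.style.haveILetI false
set_option linter.unusedSectionVars false

namespace CfsgLib.Involution.TwoTimesPSL

open Subgroup
open scoped Pointwise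

theorem zmod_two_mul : ∀ a b : Multiplicative (ZMod 2), a ≠ 1 → b ≠ 1 → a * b = 1 := by decide

section Lift

variable {C Q : Type*} [Group C] [Finite C] [Group Q] {π : C →* Q}

theorem eq_one_of_two (hker : Odd (Nat.card π.ker)) {x : C} {k : ℕ} (hx : x ^ 2 ^ k = 1)
    (h1 : π x = 1) : x = 1 := by
  have hdvd : orderOf x ∣ Nat.card π.ker :=
    Subgroup.orderOf_dvd_natCard _ (MonoidHom.mem_ker.2 h1)
  have hcop : Nat.Coprime (2 ^ k) (Nat.card π.ker) := (Nat.coprime_two_left.2 hker).pow_left k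
  exact orderOf_eq_one_iff.1 (Nat.eq_one_of_dvd_coprimes hcop (orderOf_dvd_of_pow_eq_one hx) hdvd)

theorem eq_of_two (hker : Odd (Nat.card π.ker)) {S : Subgroup C} (hS : IsPGroup 2 S) {x y : C}
    (hx : x ∈ S) (hy : y ∈ S) (h : π x = π y) : x = y := by
  obtain ⟨k, hk⟩ := hS ⟨x * y⁻¹, mul_mem hx (inv_mem hy)⟩
  have hk' := congrArg Subtype.val hk
  rw [SubgroupClass.coe_pow, OneMemClass.coe_one] at hk'
  exact mul_inv_eq_one.1 (eq_one_of_two hker hk' (by rw [map_mul, map_inv, h, mul_inv_cancel]))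

theorem exists_sylow_over (hsurj : Function.Surjective π) {X : Subgroup Q} (hX : IsPGroup 2 X) :
    ∃ S : Sylow 2 C, X ≤ (S : Subgroup C).map π := by
  haveI : Fact (Nat.Prime 2) := ⟨Nat.prime_two⟩
  obtain ⟨R, hR⟩ := hX.exists_le_sylow
  obtain ⟨S, hS⟩ := Sylow.mapSurjective_surjective hsurj 2 R
  refine ⟨S, ?_⟩
  rw [← Sylow.coe_mapSurjective hsurj S, hS]
  exact hR

theorem conj_of_conj (hsurj : Function.Surjective π) (hker : Odd (Nat.card π.ker)) {x y : C}
    (hx : x * x = 1) (hy : y * y = 1) {q : Q} (h : q * π x * q⁻¹ = π y) :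
    ∃ c, c * x * c⁻¹ = y := by
  obtain ⟨c, rfl⟩ := hsurj q
  have hx' : (c * x * c⁻¹) * (c * x * c⁻¹) = 1 := by rw [conj_mul, hx]; group
  have hmem : c * x * c⁻¹ * y ∈ π.ker := by
    rw [MonoidHom.mem_ker, map_mul, map_mul, map_mul, map_inv, h, ← map_mul, hy, map_one]
  obtain ⟨w, -, hw⟩ := exists_conj_of_odd_mul hx' hy
    (hker.of_dvd_nat (Subgroup.orderOf_dvd_natCard _ hmem))
  exact ⟨w * c, by rw [← hw]; group⟩

theorem exists_normalizer_lift (hsurj : Function.Surjective π) (hker : Odd (Nat.card π.ker))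
    {D : Subgroup C} (hD : IsPGroup 2 D) {q : Q} (hq : ∀ d ∈ D, q * π d * q⁻¹ ∈ D.map π) :
    ∃ c, π c = q ∧ ∀ d ∈ D, c * d * c⁻¹ ∈ D := by
  obtain ⟨l, rfl⟩ := hsurj q
  obtain ⟨o, ho, hn⟩ := CfsgLib.LocalEven.TwoFactor.exists_lift_normalizer (O := π.ker)
    (Nat.coprime_two_right.2 hker) hD (l := l) (fun d hd => by
      obtain ⟨d', hd', he⟩ := hq d hd
      have hm : l * d * l⁻¹ * d'⁻¹ ∈ π.ker := by
        rw [MonoidHom.mem_ker, map_mul, map_mul, map_mul, map_inv, map_inv, ← he, mul_inv_cancel]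
      have := Subgroup.mul_mem_sup hm hd'
      rwa [inv_mul_cancel_right] at this)
  refine ⟨o * l, ?_, fun d hd => (mem_normalizer_iff.1 hn d).1 hd⟩
  rw [map_mul, MonoidHom.mem_ker.1 ho, one_mul]

end Lift

theorem orderOf_eq_of_pow_iff {G H : Type*} [Monoid G] [Monoid H] {x : G} {y : H}
    (h : ∀ n : ℕ, x ^ n = 1 ↔ y ^ n = 1) : orderOf x = orderOf y :=
  orderOf_eq_orderOf_iff.2 h

/-- The Sylow 2-subgroup of `C(t)` when `C(t)` modulo an odd core has the layer `2 × L`. -/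
theorem cases_of_iso {G : Type*} [Group G] [Finite G] {t : G} (ht : orderOf t = 2) {L : Type*}
    [Group L] [Finite L] [IsSimpleGroup L] (hZ : center L = ⊥)
    (hone : ∀ x y : L, x ≠ 1 → x * x = 1 → y ≠ 1 → y * y = 1 → IsConj x y)
    {Q : Type*} [Group Q] {C : Subgroup G} (hC : C = centralizer ({t} : Set G)) (π : C →* Q) (hsurj : Function.Surjective π)
    (hker : Odd (Nat.card π.ker))
    (e : Subgroup.closure {x : Q | ∃ k : ℕ, orderOf x = 2 ^ k} ≃* Multiplicative (ZMod 2) × L)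
    (P : Sylow 2 L) (hdata : (∃ z, ElemData (P : Subgroup L) z) ∨
      ∃ r s k, DihData (P : Subgroup L) r s k) :
    (∃ T D K z, Elem t T D K z) ∨ ∃ T D K r s k, Dih t T D K r s k := by
  classical
  haveI : Fact (Nat.Prime 2) := ⟨Nat.prime_two⟩
  haveI : Finite Q := Finite.of_surjective π hsurj
  set M := Subgroup.closure {x : Q | ∃ k : ℕ, orderOf x = 2 ^ k} with hM
  -- `L` is not commutative
  have hLnc : ¬ IsMulCommutative L := by
    intro hc
    have htriv : ∀ a : L, a = 1 := fun a => by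
      have ha : a ∈ center L := mem_center_iff.2 fun b => hc.is_comm.comm b a
      rwa [hZ, mem_bot] at ha
    obtain ⟨a, b, hab⟩ := exists_pair_ne L
    exact hab ((htriv a).trans (htriv b).symm)
  -- the layer
  have hMn : ∀ q : Q, ∀ m ∈ M, q * m * q⁻¹ ∈ M := by
    intro q m hm
    have h1 : M.map (MulAut.conj q).toMonoidHom ≤ M := by
      rw [hM, MonoidHom.map_closure]
      refine closure_mono ?_
      rintro _ ⟨x, ⟨k, hk⟩, rfl⟩
      exact ⟨k, by rw [← hk]; exact MulEquiv.orderOf_eq (MulAut.conj q) x⟩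
    exact h1 ⟨m, hm, rfl⟩
  let φ : L →* Q := M.subtype.comp
    (e.symm.toMonoidHom.comp (MonoidHom.inr (Multiplicative (ZMod 2)) L))
  have hφinj : Function.Injective φ := fun a b h =>
    (Prod.ext_iff.1 (e.symm.injective (Subtype.ext h) :
      ((1, a) : Multiplicative (ZMod 2) × L) = (1, b))).2
  have hφM : ∀ a, φ a ∈ M := fun a => SetLike.coe_mem _
  have hφe : ∀ a (h : φ a ∈ M), e ⟨φ a, h⟩ = (1, a) := fun a _ => e.apply_symm_apply _
  have hmem : ∀ m (h : m ∈ M), (e ⟨m, h⟩).1 = 1 → m ∈ φ.range := by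
    intro m h h1
    refine ⟨(e ⟨m, h⟩).2, ?_⟩
    show ((e.symm (1, (e ⟨m, h⟩).2) : M) : Q) = m
    rw [← h1, e.symm_apply_apply]
  haveI hRn : φ.range.Normal := ⟨by
    rintro _ ⟨a, rfl⟩ q
    refine hmem _ (hMn q _ (hφM a)) ?_
    exact hom_trivial hLnc ((MonoidHom.fst (Multiplicative (ZMod 2)) L).comp
      (e.toMonoidHom.comp (((MulAut.conj q).toMonoidHom.comp φ).codRestrict M
        (fun b => hMn q _ (hφM b))))) a⟩
  -- the involution
  have htt : t * t = 1 := by rw [← pow_two, ← ht, pow_orderOf_eq_one]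
  have htne : t ≠ 1 := fun h => by rw [h, orderOf_one] at ht; omega
  subst hC
  let tc : centralizer ({t} : Set G) := ⟨t, mem_cen rfl⟩
  have htc : tc * tc = 1 := Subtype.ext htt
  have htc1 : tc ≠ 1 := fun h => htne (congrArg Subtype.val h)
  have hτ1 : π tc ≠ 1 := fun h => htc1 (eq_one_of_two (k := 1) hker (by
    rw [pow_one, pow_two]; exact htc) h)
  have hτM : π tc ∈ M := subset_closure ⟨1, by
    rw [pow_one]; exact orderOf_eq_prime (by rw [pow_two, ← map_mul, htc, map_one]) hτ1⟩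
  have htccomm : ∀ c : (centralizer ({t} : Set G)), c * tc = tc * c := fun c => Subtype.ext (comm_of_mem c.2)
  have hτfst : (e ⟨π tc, hτM⟩).1 ≠ 1 := by
    intro h1
    have h2 : (e ⟨π tc, hτM⟩).2 ∈ center L := by
      rw [mem_center_iff]
      intro a
      obtain ⟨c, hc⟩ := hsurj (φ a)
      have h3 : (⟨φ a, hφM a⟩ : M) * ⟨π tc, hτM⟩ = ⟨π tc, hτM⟩ * ⟨φ a, hφM a⟩ :=
        Subtype.ext (by
          show φ a * π tc = π tc * φ a
          rw [← hc, ← map_mul, htccomm, map_mul])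
      have h4 := congrArg (fun m => (e m).2) h3
      simp only [map_mul, Prod.snd_mul, hφe] at h4
      exact h4
    rw [hZ, mem_bot] at h2
    have h5 : e ⟨π tc, hτM⟩ = 1 := Prod.ext h1 h2
    exact hτ1 (congrArg Subtype.val (e.injective (h5.trans (map_one e).symm)))
  have hsplit : ∀ m ∈ M, m ∈ φ.range ∨ π tc * m ∈ φ.range := by
    intro m hm
    by_cases h1 : (e ⟨m, hm⟩).1 = 1
    · exact Or.inl (hmem m hm h1)
    · refine Or.inr (hmem _ (mul_mem hτM hm) ?_)
      rw [show (⟨π tc * m, mul_mem hτM hm⟩ : M) = ⟨π tc, hτM⟩ * ⟨m, hm⟩ from rfl, map_mul,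
        Prod.fst_mul]
      exact zmod_two_mul _ _ hτfst h1
  have hτnot : π tc ∉ φ.range := by
    rintro ⟨a, ha⟩
    apply hτfst
    have : (⟨π tc, hτM⟩ : M) = ⟨φ a, hφM a⟩ := Subtype.ext ha.symm
    rw [this, hφe]
  -- the Sylow subgroup
  set K' : Subgroup (centralizer ({t} : Set G)) := φ.range.comap π with hK'
  obtain ⟨S, hS⟩ := exists_sylow_over hsurj (P.2.map φ)
  have hS2 : IsPGroup 2 (S : Subgroup (centralizer ({t} : Set G))) := S.2
  have hinP : ∀ x ∈ (S : Subgroup (centralizer ({t} : Set G))), ∀ a, π x = φ a → a ∈ (P : Subgroup L) := by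
    intro x hx a ha
    have h1 : (((S : Subgroup (centralizer ({t} : Set G))).map π).comap φ) = (P : Subgroup L) :=
      P.3 ((hS2.map π).comap_of_injective φ hφinj) (fun b hb => hS ⟨b, hb, rfl⟩)
    rw [← h1]
    exact ⟨x, hx, ha⟩
  set D' : Subgroup (centralizer ({t} : Set G)) := (S : Subgroup (centralizer ({t} : Set G))) ⊓ K' with hD'
  have hD2 : IsPGroup 2 D' := hS2.to_le inf_le_left
  have hlift : ∀ a ∈ (P : Subgroup L), ∃ x ∈ D', π x = φ a := by
    intro a ha
    obtain ⟨x, hx, hxa⟩ := hS ⟨a, ha, rfl⟩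
    exact ⟨x, ⟨hx, ⟨a, hxa.symm⟩⟩, hxa⟩
  have hdown : ∀ x ∈ D', ∃ a ∈ (P : Subgroup L), π x = φ a := by
    rintro x ⟨hx, a, ha⟩
    exact ⟨a, hinP x hx a ha.symm, ha.symm⟩
  have hinjD : ∀ {x y : (centralizer ({t} : Set G))}, x ∈ D' → y ∈ D' → π x = π y → x = y := fun hx hy h =>
    eq_of_two hker hD2 hx hy h
  have htS : tc ∈ (S : Subgroup (centralizer ({t} : Set G))) := by
    obtain ⟨R, hR⟩ := (two_group_zpowers (x := tc) (k := 1) (by
      rw [pow_one, pow_two]; exact htc)).exists_le_sylow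
    obtain ⟨c, hc⟩ := MulAction.exists_smul_eq (centralizer ({t} : Set G)) R S
    have h1 : MulAut.conj c • tc ∈ MulAut.conj c • (R : Subgroup (centralizer ({t} : Set G))) :=
      smul_mem_pointwise_smul _ _ _ (hR (mem_zpowers tc))
    rw [← Sylow.pointwise_smul_def, ← Sylow.smul_def, hc] at h1
    have h2 : MulAut.conj c • tc = tc := by
      show c * tc * c⁻¹ = tc
      rw [htccomm, mul_inv_cancel_right]
    rwa [h2] at h1
  set T : Subgroup G := (S : Subgroup (centralizer ({t} : Set G))).map (centralizer ({t} : Set G)).subtype with hT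
  set K : Subgroup G := K'.map (centralizer ({t} : Set G)).subtype with hKdef
  have hDmem : ∀ {g : G}, g ∈ T ⊓ K → ∃ x ∈ D', (x : G) = g := by
    rintro g ⟨⟨x, hx, rfl⟩, y, hy, hxy⟩
    have : y = x := Subtype.ext hxy
    exact ⟨x, ⟨hx, this ▸ hy⟩, rfl⟩
  have hDin : ∀ {x : (centralizer ({t} : Set G))}, x ∈ D' → (x : G) ∈ T ⊓ K := fun {x} hx =>
    ⟨⟨x, hx.1, rfl⟩, ⟨x, hx.2, rfl⟩⟩
  -- parity
  have hparity : ∃ χ : (centralizer ({t} : Set G)) →* ℤˣ, (∀ c : (centralizer ({t} : Set G)), (c : G) = t → χ c = -1) ∧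
      ∀ c : (centralizer ({t} : Set G)), (c : G) ∈ K → χ c = 1 := by
    have hodd : Odd M.index := by
      obtain ⟨R⟩ : Nonempty (Sylow 2 Q) := Sylow.nonempty
      have hle : (R : Subgroup Q) ≤ M := fun x hx => subset_closure (by
        obtain ⟨k, hk⟩ := IsPGroup.iff_orderOf.1 R.2 ⟨x, hx⟩
        exact ⟨k, by rw [← hk, Subgroup.orderOf_mk]⟩)
      rw [Nat.odd_iff, ← Nat.two_dvd_ne_zero]
      exact fun h => R.not_dvd_index (h.trans (index_dvd_of_le hle))
    have hidx : φ.range.index = 2 * M.index := by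
      have h1 := φ.range.card_mul_index
      have h2 := M.card_mul_index
      have h3 : Nat.card φ.range = Nat.card L :=
        Nat.card_congr (MonoidHom.ofInjective hφinj).toEquiv.symm
      have h4 : Nat.card M = 2 * Nat.card L := by
        rw [Nat.card_congr e.toEquiv, Nat.card_prod, Nat.card_eq_fintype_card
          (α := Multiplicative (ZMod 2))]
        simp
      rw [h3] at h1
      rw [h4, ← h1] at h2
      have hpos : 0 < Nat.card L := Nat.card_pos
      exact Nat.eq_of_mul_eq_mul_left hpos (by rw [← h2]; ring)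
    obtain ⟨ε, hε⟩ := exists_parity ((centralizer ({t} : Set G)) ⧸ K') hodd (by
      rw [← Subgroup.index_eq_card, hK', index_comap_of_surjective _ hsurj, hidx])
    refine ⟨ε.comp (QuotientGroup.mk' K'), fun c hc => ?_, fun c hc => ?_⟩
    · obtain rfl : c = tc := Subtype.ext hc
      refine hε _ (by rw [← map_mul, htc, map_one]) fun h => hτnot ?_
      exact (QuotientGroup.eq_one_iff tc).1 h
    · obtain ⟨y, hy, hyc⟩ := hc
      obtain rfl : y = c := Subtype.ext hyc
      rw [MonoidHom.comp_apply, QuotientGroup.mk'_apply, (QuotientGroup.eq_one_iff y).2 hy, map_one]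
  have hctx : Ctx t T (T ⊓ K) K := by
    refine ⟨htt, htne, map_subtype_le _, hS2.map _, ?_, ⟨tc, htS, rfl⟩, ?_, map_subtype_le _, ?_,
      rfl, ?_, ?_, hparity⟩
    · intro R hR hRC
      obtain ⟨R', hR'⟩ := (hR.comap_of_injective (centralizer ({t} : Set G)).subtype (centralizer ({t} : Set G)).subtype_injective).exists_le_sylow
      obtain ⟨c, hc⟩ := MulAction.exists_smul_eq (centralizer ({t} : Set G)) R' S
      refine ⟨c, c.2, fun x hx => ?_⟩
      have h1 : MulAut.conj c • (⟨x, hRC hx⟩ : (centralizer ({t} : Set G))) ∈ MulAut.conj c • (R' : Subgroup (centralizer ({t} : Set G))) :=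
        smul_mem_pointwise_smul _ _ _ (hR' hx)
      rw [← Sylow.pointwise_smul_def, ← Sylow.smul_def, hc] at h1
      exact ⟨_, h1, rfl⟩
    · rintro ⟨y, hy, hyt⟩
      obtain rfl : y = tc := Subtype.ext hyt
      exact hτnot hy
    · intro c hc k hk
      obtain ⟨y, hy, rfl⟩ := hk
      exact ⟨⟨c, hc⟩ * y * ⟨c, hc⟩⁻¹, Subgroup.Normal.conj_mem inferInstance _ hy _, rfl⟩
    · rintro _ ⟨x, hx, rfl⟩
      have hxM : π x ∈ M := subset_closure (by
        obtain ⟨k, hk⟩ := hS2 ⟨x, hx⟩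
        have hk' : x ^ 2 ^ k = 1 := congrArg Subtype.val hk
        obtain ⟨j, -, hj⟩ := (Nat.dvd_prime_pow Nat.prime_two).1
          (orderOf_dvd_of_pow_eq_one (show (π x) ^ 2 ^ k = 1 by rw [← map_pow, hk', map_one]))
        exact ⟨j, hj⟩)
      rcases hsplit _ hxM with h1 | h1
      · exact Or.inl (hDin ⟨hx, h1⟩)
      · rw [← map_mul] at h1
        exact Or.inr (hDin (x := tc * x) ⟨mul_mem htS hx, h1⟩)
    · intro x hx y hy hx2 hx1 hy2 hy1
      obtain ⟨x, ⟨a, ha⟩, rfl⟩ := hx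
      obtain ⟨y, ⟨b, hb⟩, rfl⟩ := hy
      have hx2' : x * x = 1 := Subtype.ext hx2
      have hy2' : y * y = 1 := Subtype.ext hy2
      have hx1' : π x ≠ 1 := fun h => hx1 (congrArg Subtype.val (eq_one_of_two (k := 1) hker
        (by rw [pow_one, pow_two]; exact hx2') h))
      have hy1' : π y ≠ 1 := fun h => hy1 (congrArg Subtype.val (eq_one_of_two (k := 1) hker
        (by rw [pow_one, pow_two]; exact hy2') h))
      obtain ⟨g, hg⟩ := isConj_iff.1 (hone a b
        (fun h => hx1' (by rw [← ha, h, map_one]))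
        (hφinj (by rw [map_mul, ha, ← map_mul, hx2', map_one, map_one]))
        (fun h => hy1' (by rw [← hb, h, map_one]))
        (hφinj (by rw [map_mul, hb, ← map_mul, hy2', map_one, map_one])))
      obtain ⟨c, hc⟩ := conj_of_conj hsurj hker hx2' hy2' (q := φ g)
        (by rw [← ha, ← hb, ← map_inv, ← map_mul, ← map_mul, hg])
      exact ⟨c, c.2, congrArg Subtype.val hc⟩
  rcases hdata with ⟨z₀, hz⟩ | ⟨r₀, s₀, k, hd⟩
  · left
    obtain ⟨c, hc, hcD⟩ := exists_normalizer_lift hsurj hker hD2 (q := φ z₀) (fun d hd => by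
      obtain ⟨a, ha, hda⟩ := hdown d hd
      obtain ⟨x, hx, hxa⟩ := hlift _ (hz.conj a ha)
      exact ⟨x, hx, by rw [hxa, hda, map_mul, map_mul, map_inv]⟩)
    obtain ⟨f, m, hm, hfm⟩ := Nat.exists_eq_two_pow_mul_odd (orderOf_pos c).ne'
    refine ⟨T, T ⊓ K, K, ((c ^ 2 ^ f : (centralizer ({t} : Set G))) : G), hctx, ?_, ?_, (c ^ 2 ^ f : (centralizer ({t} : Set G))).2, ?_, ?_, ?_⟩
    · intro g hg
      obtain ⟨x, hx, rfl⟩ := hDmem hg
      obtain ⟨a, ha, hxa⟩ := hdown x hx
      exact congrArg Subtype.val (hinjD (mul_mem hx hx) (one_mem _)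
        (by rw [map_mul, hxa, ← map_mul, hz.sq a ha, map_one, map_one]))
    · refine hz.card.trans ?_
      choose f' hf' hf'' using hlift
      refine Nat.card_le_card_of_injective
        (fun a : (P : Subgroup L) => (⟨(f' a a.2 : (centralizer ({t} : Set G))), hDin (hf' a a.2)⟩ : (T ⊓ K : Subgroup G))) ?_
      intro a b hab
      have h1 : f' a a.2 = f' b b.2 := Subtype.ext (congrArg (fun u : (T ⊓ K : Subgroup G) => (u : G)) hab)
      exact Subtype.ext (hφinj (by rw [← hf'' a a.2, ← hf'' b b.2, h1]))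
    · rw [Subgroup.orderOf_coe]
      exact hm.of_dvd_nat (orderOf_dvd_of_pow_eq_one
        (by rw [← pow_mul, ← hfm, pow_orderOf_eq_one]))
    · intro g hg
      obtain ⟨x, hx, rfl⟩ := hDmem hg
      exact hDin (conj_pow_mem hcD (2 ^ f) x hx)
    · intro g hg g' hg' hg1 hg1'
      obtain ⟨x, hx, rfl⟩ := hDmem hg
      obtain ⟨y, hy, rfl⟩ := hDmem hg'
      obtain ⟨a, ha, hxa⟩ := hdown x hx
      obtain ⟨b, hb, hyb⟩ := hdown y hy
      obtain ⟨j, hj⟩ := hz.trans.pow_two hz.odd f a ha b hb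
        (fun h => hg1 (by
          rw [hinjD hx (one_mem _) (by rw [hxa, h, map_one, map_one])]; rfl))
        (fun h => hg1' (by
          rw [hinjD hy (one_mem _) (by rw [hyb, h, map_one, map_one])]; rfl))
      refine ⟨j, ?_⟩
      have hh : (c ^ 2 ^ f) ^ j * x * ((c ^ 2 ^ f) ^ j)⁻¹ = y := by
        refine hinjD ?_ hy ?_
        · rw [← pow_mul]; exact conj_pow_mem hcD _ x hx
        · rw [map_mul, map_mul, map_inv, map_pow, map_pow, hc, hxa, hyb, ← hj]
          simp only [map_mul, map_inv, map_pow]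
      exact congrArg Subtype.val hh
  · right
    obtain ⟨r, hr, hra⟩ := hlift r₀ hd.rD
    obtain ⟨s, hs, hsa⟩ := hlift s₀ hd.sD
    refine ⟨T, T ⊓ K, K, (r : G), (s : G), k, hctx, hDin hr, hDin hs, ?_, ?_, ?_, ?_, ?_⟩
    · rw [Subgroup.orderOf_coe, ← hd.rord]
      refine orderOf_eq_of_pow_iff fun n => ⟨fun h => hφinj ?_, fun h => hinjD (pow_mem hr n) (one_mem _) ?_⟩
      · rw [map_pow, ← hra, ← map_pow, h, map_one, map_one]
      · rw [map_pow, hra, ← map_pow, h, map_one, map_one]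
    · exact congrArg Subtype.val (hinjD (mul_mem hs hs) (one_mem _)
        (by rw [map_mul, hsa, ← map_mul, hd.ssq, map_one, map_one]))
    · exact congrArg Subtype.val (hinjD (mul_mem (mul_mem hs hr) hs) (inv_mem hr)
        (by rw [map_mul, map_mul, map_inv, hsa, hra, ← map_mul, ← map_mul, hd.sconj, map_inv]))
    · rintro ⟨i, hi⟩
      refine hd.snr ⟨i, hφinj ?_⟩
      have hi' : r ^ i = s := Subtype.ext (by rw [SubgroupClass.coe_zpow]; exact hi)
      show φ (r₀ ^ i) = φ s₀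
      rw [map_zpow, ← hra, ← hsa, ← map_zpow, hi']
    · intro g hg
      obtain ⟨x, hx, rfl⟩ := hDmem hg
      obtain ⟨a, ha, hxa⟩ := hdown x hx
      rcases hd.cases_D a ha with ⟨i, rfl⟩ | ⟨i, rfl⟩
      · exact Or.inl ⟨i, by
          rw [hinjD hx (zpow_mem hr i) (by rw [hxa, map_zpow, ← hra, map_zpow]),
            SubgroupClass.coe_zpow]⟩
      · exact Or.inr ⟨i, by
          rw [hinjD hx (mul_mem (zpow_mem hr i) hs)
            (by rw [hxa, map_mul, map_zpow, ← hra, ← hsa, map_mul, map_zpow]),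
            Subgroup.coe_mul, SubgroupClass.coe_zpow]⟩

end CfsgLib.Involution.TwoTimesPSL
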