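import Cfsg.Agent.Lib.Involution.TwoTimesPSL.Basic

/-!
# Counting and Sylow tools for subgroups
-/

set_option autoImplicit false
set_option linter.style.haveILetI false

namespace CfsgLib.Involution.TwoTimesPSL

open Subgroup

variable {G : Type*} [Group G]

/-- `z` permutes the nontrivial elements of `D` transitively. -/
def Trans (z : G) (D : Subgroup G) : Prop :=
  ∀ x ∈ D, ∀ y ∈ D, x ≠ 1 → y ≠ 1 → ∃ k : ℕ, z ^ k * x * (z ^ k)⁻¹ = y

theorem conj_pow_mem {z : G} {D : Subgroup G} (h : ∀ d ∈ D, z * d * z⁻¹ ∈ D) :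
    ∀ (k : ℕ), ∀ d ∈ D, z ^ k * d * (z ^ k)⁻¹ ∈ D := by
  intro k
  induction k with
  | zero => intro d hd; simpa using hd
  | succ k ih =>
    intro d hd
    rw [show z ^ (k + 1) * d * (z ^ (k + 1))⁻¹ = z * (z ^ k * d * (z ^ k)⁻¹) * z⁻¹ by
      rw [pow_succ']; group]
    exact h _ (ih d hd)

theorem mem_normalizer_of_conj [Finite G] {z : G} {D : Subgroup G}
    (h : ∀ d ∈ D, z * d * z⁻¹ ∈ D) : z ∈ normalizer (D : Set G) := by
  rw [mem_normalizer_iff]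
  intro d
  refine ⟨h d, fun hd => ?_⟩
  obtain ⟨k, hk⟩ : ∃ k : ℕ, z ^ k = z⁻¹ := ⟨orderOf z - 1, by
    refine (inv_eq_of_mul_eq_one_right ?_).symm
    rw [← pow_succ', Nat.sub_add_cancel (orderOf_pos z), pow_orderOf_eq_one]⟩
  have := conj_pow_mem h k _ hd
  rwa [hk, inv_inv, show z⁻¹ * (z * d * z⁻¹) * z = d by group] at this

theorem Trans.pow_two {z : G} {D : Subgroup G} (h : Trans z D) (hodd : Odd (orderOf z)) (a : ℕ) :
    Trans (z ^ 2 ^ a) D := by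
  intro x hx y hy hx1 hy1
  obtain ⟨k, hk⟩ := h x hx y hy hx1 hy1
  obtain ⟨j, hj⟩ := exists_pow_eq_self_of_coprime (x := z) (n := 2 ^ a)
    ((Nat.coprime_two_left.2 hodd).pow_left a)
  refine ⟨j * k, ?_⟩
  rw [← pow_mul, ← mul_assoc, pow_mul, pow_mul, hj]
  exact hk

theorem two_group_zpowers {x : G} {k : ℕ} (h : x ^ 2 ^ k = 1) : IsPGroup 2 (zpowers x) := by
  rintro ⟨_, i, rfl⟩
  refine ⟨k, Subtype.ext ?_⟩
  show (x ^ i) ^ 2 ^ k = 1
  rw [← zpow_natCast, ← zpow_mul, mul_comm, zpow_mul, zpow_natCast, h, one_zpow]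

theorem two_group_of_sq [Finite G] {H : Subgroup G} (h : ∀ x ∈ H, x * x = 1) : IsPGroup 2 H := by
  intro x
  refine ⟨1, Subtype.ext ?_⟩
  rw [SubgroupClass.coe_pow, pow_one, _root_.pow_two]
  exact h x x.2

theorem exists_ne_one_of_card {H : Subgroup G} (h : 1 < Nat.card H) : ∃ x ∈ H, x ≠ 1 := by
  by_contra hne
  push Not at hne
  rw [(Subgroup.eq_bot_iff_forall H).2 hne, card_bot] at h
  omega

theorem card_conj_mul [Finite G] (t : G) (N : Subgroup G) (X : Set G)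
    (hX : ∀ n ∈ N, n * t * n⁻¹ ∈ X) (hs : ∀ x ∈ X, ∃ n ∈ N, n * t * n⁻¹ = x) :
    Nat.card N = Nat.card X * Nat.card (N ⊓ centralizer ({t} : Set G) : Subgroup G) := by
  classical
  choose f hfN hf using hs
  rw [← Nat.card_prod]
  refine Nat.card_congr
    { toFun := fun n => (⟨n * t * (n : G)⁻¹, hX n n.2⟩,
        ⟨(f _ (hX n n.2))⁻¹ * n, N.mul_mem (N.inv_mem (hfN _ (hX n n.2))) n.2, mem_cen ?_⟩)
      invFun := fun p => ⟨f p.1 p.1.2 * p.2, mul_mem (hfN _ p.1.2) p.2.2.1⟩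
      left_inv := fun n => Subtype.ext (mul_inv_cancel_left _ _)
      right_inv := fun p => ?_ }
  · have e := hf _ (hX n n.2)
    calc (f _ (hX n n.2))⁻¹ * n * t = (f _ (hX n n.2))⁻¹ * ((n : G) * t * (n : G)⁻¹) * n := by group
      _ = (f _ (hX n n.2))⁻¹ * (f _ (hX n n.2) * t * (f _ (hX n n.2))⁻¹) * n := by rw [e]
      _ = t * ((f _ (hX n n.2))⁻¹ * n) := by group
  · obtain ⟨⟨x, hx⟩, a⟩ := p
    have hat := comm_of_mem a.2.2
    have e : f x hx * (a : G) * t * (f x hx * (a : G))⁻¹ = x := by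
      calc f x hx * (a : G) * t * (f x hx * (a : G))⁻¹
          = f x hx * ((a : G) * t) * (a : G)⁻¹ * (f x hx)⁻¹ := by group
        _ = f x hx * t * (f x hx)⁻¹ := by rw [hat]; group
        _ = x := hf x hx
    refine Prod.ext (Subtype.ext e) (Subtype.ext ?_)
    show (f _ _)⁻¹ * (f x hx * (a : G)) = a
    rw [show f _ _ = f x hx by congr 1, inv_mul_cancel_left]

theorem card_double [Finite G] {U R : Subgroup G} {t : G} (hle : U ≤ R) (htR : t ∈ R) (htU : t ∉ U)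
    (htt : t * t = 1)     (hsplit : ∀ x ∈ R, x ∈ U ∨ t * x ∈ U) : Nat.card R = 2 * Nat.card U := by
  classical
  rw [show 2 = Nat.card Bool by simp, ← Nat.card_prod]
  have hmem : ∀ a : Bool × U, (if a.1 then t else 1) * (a.2 : G) ∈ R := fun a =>
    mul_mem (by split; exacts [htR, one_mem _]) (hle a.2.2)
  refine (Nat.card_congr (Equiv.ofBijective (fun a : Bool × U => (⟨_, hmem a⟩ : R)) ⟨?_, ?_⟩)).symm
  · rintro ⟨b, u⟩ ⟨b', u'⟩ e
    have e1 : (if b then t else 1) * (u : G) = (if b' then t else 1) * (u' : G) := congrArg Subtype.val e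
    cases b <;> cases b' <;> simp at e1
    · simp [e1]
    · exact absurd ((mul_mem_cancel_right u'.2).1 (e1 ▸ u.2)) htU
    · exact absurd ((mul_mem_cancel_right u.2).1 (e1.symm ▸ u'.2)) htU
    · simp [e1]
  · intro x
    by_cases hx : (x : G) ∈ U
    · exact ⟨(false, ⟨x, hx⟩), Subtype.ext (by simp)⟩
    · exact ⟨(true, ⟨t * x, (hsplit x x.2).resolve_left hx⟩), Subtype.ext (by simp [← mul_assoc, htt])⟩

/-- `V` is a Sylow 2-subgroup of `W`. -/
structure IsSyl (W V : Subgroup G) : Prop where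
  le : V ≤ W
  two : IsPGroup 2 V
  odd : ¬ 2 ∣ V.relIndex W

theorem IsSyl.exists_ge [Finite G] {W Q : Subgroup G} (hQ : IsPGroup 2 Q) (hQW : Q ≤ W) :
    ∃ V, IsSyl W V ∧ Q ≤ V := by
  haveI : Fact (Nat.Prime 2) := ⟨Nat.prime_two⟩
  obtain ⟨P, hP⟩ := (hQ.comap_of_injective W.subtype (subtype_injective W)).exists_le_sylow
  refine ⟨(P : Subgroup W).map W.subtype, ⟨map_subtype_le _, P.2.map _, ?_⟩, ?_⟩
  · rw [relIndex, subgroupOf, comap_map_eq_self_of_injective (subtype_injective W)]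
    exact P.not_dvd_index
  · intro x hx
    exact ⟨⟨x, hQW hx⟩, hP hx, rfl⟩

theorem IsSyl.exists_conj [Finite G] {W V Q : Subgroup G} (h : IsSyl W V) (hQ : IsPGroup 2 Q)
    (hQW : Q ≤ W) : ∃ w ∈ W, ∀ x ∈ Q, w * x * w⁻¹ ∈ V := by
  haveI : Fact (Nat.Prime 2) := ⟨Nat.prime_two⟩
  obtain ⟨P, hP⟩ := (hQ.comap_of_injective W.subtype (subtype_injective W)).exists_le_sylow
  let P₀ : Sylow 2 W := (h.two.comap_of_injective W.subtype (subtype_injective W)).toSylow h.odd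
  obtain ⟨w, hw⟩ := MulAction.exists_smul_eq W P P₀
  refine ⟨w, w.2, fun x hx => ?_⟩
  have h1 : (⟨x, hQW hx⟩ : W) ∈ (P : Subgroup W) := hP hx
  have h2 : w * ⟨x, hQW hx⟩ * w⁻¹ ∈ (P₀ : Subgroup W) := by
    rw [← hw, Sylow.coe_subgroup_smul]
    exact Subgroup.mem_map.2 ⟨_, h1, rfl⟩
  exact h2

theorem IsSyl.card_eq [Finite G] {W V : Subgroup G} (h : IsSyl W V) {a m : ℕ} (hm : Odd m)
    (hW : Nat.card W = 2 ^ a * m) : Nat.card V = 2 ^ a := by
  haveI : Fact (Nat.Prime 2) := ⟨Nat.prime_two⟩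
  obtain ⟨b, hb⟩ := IsPGroup.iff_card.1 h.two
  have h1 : 2 ^ b * V.relIndex W = 2 ^ a * m := by rw [← hb, ← hW, ← relIndex_bot_left, ← relIndex_bot_left, relIndex_mul_relIndex _ _ _ bot_le h.le]
  have hodd : Odd (V.relIndex W) := Nat.odd_iff.2 (Nat.two_dvd_ne_zero.1 h.odd)
  have h2 : 2 ^ b ∣ 2 ^ a :=
    ((Nat.coprime_two_left.2 hm).pow_left b).dvd_of_dvd_mul_right (h1 ▸ dvd_mul_right _ _)
  have h3 : 2 ^ a ∣ 2 ^ b :=
    ((Nat.coprime_two_left.2 hodd).pow_left a).dvd_of_dvd_mul_right (h1 ▸ dvd_mul_right _ _)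
  rw [hb]
  exact Nat.dvd_antisymm h2 h3

end CfsgLib.Involution.TwoTimesPSL
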